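import Mathlib
import Cfsg.Prelude.Def_LieTypeChar
import Cfsg.Agent.Lib.LieAll.Defs
import Cfsg.Agent.Lib.BN.Steinberg

/-! Doubly transitive actions of the groups of Lie type (plans/CKS.md): definitions. -/

namespace CfsgLib.CKS
open Cfsg MulAction

section
variable {G : Type*} [Group G]

/-- the number of fixed points -/
noncomputable def fx (Ω : Type*) [MulAction G Ω] (g : G) : ℕ := Nat.card (fixedBy Ω g)

/-- a doubly transitive action on at least three points with central kernel -/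
structure TwoTr (G Ω : Type*) [Group G] [MulAction G Ω] : Prop where
  tr : ∀ a b c d : Ω, a ≠ b → c ≠ d → ∃ g : G, g • a = c ∧ g • b = d
  big : 3 ≤ Nat.card Ω
  ker : ∀ g : G, (∀ a : Ω, g • a = a) → g ∈ Subgroup.center G

/-- the subgroup `P` is transitive -/
def TrOn (P : Subgroup G) (Ω : Type*) [MulAction G Ω] : Prop := ∀ a b : Ω, ∃ g ∈ P, g • a = b

/-- the normalisers of the Sylow `p`-subgroups are transitive -/
def BTr (p : ℕ) (G Ω : Type*) [Group G] [MulAction G Ω] : Prop :=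
  ∀ U : Sylow p G, TrOn (Subgroup.normalizer ((U : Subgroup G) : Set G)) Ω

/-- the subgroup `Z` is semiregular -/
def Semi (Z : Subgroup G) (Ω : Type*) [MulAction G Ω] : Prop := ∀ z ∈ Z, z ≠ 1 → ∀ a : Ω, z • a ≠ a

/-- all orbits of `Z` have `r` points -/
def Orb (Z : Subgroup G) (Ω : Type*) [MulAction G Ω] (r : ℕ) : Prop := ∀ a : Ω, (orbit Z a).ncard = r

/-- the conjugates of the non-trivial elements of `Z` -/
def Cls (Z : Subgroup G) : Set G := {t | ∃ z ∈ Z, z ≠ 1 ∧ ∃ g : G, t = g * z * g⁻¹}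

/-- the action of a subgroup normalising `R` on the orbits of `R` -/
@[reducible] def quotAct {Ω : Type*} [MulAction G Ω] {P R : Subgroup G}
    (h : ∀ g ∈ P, ∀ r ∈ R, g * r * g⁻¹ ∈ R) : MulAction P (orbitRel.Quotient R Ω) where
  smul g := Quotient.map (fun a => (g : G) • a) (by
    rintro a b ⟨r, rfl⟩
    exact ⟨⟨_, h g g.2 r r.2⟩, by simp [Subgroup.smul_def, mul_smul]⟩)
  one_smul := by rintro ⟨a⟩; exact congrArg (Quotient.mk _) (one_smul G a)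
  mul_smul := by rintro g g' ⟨a⟩; exact congrArg (Quotient.mk _) (mul_smul (g : G) g' a)

theorem quotAct_mk {Ω : Type*} [MulAction G Ω] {P R : Subgroup G}
    (h : ∀ g ∈ P, ∀ r ∈ R, g * r * g⁻¹ ∈ R) (g : P) (a : Ω) :
    letI := quotAct (Ω := Ω) h
    g • (Quotient.mk _ a : orbitRel.Quotient R Ω) = Quotient.mk _ ((g : G) • a) := rfl

/-- the action of a subgroup centralising `u` on the fixed points of `u` -/
@[reducible] def fixAct {Ω : Type*} [MulAction G Ω] {P : Subgroup G} {u : G}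
    (h : ∀ g ∈ P, Commute g u) : MulAction P (fixedBy Ω u) where
  smul g a := ⟨(g : G) • a.1, by
    have := a.2
    rw [mem_fixedBy] at this ⊢
    rw [← mul_smul, ← (h g g.2).eq, mul_smul, this]⟩
  one_smul a := Subtype.ext (one_smul G a.1)
  mul_smul g g' a := Subtype.ext (mul_smul (g : G) g' a.1)

theorem fixAct_coe {Ω : Type*} [MulAction G Ω] {P : Subgroup G} {u : G}
    (h : ∀ g ∈ P, Commute g u) (g : P) (a : fixedBy Ω u) :
    letI := fixAct (Ω := Ω) h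
    ((g • a : fixedBy Ω u) : Ω) = (g : G) • (a : Ω) := rfl

/-- split BN-pairs whose unipotent group is generated by the groups `X s`; `R J` is the radical of `P_J` -/
structure Split (P : BNPair G) (p : ℕ) (U : Subgroup G) (X : P.S → Subgroup G)
    (R : Set P.S → Subgroup G) : Prop where
  pU : IsPGroup p U
  index_U : ¬ p ∣ U.index
  U_le : U ≤ P.B
  split : ∀ b ∈ P.B, ∃ u ∈ U, ∃ h ∈ P.B ⊓ P.N, b = u * h
  X_le : ∀ s, X s ≤ U
  X_ne : ∀ s, X s ≠ ⊥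
  gen : U ≤ ⨆ s, X s
  asc : ∀ s n (hn : n ∈ P.N), (BN.exch P).P s (BN.cls P hn) → ∀ x ∈ X s, n⁻¹ * x * n ∈ P.B
  R_le : ∀ J, R J ≤ U
  R_norm : ∀ J, ∀ g ∈ BN.par P J, ∀ r ∈ R J, g * r * g⁻¹ ∈ R J
  X_le_R : ∀ J s, s ∉ J → X s ≤ R J
  disj : ∀ J, Disjoint (R J) (⨆ s ∈ J, X s)
  opp : ∀ (J : Set P.S) n (hn : n ∈ P.N), (∀ s ∈ J, ¬ (BN.exch P).P s (BN.cls P hn)) →
    ∀ u ∈ U, n⁻¹ * u * n ∈ P.B → u ∈ R J

end

/-- the projective special linear group -/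
abbrev PSL (d : ℕ) (F : Type*) [Field F] := Matrix.ProjectiveSpecialLinearGroup (Fin d) F

/-- the conclusion of the theorem for degree `n` -/
def Concl (G : Type*) [Group G] (n : ℕ) : Prop :=
    (∃ (F : Type) (_ : Field F) (_ : Fintype F) (l : ℕ), 3 ≤ l ∧ Nonempty (G ≃* PSL l F) ∧
      n * (Fintype.card F - 1) = Fintype.card F ^ l - 1) ∨
    (∃ (F : Type) (_ : Field F) (_ : Fintype F), 4 ≤ Fintype.card F ∧ Nonempty (G ≃* PSL 2 F) ∧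
      n = Fintype.card F + 1) ∨
    (∃ (F : Type) (_ : Field F) (_ : Fintype F) (q : ℕ), 3 ≤ q ∧ Fintype.card F = q ^ 2 ∧
      Nonempty (G ≃* Cfsg.PSU 3 F q) ∧ n = q ^ 3 + 1) ∨
    (∃ (F : Type) (_ : Field F) (_ : Fintype F) (m : ℕ), 1 ≤ m ∧ Fintype.card F = 2 ^ (2 * m + 1) ∧
      Nonempty (G ≃* ↥(Cfsg.Lie.Sz F (2 ^ (m + 1)))) ∧ n = Fintype.card F ^ 2 + 1) ∨
    (∃ (K : Type) (_ : Field K) (_ : Fintype K) (m : ℕ), 1 ≤ m ∧ Fintype.card K = 3 ^ (2 * m + 1) ∧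
      Nonempty (G ≃* ↥(Cfsg.Lie.twistedG2 K (3 ^ m))) ∧ n = Fintype.card K ^ 3 + 1) ∨
    (∃ (F : Type) (_ : Field F) (_ : Fintype F), Fintype.card F = 9 ∧ Nonempty (G ≃* PSL 2 F) ∧ n = 6) ∨
    (∃ (F : Type) (_ : Field F) (_ : Fintype F), Fintype.card F = 11 ∧ Nonempty (G ≃* PSL 2 F) ∧ n = 11) ∨
    (∃ (F : Type) (_ : Field F) (_ : Fintype F), Fintype.card F = 2 ∧ Nonempty (G ≃* PSL 4 F) ∧ n = 8) ∨
    (∃ (F : Type) (_ : Field F) (_ : Fintype F) (m : ℕ), 3 ≤ m ∧ Fintype.card F = 2 ∧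
      Nonempty (G ≃* Cfsg.PSp m F) ∧ (n = 2 ^ (m - 1) * (2 ^ m + 1) ∨ n = 2 ^ (m - 1) * (2 ^ m - 1)))

theorem Concl.of_equiv {G G' : Type*} [Group G] [Group G'] (e : G ≃* G') {n : ℕ} (h : Concl G' n) :
    Concl G n := by
  obtain ⟨F, _, _, l, h1, ⟨f⟩, h2⟩ | ⟨F, _, _, h1, ⟨f⟩, h2⟩ | ⟨F, _, _, l, h0, h1, ⟨f⟩, h2⟩ |
    ⟨F, _, _, l, h0, h1, ⟨f⟩, h2⟩ | ⟨F, _, _, l, h0, h1, ⟨f⟩, h2⟩ | ⟨F, _, _, h1, ⟨f⟩, h2⟩ |
    ⟨F, _, _, h1, ⟨f⟩, h2⟩ | ⟨F, _, _, h1, ⟨f⟩, h2⟩ | ⟨F, _, _, l, h0, h1, ⟨f⟩, h2⟩ := h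
  · exact .inl ⟨F, _, _, l, h1, ⟨e.trans f⟩, h2⟩
  · exact .inr (.inl ⟨F, _, _, h1, ⟨e.trans f⟩, h2⟩)
  · exact .inr (.inr (.inl ⟨F, _, _, l, h0, h1, ⟨e.trans f⟩, h2⟩))
  · exact .inr (.inr (.inr (.inl ⟨F, _, _, l, h0, h1, ⟨e.trans f⟩, h2⟩)))
  · exact .inr (.inr (.inr (.inr (.inl ⟨F, _, _, l, h0, h1, ⟨e.trans f⟩, h2⟩))))
  · exact .inr (.inr (.inr (.inr (.inr (.inl ⟨F, _, _, h1, ⟨e.trans f⟩, h2⟩)))))
  · exact .inr (.inr (.inr (.inr (.inr (.inr (.inl ⟨F, _, _, h1, ⟨e.trans f⟩, h2⟩))))))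
  · exact .inr (.inr (.inr (.inr (.inr (.inr (.inr (.inl ⟨F, _, _, h1, ⟨e.trans f⟩, h2⟩)))))))
  · exact .inr (.inr (.inr (.inr (.inr (.inr (.inr (.inr ⟨F, _, _, l, h0, h1, ⟨e.trans f⟩, h2⟩)))))))

open RGD Twist LieAll in
/-- the unipotent group is generated by the groups of the blocks -/
def Gen {ι κ B : Type} [Fintype κ] [DecidableEq κ] {Φ : RootSys ι κ} {F : Type*} [Field F] {G : Type*} [Group G]
    {S : StSys Φ F G} (T : Tw S B) (M : Subgroup G) : Prop := S.U ⊓ M ≤ ⨆ b, Ub T M b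

end CfsgLib.CKS
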