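import Mathlib
import Cfsg.Agent.Lib.CKS.Defs

/-! CKS, package ABS1: transfers, transitive subgroups, constant orbits, the lemma LINE. -/

set_option linter.unusedSectionVars false
set_option linter.unusedVariables false

namespace CfsgLib.CKS
open MulAction
open scoped Pointwise

variable {G : Type*} [Group G] {Ω : Type*} [MulAction G Ω] {p : ℕ}

theorem relIndex_stab (P : Subgroup G) (a : Ω) : (stabilizer G a).relIndex P = (orbit P a).ncard :=
  index_stabilizer P a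

theorem card_inf_stab_mul (P : Subgroup G) (a : Ω) :
    Nat.card ↥(P ⊓ stabilizer G a) * (orbit P a).ncard = Nat.card P := by
  rw [← relIndex_stab, ← Subgroup.card_mul_index ((stabilizer G a).subgroupOf P),
    ← Subgroup.inf_subgroupOf_left, Nat.card_congr (Subgroup.subgroupOfEquivOfLe inf_le_left).toEquiv,
    Subgroup.inf_subgroupOf_left]
  rfl

theorem mem_orbit_sub {P : Subgroup G} {a b : Ω} : b ∈ orbit P a ↔ ∃ g ∈ P, g • a = b :=
  ⟨fun ⟨g, h⟩ => ⟨g, g.2, h⟩, fun ⟨g, hg, h⟩ => ⟨⟨g, hg⟩, h⟩⟩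

theorem TwoTr.of_isMultiply [Finite Ω] [FaithfulSMul G Ω] (h2 : IsMultiplyPretransitive G Ω 2)
    (hG : ¬ Group.IsSolvable G) : TwoTr G Ω := by
  refine ⟨fun a b c d h h' => is_two_pretransitive_iff.1 h2 h h', by_contra fun h => hG ?_, fun g hg => ?_⟩
  · have : Fact (Nat.Prime 2) := ⟨Nat.prime_two⟩
    have h1 : Nat.card (Equiv.Perm Ω) ∣ 2 := by
      rw [Nat.card_perm]
      obtain h | h | h : Nat.card Ω = 0 ∨ Nat.card Ω = 1 ∨ Nat.card Ω = 2 := by omega
      all_goals rw [h]; decide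
    have := isCyclic_of_card_dvd_prime h1
    refine Group.isSolvable_of_comm fun a b => toPerm_injective (β := Ω) ?_
    exact (map_mul (toPermHom G Ω) a b).trans
      ((IsCyclic.commGroup.mul_comm _ _).trans (map_mul (toPermHom G Ω) b a).symm)
  · rw [show g = 1 from FaithfulSMul.eq_of_smul_eq_smul fun a : Ω => by rw [hg, one_smul]]
    exact one_mem _

namespace TwoTr
variable (H : TwoTr G Ω)
include H

theorem finite : Finite Ω := Nat.finite_of_card_ne_zero (by have := H.big; omega)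

theorem exists_ne_ne (a b : Ω) : ∃ c, c ≠ a ∧ c ≠ b := by
  classical
  have := H.finite
  have := Fintype.ofFinite Ω
  obtain ⟨c, -, hc⟩ := Finset.exists_mem_notMem_of_card_lt_card (s := {a, b}) (t := Finset.univ)
    (Finset.card_le_two.trans_lt (by rw [Finset.card_univ, ← Nat.card_eq_fintype_card]; exact H.big))
  exact ⟨c, by simpa using hc⟩

theorem nonempty : Nonempty Ω := (Nat.card_pos_iff.1 (by have := H.big; omega)).1

theorem trans (a b : Ω) : ∃ g : G, g • a = b := by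
  obtain ⟨c, h1, h2⟩ := H.exists_ne_ne a b
  exact (H.tr a c b c h1.symm h2.symm).imp fun _ h => h.1

theorem isPretransitive : IsPretransitive G Ω := ⟨H.trans⟩

theorem isMultiply : IsMultiplyPretransitive G Ω 2 := is_two_pretransitive_iff.2 fun h h' => H.tr _ _ _ _ h h'

theorem index_stab (a : Ω) : (stabilizer G a).index = Nat.card Ω :=
  have := H.isPretransitive
  index_stabilizer_of_transitive G a

theorem stab_ne_top (a : Ω) : stabilizer G a ≠ ⊤ := fun e => by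
  have h1 := H.index_stab a
  rw [e, Subgroup.index_top] at h1
  have := H.big
  omega

theorem isCoatom_stab (a : Ω) : IsCoatom (stabilizer G a) := by
  refine ⟨H.stab_ne_top a, fun K hK => top_le_iff.1 fun g _ => ?_⟩
  obtain ⟨k, hk, hk'⟩ := SetLike.exists_of_lt hK
  by_cases e : g • a = a
  · exact hK.le e
  obtain ⟨h, h1, h2⟩ := H.tr a (k • a) a (g • a) (Ne.symm hk') (Ne.symm e)
  have : (h * k)⁻¹ * g ∈ stabilizer G a := by
    rw [mem_stabilizer_iff, mul_smul, ← h2, ← mul_smul h, inv_smul_smul]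
  exact (mul_mem_cancel_left (inv_mem (mul_mem (hK.le h1) hk))).1 (hK.le this)

theorem center_smul {z : G} (hz : z ∈ Subgroup.center G) (a : Ω) : z • a = a := by
  by_contra e
  obtain ⟨c, h1, h2⟩ := H.exists_ne_ne a (z • a)
  obtain ⟨g, k1, k2⟩ := H.tr a (z • a) a c (Ne.symm e) h1.symm
  rw [← mul_smul, Subgroup.mem_center_iff.1 hz, mul_smul, k1] at k2
  exact h2 k2.symm

theorem index_stab_two {a b : Ω} (h : a ≠ b) :
    (stabilizer G a ⊓ stabilizer G b).index = Nat.card Ω * (Nat.card Ω - 1) := by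
  have := H.finite
  have e : orbit (stabilizer G a) b = Set.univ \ {a} := by
    ext c
    rw [mem_orbit_sub]
    refine ⟨?_, fun hc => ?_⟩
    · rintro ⟨g, hg, rfl⟩
      exact ⟨trivial, fun e : g • b = a => h (MulAction.injective g (Eq.trans hg e.symm))⟩
    · exact H.tr a b a c h (Ne.symm hc.2)
  rw [← Subgroup.relIndex_mul_index inf_le_left, Subgroup.inf_relIndex_left, relIndex_stab, e, H.index_stab,
    Set.ncard_sdiff_singleton_of_mem (Set.mem_univ a), Set.ncard_univ, mul_comm]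

theorem mul_pred_dvd : Nat.card Ω * (Nat.card Ω - 1) ∣ (Subgroup.center G).index := by
  obtain ⟨a⟩ := H.nonempty
  obtain ⟨b, h, -⟩ := H.exists_ne_ne a a
  rw [← H.index_stab_two h]
  exact Subgroup.index_dvd_of_le fun z hz => ⟨H.center_smul hz b, H.center_smul hz a⟩

theorem card_stab_two {a b : Ω} (h : a ≠ b) :
    Nat.card ↥(stabilizer G a ⊓ stabilizer G b) * (Nat.card Ω * (Nat.card Ω - 1)) = Nat.card G := by
  rw [← H.index_stab_two h, Subgroup.card_mul_index]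

/-- lifting to a covering group -/
theorem lift {L : Type*} [Group L] [MulAction L Ω] (f : L →* G) (hf : Function.Surjective f)
    (hs : ∀ (g : L) (a : Ω), g • a = f g • a) (hk : ∀ g, f g ∈ Subgroup.center G → g ∈ Subgroup.center L) :
    TwoTr L Ω := by
  refine ⟨fun a b c d h h' => ?_, H.big, fun g hg => hk g (H.ker _ fun a => by rw [← hs, hg])⟩
  obtain ⟨g, hg⟩ := H.tr a b c d h h'
  obtain ⟨l, rfl⟩ := hf g
  exact ⟨l, by rwa [hs, hs]⟩

theorem of_equiv {L : Type*} [Group L] [MulAction L Ω] (e : L ≃* G)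
    (hs : ∀ (g : L) (a : Ω), g • a = e g • a) : TwoTr L Ω :=
  H.lift e.toMonoidHom e.surjective hs fun g hg => Subgroup.mem_center_iff.2 fun l => e.injective (by
    rw [map_mul, map_mul]; exact Subgroup.mem_center_iff.1 hg _)

/-- a lower bound for the index of proper subgroups bounds the degree -/
theorem le_card {d : ℕ} (h : ∀ K : Subgroup G, K ≠ ⊤ → d ≤ K.index) : d ≤ Nat.card Ω := by
  obtain ⟨a⟩ := H.nonempty
  exact H.index_stab a ▸ h _ (H.stab_ne_top a)

end TwoTr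

theorem TrOn.mono {P P' : Subgroup G} (h : TrOn P Ω) (h' : P ≤ P') : TrOn P' Ω := fun a b =>
  (h a b).imp fun _ k => ⟨h' k.1, k.2⟩

theorem TrOn.card_inf_stab {P : Subgroup G} (h : TrOn P Ω) (a : Ω) :
    Nat.card ↥(P ⊓ stabilizer G a) * Nat.card Ω = Nat.card P := by
  rw [← card_inf_stab_mul P a, Set.eq_univ_of_forall fun b => mem_orbit_sub.2 (h a b), Set.ncard_univ]

theorem TrOn.card_dvd {P : Subgroup G} (h : TrOn P Ω) [Nonempty Ω] : Nat.card Ω ∣ Nat.card P :=
  Dvd.intro_left _ (h.card_inf_stab (Classical.arbitrary Ω))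

theorem BTr.lift [Fact p.Prime] (hB : BTr p G Ω) {L : Type*} [Group L] [Finite L] [MulAction L Ω] (f : L →* G)
    (hf : Function.Surjective f) (hs : ∀ (g : L) (a : Ω), g • a = f g • a) : BTr p L Ω := fun U a b => by
  obtain ⟨g, hg, e⟩ := hB (U.mapSurjective hf) a b
  obtain ⟨l, rfl⟩ := hf g
  have h1 : (U : Subgroup L) ≤ ((U : Subgroup L).map f).comap f := Subgroup.le_comap_map _ _
  have h2 : ((l • U : Sylow p L) : Subgroup L) ≤ ((U : Subgroup L).map f).comap f := by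
    rintro _ ⟨u, hu, rfl⟩
    change f (l * u * l⁻¹) ∈ (U : Subgroup L).map f
    rw [map_mul, map_mul, map_inv]
    exact (Subgroup.mem_normalizer_iff.1 hg _).1 (Subgroup.mem_map_of_mem f hu)
  obtain ⟨k, hk⟩ := exists_smul_eq (((U : Subgroup L).map f).comap f) ((l • U).subtype h2) (U.subtype h1)
  rw [Sylow.smul_subtype] at hk
  have h3 : (k : L) * l ∈ Subgroup.normalizer ((U : Subgroup L) : Set L) :=
    Sylow.smul_eq_iff_mem_normalizer.1 ((mul_smul _ _ _).trans (Sylow.subtype_injective hk))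
  obtain ⟨u, hu, e'⟩ := k.2
  refine ⟨u⁻¹ * (k * l), mul_mem (Subgroup.le_normalizer (inv_mem hu)) h3, ?_⟩
  rw [hs, map_mul, map_mul, map_inv, e', inv_mul_cancel_left, e]

theorem btr_of_sylow [Fact p.Prime] [Finite G] (U : Sylow p G)
    (h : TrOn (Subgroup.normalizer ((U : Subgroup G) : Set G)) Ω) : BTr p G Ω := fun U' a b => by
  obtain ⟨g, rfl⟩ := exists_smul_eq G U U'
  obtain ⟨n, hn, e⟩ := h (g⁻¹ • a) (g⁻¹ • b)
  refine ⟨g * n * g⁻¹, Sylow.smul_eq_iff_mem_normalizer.1 ?_, by rw [mul_smul, mul_smul, e, smul_inv_smul]⟩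
  rw [mul_smul, inv_smul_smul, mul_smul, Sylow.smul_eq_iff_mem_normalizer.2 hn]

/-- the stabiliser of the unique fixed point of a `p`-subgroup is transitive -/
theorem BTr.trOn_of_fix [Fact p.Prime] [Finite G] (hB : BTr p G Ω) {X : Type*} [MulAction G X] [Finite X]
    {R : Subgroup G} (hR : IsPGroup p R) {x : X} (h : ∀ y, (∀ r ∈ R, r • y = y) ↔ y = x) :
    TrOn (stabilizer G x) Ω := by
  obtain ⟨U, hU⟩ := hR.exists_le_sylow
  have h1 := hR.card_modEq_card_fixedPoints X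
  rw [show fixedPoints R X = {x} from Set.ext fun y => by
    rw [Set.mem_singleton_iff, ← h]; exact Subtype.forall, Nat.card_coe_set_eq, Set.ncard_singleton] at h1
  obtain ⟨y, hy⟩ := U.isPGroup'.nonempty_fixed_point_of_prime_not_dvd_card X fun k =>
    (Fact.out : p.Prime).not_dvd_one ((h1.dvd_iff dvd_rfl).1 k)
  obtain rfl := (h y).1 fun r hr => hy ⟨r, hU hr⟩
  refine (hB U).mono fun n hn => (h _).1 fun r hr => ?_
  have : (n⁻¹ * r * n) • y = y := hy ⟨_, (Subgroup.mem_normalizer_iff''.1 hn _).1 (hU hr)⟩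
  rwa [mul_smul, mul_smul, inv_smul_eq_iff] at this

theorem exists_fix_vec [Fact p.Prime] {F V : Type*} [Field F] [CharP F p] [AddCommGroup V] [Module F V] [Finite V]
    (ρ : G →* (V ≃ₗ[F] V)) {U : Subgroup G} (hU : IsPGroup p U) {W : Submodule F V} (hW : W ≠ ⊤)
    (h : ∀ u ∈ U, ∀ v ∈ W, ρ u v ∈ W) : ∃ v ∉ W, ∀ u ∈ U, ρ u v - v ∈ W := by
  let act : MulAction U (V ⧸ W) :=
    { smul := fun u => W.mapQ W (ρ u).toLinearMap (h u u.2)
      one_smul := by rintro ⟨v⟩; exact congrArg W.mkQ (by simp)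
      mul_smul := by rintro u u' ⟨v⟩; exact congrArg W.mkQ (by simp) }
  have := Submodule.Quotient.nontrivial_iff.2 hW
  have : Finite (V ⧸ W) := Finite.of_surjective _ W.mkQ_surjective
  obtain ⟨x, hx⟩ := exists_ne (0 : V ⧸ W)
  have h1 : addOrderOf x = p := addOrderOf_eq_prime (by
    rw [← Nat.cast_smul_eq_nsmul F, CharP.cast_eq_zero, zero_smul]) hx
  obtain ⟨b, hb, b0⟩ := hU.exists_fixed_point_of_prime_dvd_card_of_fixed_point (V ⧸ W)
    (h1 ▸ addOrderOf_dvd_natCard x) (a := 0) fun u => map_zero (W.mapQ W (ρ u).toLinearMap (h u u.2))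
  obtain ⟨v, rfl⟩ := W.mkQ_surjective b
  exact ⟨v, fun k => b0 ((Submodule.Quotient.mk_eq_zero W).2 k).symm,
    fun u hu => (Submodule.Quotient.eq W).1 (hb ⟨u, hu⟩)⟩

/-- the normaliser of a `p`-group containing `R` stabilises the flag determined by `R` -/
theorem flag_inv [Fact p.Prime] {F V : Type*} [Field F] [CharP F p] [AddCommGroup V] [Module F V] [Finite V]
    (ρ : G →* (V ≃ₗ[F] V)) {R U : Subgroup G} (hRU : R ≤ U) (hU : IsPGroup p U) {k : ℕ}
    (hk : k ≤ Module.finrank F V) (W : ℕ → Submodule F V) (hd : ∀ i ≤ k, Module.finrank F (W i) = i)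
    (h : ∀ i < k, ∀ v, (∀ r ∈ R, ρ r v - v ∈ W i) → v ∈ W (i + 1)) :
    ∀ g ∈ Subgroup.normalizer (U : Set G), ∀ i ≤ k, ∀ v ∈ W i, ρ g v ∈ W i := by
  suffices H : ∀ i ≤ k, ∀ g ∈ Subgroup.normalizer (U : Set G), ∀ v ∈ W i, ρ g v ∈ W i from
    fun g hg i hi => H i hi g hg
  intro i
  induction i with
  | zero =>
    intro hi g _ v hv
    rw [Submodule.finrank_eq_zero.1 (hd 0 hi), Submodule.mem_bot] at hv ⊢
    rw [hv, map_zero]
  | succ i ih =>
    intro hi g hg
    replace ih := ih (by omega)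
    let X : Submodule F V :=
      { carrier := {v | ∀ u ∈ U, ρ u v - v ∈ W i}
        zero_mem' := fun u _ => by simp
        add_mem' := fun {a b} ha hb u hu => by
          rw [map_add, add_sub_add_comm]; exact add_mem (ha u hu) (hb u hu)
        smul_mem' := fun c a ha u hu => by
          rw [map_smul, ← smul_sub]; exact (W i).smul_mem c (ha u hu) }
    have h1 : X ≤ W (i + 1) := fun v hv => h i hi v fun r hr => hv r (hRU hr)
    obtain ⟨v, hv, hv'⟩ := exists_fix_vec ρ hU (W := W i) (fun e => by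
      have := hd i (by omega)
      rw [e, finrank_top] at this
      omega) fun u hu => ih u (Subgroup.le_normalizer hu)
    have h2 : W i < X := lt_of_le_of_ne
      (fun w hw u hu => sub_mem (ih u (Subgroup.le_normalizer hu) w hw) hw) fun e => hv (e ▸ hv')
    have h3 : X = W (i + 1) := Submodule.eq_of_le_of_finrank_le h1 (by
      have := Submodule.finrank_lt_finrank_of_lt h2
      rw [hd i (by omega)] at this
      rw [hd _ hi]; exact this)
    rw [← h3]
    intro w hw u hu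
    have := ih g hg _ (hw _ ((Subgroup.mem_normalizer_iff''.1 hg _).1 hu))
    rwa [map_sub, ← LinearEquiv.mul_apply, ← map_mul, ← mul_assoc, mul_inv_cancel_left, map_mul,
      LinearEquiv.mul_apply] at this

theorem trOn_of_pow [Fact p.Prime] [Finite G] (h : ∀ a b : Ω, ∃ g : G, g • a = b) {j : ℕ} (hn : Nat.card Ω = p ^ j)
    {P : Subgroup G} (hP : ¬ p ∣ P.index) : TrOn P Ω := fun a b => by
  have hp : p.Prime := Fact.out
  have : Finite Ω := Nat.finite_of_card_ne_zero (hn ▸ pow_ne_zero _ hp.ne_zero)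
  have : IsPretransitive G Ω := ⟨h⟩
  have h1 := Subgroup.index_dvd_of_le (inf_le_right : P ⊓ stabilizer G a ≤ _)
  rw [← Subgroup.relIndex_mul_index inf_le_left, Subgroup.inf_relIndex_left, relIndex_stab,
    index_stabilizer_of_transitive] at h1
  have h2 := Nat.le_of_dvd ((Set.ncard_pos (Set.toFinite _)).2 (nonempty_orbit a))
    (Nat.Coprime.dvd_of_dvd_mul_right (hn ▸ (hp.coprime_iff_not_dvd.2 hP).pow_left j) h1)
  rw [← Set.ncard_univ] at h2
  exact mem_orbit_sub.1 ((Set.eq_of_subset_of_ncard_le (Set.subset_univ _) h2).ge trivial)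

theorem btr_of_pow [Fact p.Prime] [Finite G] (h : ∀ a b : Ω, ∃ g : G, g • a = b) {j : ℕ} (hn : Nat.card Ω = p ^ j) :
    BTr p G Ω := fun U => (trOn_of_pow h hn U.not_dvd_index).mono Subgroup.le_normalizer

theorem fx_conj (g t : G) : fx Ω (g * t * g⁻¹) = fx Ω t := by
  rw [fx, ← smul_fixedBy, Set.natCard_smul_set, fx]

theorem fx_of_isConj {t t' : G} (h : IsConj t t') : fx Ω t = fx Ω t' := by
  obtain ⟨g, rfl⟩ := isConj_iff.1 h
  exact (fx_conj g t).symm

theorem fx_one : fx Ω (1 : G) = Nat.card Ω := by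
  rw [fx, fixedBy_one_eq_univ, Nat.card_univ]

theorem fx_pos_iff [Finite Ω] {t : G} : 0 < fx Ω t ↔ ∃ a : Ω, t • a = a :=
  Finite.card_pos_iff.trans nonempty_subtype

theorem fx_modEq [Finite Ω] {r j : ℕ} (hr : r.Prime) {u : G} (hu : ∀ a : Ω, u ^ r ^ j • a = a) :
    fx Ω u ≡ Nat.card Ω [MOD r] := by
  classical
  have := Fact.mk hr
  have := Fintype.ofFinite Ω
  have h1 := Equiv.Perm.card_fixedPoints_modEq (f := MulAction.toEndHom (α := Ω) u) (p := r) (n := j)
    (by rw [← map_pow]; exact funext hu)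
  rw [← Nat.card_eq_fintype_card, ← Nat.card_eq_fintype_card] at h1
  exact h1.symm

theorem fx_pos [Finite Ω] {r j : ℕ} (hr : r.Prime) (hn : ¬ r ∣ Nat.card Ω) {u : G}
    (hu : ∀ a : Ω, u ^ r ^ j • a = a) : 0 < fx Ω u :=
  Nat.pos_of_ne_zero fun e => hn (((fx_modEq hr hu).dvd_iff dvd_rfl).1 (e ▸ dvd_zero r))

theorem Orb.card_stab {Z : Subgroup G} {r : ℕ} (h : Orb Z Ω r) (a : Ω) :
    Nat.card ↥(Z ⊓ stabilizer G a) * r = Nat.card Z := h a ▸ card_inf_stab_mul Z a

theorem Orb.card_quot [Finite Ω] {Z : Subgroup G} {r : ℕ} (h : Orb Z Ω r) :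
    Nat.card (orbitRel.Quotient Z Ω) * r = Nat.card Ω := by
  have := Fintype.ofFinite (orbitRel.Quotient Z Ω)
  rw [Nat.card_congr (selfEquivSigmaOrbits Z Ω), Nat.card_sigma, Nat.card_eq_fintype_card]
  simp only [Nat.card_coe_set_eq, h _, Finset.sum_const, Finset.card_univ, smul_eq_mul]

theorem Orb.dvd [Finite Ω] {Z : Subgroup G} {r : ℕ} (h : Orb Z Ω r) : r ∣ Nat.card Ω :=
  Dvd.intro_left _ h.card_quot

theorem Orb.dvd_card [Nonempty Ω] {Z : Subgroup G} {r : ℕ} (h : Orb Z Ω r) : r ∣ Nat.card Z :=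
  Dvd.intro_left _ (h.card_stab (Classical.arbitrary Ω))

theorem Orb.one_lt {Z : Subgroup G} {r : ℕ} (h : Orb Z Ω r) (H : TwoTr G Ω) (hZ : ¬ Z ≤ Subgroup.center G) :
    1 < r := by
  have := H.finite
  refine not_le.1 fun k => hZ fun z hz => H.ker z fun a => ?_
  exact (Set.ncard_le_one (Set.toFinite _)).1 ((h a).trans_le k) _ (mem_orbit_sub.2 ⟨z, hz, rfl⟩) _
    (mem_orbit_self a)

theorem Semi.orb {Z : Subgroup G} (h : Semi Z Ω) : Orb Z Ω (Nat.card Z) := fun a => by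
  rw [← card_inf_stab_mul Z a, show Z ⊓ stabilizer G a = ⊥ from
    (Subgroup.eq_bot_iff_forall _).2 fun z hz => by_contra fun k => h z hz.1 k a hz.2, Subgroup.card_bot, one_mul]

theorem Orb.semi {Z : Subgroup G} [Finite Z] (h : Orb Z Ω (Nat.card Z)) : Semi Z Ω := fun z hz z1 a e => by
  have h1 := Subgroup.eq_bot_of_card_eq _ ((mul_eq_right₀ Nat.card_pos.ne').1 (h.card_stab a))
  exact z1 (h1.le ⟨hz, e⟩)

theorem Semi.mono {Z Z' : Subgroup G} (h : Semi Z Ω) (h' : Z' ≤ Z) : Semi Z' Ω := fun z hz => h z (h' hz)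

theorem Semi.cls {Z : Subgroup G} (h : Semi Z Ω) {t : G} (ht : t ∈ Cls Z) (a : Ω) : t • a ≠ a := by
  obtain ⟨z, hz, z1, g, rfl⟩ := ht
  rw [mul_smul, mul_smul, Ne, smul_eq_iff_eq_inv_smul]
  exact h z hz z1 _

theorem Semi.of_cls {Z T : Subgroup G} (h : Semi Z Ω) (hT : ∀ t ∈ T, t ≠ 1 → t ∈ Cls Z) : Semi T Ω :=
  fun t ht t1 => h.cls (hT t ht t1)

theorem Semi.card_dvd [Finite Ω] {Z : Subgroup G} (h : Semi Z Ω) : Nat.card Z ∣ Nat.card Ω := h.orb.dvd

theorem Semi.card_dvd_fx [Finite Ω] {Z : Subgroup G} (h : Semi Z Ω) {u : G} (hu : ∀ z ∈ Z, Commute z u) :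
    Nat.card Z ∣ fx Ω u := by
  let := fixAct (Ω := Ω) hu
  have h1 : Semi (⊤ : Subgroup Z) (fixedBy Ω u) := fun z _ z1 a e =>
    h z z.2 (fun k => z1 (Subtype.ext k)) a (congrArg Subtype.val e)
  exact Subgroup.card_top (G := Z) ▸ h1.card_dvd

/-- CONST -/
theorem TrOn.exists_orb {P Z : Subgroup G} (h : TrOn P Ω) (hZ : ∀ g ∈ P, ∀ z ∈ Z, g * z * g⁻¹ ∈ Z) :
    ∃ r, Orb Z Ω r := by
  rcases isEmpty_or_nonempty Ω with k | ⟨⟨a⟩⟩
  · exact ⟨0, fun a => k.elim a⟩
  refine ⟨(orbit Z a).ncard, fun b => ?_⟩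
  obtain ⟨g, hg, rfl⟩ := h a b
  rw [← Set.ncard_smul_set g (orbit Z a)]
  congr 1
  ext c
  rw [Set.mem_smul_set_iff_inv_smul_mem, mem_orbit_sub, mem_orbit_sub]
  constructor
  · rintro ⟨z, hz, rfl⟩
    exact ⟨_, hZ _ (inv_mem hg) z hz, by simp [mul_smul]⟩
  · rintro ⟨z, hz, e⟩
    exact ⟨_, hZ g hg z hz, by simp [mul_smul, e]⟩

open Classical in
theorem ncard_eq_sum {I : Type*} [Fintype I] (q : I → Prop) : {i | q i}.ncard = ∑ i, if q i then 1 else 0 := by
  rw [← Finset.card_filter, ← Set.ncard_coe_finset, Finset.coe_filter_univ]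

/-- double counting -/
theorem sum_ncard_comm {I J : Type*} [Fintype I] [Fintype J] (q : I → J → Prop) :
    ∑ i, {j | q i j}.ncard = ∑ j, {i | q i j}.ncard := by
  simp only [ncard_eq_sum]
  exact Finset.sum_comm

theorem fx_eq_ncard (g : G) : fx Ω g = {a : Ω | g • a = a}.ncard := Nat.card_coe_set_eq _

/-- counting a subset invariant under a transitive subgroup -/
theorem TrOn.count [Finite G] [Finite Ω] {P : Subgroup G} (h : TrOn P Ω) {O : Set G}
    (hO : ∀ g ∈ P, ∀ o ∈ O, g * o * g⁻¹ ∈ O) {f : ℕ} (hf : ∀ o ∈ O, fx Ω o = f) (a : Ω) :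
    Nat.card Ω * {o | o ∈ O ∧ o • a = a}.ncard = O.ncard * f := by
  classical
  have := Fintype.ofFinite G
  have := Fintype.ofFinite Ω
  have h1 : ∀ a b : Ω, {o | o ∈ O ∧ o • a = a}.ncard ≤ {o | o ∈ O ∧ o • b = b}.ncard := fun a b => by
    obtain ⟨g, hg, rfl⟩ := h a b
    exact Set.ncard_le_ncard_of_injOn (fun o => g * o * g⁻¹)
      (fun o ho => ⟨hO g hg o ho.1, by simp [mul_smul, ho.2]⟩) fun _ _ _ _ e => by simpa using e
  have h2 := sum_ncard_comm fun (b : Ω) (o : G) => o ∈ O ∧ o • b = b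
  rw [Finset.sum_congr rfl fun b _ => le_antisymm (h1 b a) (h1 a b), Finset.sum_const, Finset.card_univ,
    smul_eq_mul, ← Nat.card_eq_fintype_card] at h2
  rw [h2, show O.ncard = {o | o ∈ O}.ncard from rfl, ncard_eq_sum fun o => o ∈ O, Finset.sum_mul]
  refine Finset.sum_congr rfl fun o _ => ?_
  by_cases k : o ∈ O
  · simp only [k, true_and, if_true, one_mul, ← hf o k, fx_eq_ncard]
  · simp [k]

theorem ncard_ne_one (K : Subgroup G) [Finite K] : {z | z ∈ K ∧ z ≠ 1}.ncard = Nat.card K - 1 :=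
  Set.ncard_sdiff_singleton_of_mem (s := (K : Set G)) K.one_mem

theorem line_arith (hp : 2 ≤ p) {a b c d : ℕ} (hb : 1 ≤ b) (hba : b < a) (hac : a < c)
    (h : (p ^ b - 1) * (p ^ c - 1) = (p ^ d - 1) * (p ^ a - 1)) : False := by
  have pos : ∀ k, 1 ≤ p ^ k := fun k => Nat.one_le_pow _ _ (by omega)
  have lt : ∀ {k l}, k < l → p ^ k < p ^ l := fun h => Nat.pow_lt_pow_right (by omega) h
  have hbd : b < d := not_le.1 fun k => by
    have h1 := Nat.pow_le_pow_right (show 0 < p by omega) k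
    have h2 := lt hac
    have h3 := lt (show 0 < b from hb)
    have h4 := pos a
    rw [pow_zero] at h3
    exact (Nat.mul_lt_mul_of_le_of_lt (show p ^ d - 1 ≤ p ^ b - 1 by omega)
      (show p ^ a - 1 < p ^ c - 1 by omega) (by omega)).ne' h
  zify [pos] at h
  have dv : ∀ k, b < k → (p : ℤ) ^ (b + 1) ∣ p ^ k := fun k hk => pow_dvd_pow _ hk
  have h1 : (p : ℤ) ^ (b + 1) ∣ p ^ b := by
    rw [show (p : ℤ) ^ b = p ^ b * p ^ c - p ^ c - (p ^ d * p ^ a - p ^ d - p ^ a) by linear_combination -h]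
    have k1 := dv c (by omega)
    have k2 := dv a hba
    exact dvd_sub (dvd_sub (k1.mul_left _) k1) (dvd_sub (dvd_sub (k2.mul_left _) (dv d hbd)) k2)
  exact absurd (Nat.le_of_dvd (pos b) (by exact_mod_cast h1)) (lt b.lt_succ_self).not_ge

/-- LINE -/
theorem TwoTr.line [Fact p.Prime] [Finite G] (H : TwoTr G Ω) {P Z T : Subgroup G} (h : TrOn P Ω) (hZT : Z < T)
    (hZ : ∀ g ∈ P, ∀ z ∈ Z, g * z * g⁻¹ ∈ Z) (hT : ∀ g ∈ P, ∀ z ∈ T, g * z * g⁻¹ ∈ T) (hp : IsPGroup p T)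
    (hf : ∀ t ∈ T, t ≠ 1 → ∀ t' ∈ T, t' ≠ 1 → fx Ω t = fx Ω t') (hc : ¬ Z ≤ Subgroup.center G) :
    Semi T Ω := fun t ht t1 a e => by
  have := H.finite
  have p1 := (Fact.out : p.Prime).one_lt
  have f0 : 0 < fx Ω t := fx_pos_iff.2 ⟨a, e⟩
  have n0 : 0 < Nat.card Ω := by have := H.big; omega
  have key : ∀ K ≤ T, (∀ g ∈ P, ∀ z ∈ K, g * z * g⁻¹ ∈ K) →
      Nat.card Ω * (Nat.card ↥(K ⊓ stabilizer G a) - 1) = (Nat.card K - 1) * fx Ω t := fun K h1 h2 => by
    rw [← ncard_ne_one, ← ncard_ne_one, ← h.count (O := {z | z ∈ K ∧ z ≠ 1})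
      (fun g hg o ho => ⟨h2 g hg o ho.1, fun k => ho.2 (conj_eq_one_iff.1 k)⟩)
      (fun o ho => hf o (h1 ho.1) ho.2 t ht t1) a]
    congr 2
    ext z
    exact and_right_comm
  have k1 := key Z hZT.le hZ
  have k2 := key T le_rfl hT
  obtain ⟨r, hr⟩ := h.exists_orb hZ
  have k3 := hr.card_stab a
  have k4 := hr.one_lt H hc
  have k5 : Nat.card Z < Nat.card T := (Subgroup.card_le_of_le hZT.le).lt_of_ne fun k =>
    hZT.ne (Subgroup.eq_of_le_of_card_ge hZT.le k.ge)
  obtain ⟨A, hA⟩ := IsPGroup.iff_card.1 (hp.to_le hZT.le)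
  obtain ⟨B, hB⟩ := IsPGroup.iff_card.1 (hp.to_le ((inf_le_left (b := stabilizer G a)).trans hZT.le))
  obtain ⟨C, hC⟩ := IsPGroup.iff_card.1 hp
  obtain ⟨D, hD⟩ := IsPGroup.iff_card.1 (hp.to_le (inf_le_left (b := stabilizer G a)))
  rw [hA, hB] at k1 k3
  rw [hC, hD] at k2
  rw [hA, hC, Nat.pow_lt_pow_iff_right p1] at k5
  have k6 : B < A := (Nat.pow_lt_pow_iff_right p1).1
    (k3 ▸ lt_mul_of_one_lt_right (pow_pos (by omega) _) k4)
  refine line_arith p1 (d := D) (Nat.pos_of_ne_zero fun k => ?_) k6 k5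
    (Nat.eq_of_mul_eq_mul_left n0 ?_)
  · have := Nat.one_lt_pow (show A ≠ 0 by omega) p1
    rw [k, pow_zero, Nat.sub_self, mul_zero] at k1
    exact (mul_pos (show 0 < p ^ A - 1 by omega) f0).ne k1
  · rw [← mul_assoc, ← mul_assoc, k1, k2]; ring

/-- a `p`-group on which every linear character trivial on `A` is trivial equals `A` -/
theorem le_of_chars [Fact p.Prime] {U A : Subgroup G} [Finite U] (hU : IsPGroup p U) (hA : A ≤ U)
    (h : ∀ l : U →* ℂˣ, (∀ u : U, (u : G) ∈ A → l u = 1) → l = 1) : U ≤ A := by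
  rcases eq_top_or_exists_le_coatom (A.subgroupOf U) with e | ⟨M, hM, hAM⟩
  · exact Subgroup.subgroupOf_eq_top.1 e
  have := hU.isNilpotent
  have := Subgroup.NormalizerCondition.normal_of_coatom M Group.normalizerCondition_of_isNilpotent hM
  obtain ⟨x, hx⟩ : ∃ x, x ∉ M := by_contra fun k => hM.1 (top_le_iff.1 fun x _ => by_contra fun k' => k ⟨x, k'⟩)
  have : IsCyclic (U ⧸ M) := ⟨⟨(x : U ⧸ M), fun y => by
    obtain ⟨y, rfl⟩ := QuotientGroup.mk_surjective y
    exact (hM.2 ((Subgroup.zpowers (x : U ⧸ M)).comap (QuotientGroup.mk' M)) (lt_of_le_of_ne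
      (fun m hm => by
        rw [Subgroup.mem_comap, QuotientGroup.mk'_apply, (QuotientGroup.eq_one_iff m).2 hm]; exact one_mem _)
      fun e => hx (e.ge (Subgroup.mem_zpowers _)))).ge (Subgroup.mem_top y)⟩⟩
  let := IsCyclic.commGroup (α := U ⧸ M)
  have : NeZero (Monoid.exponent (U ⧸ M) : ℂ) := ⟨Nat.cast_ne_zero.2 Monoid.exponent_ne_zero_of_finite⟩
  obtain ⟨φ, hφ⟩ := CommGroup.exists_apply_ne_one_of_hasEnoughRootsOfUnity (U ⧸ M) ℂ (a := (x : U ⧸ M))
    fun k => hx ((QuotientGroup.eq_one_iff x).1 k)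
  refine absurd (DFunLike.congr_fun (h (φ.comp (QuotientGroup.mk' M)) fun u hu => ?_) x) hφ
  rw [MonoidHom.comp_apply, QuotientGroup.mk'_apply, (QuotientGroup.eq_one_iff u).2 (hAM hu), map_one]

end CfsgLib.CKS
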