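import Mathlib
import Cfsg.Agent.Lib.CKS.Abs1
import Cfsg.Agent.Lib.SL2.Basic

/-! CKS, package ABS2: the counting lemmas NUM and PAIR, arithmetic, traces in `SL₂`. -/

set_option linter.unusedSectionVars false
set_option linter.unusedVariables false

namespace CfsgLib.CKS
open MulAction

variable {G : Type*} [Group G] {Ω : Type*} [MulAction G Ω] {p : ℕ}

/-- NUM for an invariant relation -/
theorem TwoTr.num_rel (H : TwoTr G Ω) {I : Type*} [Fintype I] (q : I → Ω → Ω → Prop)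
    (hq : ∀ g : G, ∃ σ : I → I, Function.Injective σ ∧ ∀ i a b, q i a b → q (σ i) (g • a) (g • b)) :
    ∃ s, (∀ a b : Ω, a ≠ b → {i | q i a b}.ncard = s) ∧
      ∀ a : Ω, ∑ i, {b | q i a b}.ncard = {i | q i a a}.ncard + (Nat.card Ω - 1) * s := by
  classical
  have := H.finite
  have := Fintype.ofFinite Ω
  have h1 : ∀ a b c d : Ω, a ≠ b → c ≠ d → {i | q i a b}.ncard ≤ {i | q i c d}.ncard := fun a b c d h h' => by
    obtain ⟨g, rfl, rfl⟩ := H.tr a b c d h h'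
    obtain ⟨σ, k1, k2⟩ := hq g
    exact Set.ncard_le_ncard_of_injOn σ (fun i hi => k2 i a b hi) k1.injOn
  obtain ⟨a₀⟩ := H.nonempty
  obtain ⟨b₀, h0, -⟩ := H.exists_ne_ne a₀ a₀
  have h2 : ∀ a b : Ω, a ≠ b → {i | q i a b}.ncard = {i | q i b₀ a₀}.ncard := fun a b h =>
    le_antisymm (h1 _ _ _ _ h h0) (h1 _ _ _ _ h0 h)
  refine ⟨_, h2, fun a => ?_⟩
  rw [sum_ncard_comm, ← Finset.add_sum_erase _ _ (Finset.mem_univ a),
    Finset.sum_congr rfl fun b hb => h2 a b (Finset.ne_of_mem_erase hb).symm, Finset.sum_const,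
    Finset.card_erase_of_mem (Finset.mem_univ a), Finset.card_univ, Nat.card_eq_fintype_card, smul_eq_mul]

theorem TwoTr.num' (H : TwoTr G Ω) {I : Type*} [Finite I] (y : I → G)
    (hy : ∀ g : G, ∃ σ : I → I, Function.Injective σ ∧ ∀ i, g * y i * g⁻¹ = y (σ i)) :
    ∃ s, (∀ a b : Ω, a ≠ b → {i | y i • a = b}.ncard = s) ∧
      ∀ a : Ω, Nat.card I = {i | y i • a = a}.ncard + (Nat.card Ω - 1) * s := by
  have := Fintype.ofFinite I
  obtain ⟨s, h1, h2⟩ := H.num_rel (fun i a b => y i • a = b) fun g => (hy g).imp fun σ h =>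
    ⟨h.1, fun i a b e => by rw [← h.2, mul_smul, inv_smul_smul, mul_smul, e]⟩
  refine ⟨s, h1, fun a => ?_⟩
  rw [← h2 a]
  simp

/-- NUM for an invariant family -/
theorem TwoTr.num (H : TwoTr G Ω) {I : Type*} [Finite I] (y : I → G)
    (hy : ∀ g : G, ∃ σ : Equiv.Perm I, ∀ i, g * y i * g⁻¹ = y (σ i)) :
    ∃ s, (∀ a b : Ω, a ≠ b → {i | y i • a = b}.ncard = s) ∧
      ∀ a : Ω, Nat.card I = {i | y i • a = a}.ncard + (Nat.card Ω - 1) * s :=
  H.num' y fun g => (hy g).elim fun σ h => ⟨σ, σ.injective, h⟩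

theorem ncard_sub {X : Type*} (C : Set X) (q : X → Prop) : {i : C | q i}.ncard = {t | t ∈ C ∧ q t}.ncard := by
  rw [← Set.ncard_image_of_injective _ Subtype.val_injective]
  congr 1
  ext t
  simp [and_comm]

/-- NUM for an invariant set -/
theorem TwoTr.num_set [Finite G] (H : TwoTr G Ω) {C : Set G} (hC : ∀ g, ∀ t ∈ C, g * t * g⁻¹ ∈ C) :
    ∃ s, (∀ a b : Ω, a ≠ b → {t | t ∈ C ∧ t • a = b}.ncard = s) ∧
      ∀ a : Ω, C.ncard = {t | t ∈ C ∧ t • a = a}.ncard + (Nat.card Ω - 1) * s := by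
  obtain ⟨s, h1, h2⟩ := H.num' (Subtype.val : C → G) fun g =>
    ⟨fun t => ⟨_, hC g t t.2⟩, fun t t' e => Subtype.ext (by simpa using e), fun _ => rfl⟩
  refine ⟨s, fun a b h => ?_, fun a => ?_⟩
  · rw [← ncard_sub C fun t => t • a = b, h1 a b h]
  · rw [← ncard_sub C fun t => t • a = a, ← h2 a, Nat.card_coe_set_eq]

/-- PAIR for an invariant family -/
theorem pair [Finite Ω] {I : Type*} [Finite I] {y : I → G} {s : ℕ}
    (hs : ∀ a b : Ω, a ≠ b → {i | y i • a = b}.ncard = s) {t : G} (ht : t ∈ Set.range y) (h0 : ∀ a : Ω, t • a ≠ a)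
    {D₁ D₂ : Set G} (h1 : D₁ ⊆ Set.range y) (h2 : D₂ ⊆ Set.range y) (h12 : Disjoint D₁ D₂) (k1 : t ∉ D₁)
    (k2 : t ∉ D₂) {f₁ f₂ : ℕ} (l1 : ∀ d ∈ D₁, f₁ ≤ fx Ω (t⁻¹ * d)) (l2 : ∀ d ∈ D₂, f₂ ≤ fx Ω (t⁻¹ * d)) :
    D₁.ncard * f₁ + D₂.ncard * f₂ + Nat.card Ω ≤ Nat.card Ω * s := by
  classical
  have := Fintype.ofFinite I
  have := Fintype.ofFinite Ω
  have e1 := sum_ncard_comm fun (a : Ω) (i : I) => y i • a = t • a
  rw [Finset.sum_congr rfl fun a _ => hs a _ (h0 a).symm, Finset.sum_const, Finset.card_univ, smul_eq_mul,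
    ← Nat.card_eq_fintype_card] at e1
  have e2 : ∀ i, {a : Ω | y i • a = t • a}.ncard = fx Ω (t⁻¹ * y i) := fun i => by
    simp only [fx_eq_ncard, mul_smul, inv_smul_eq_iff]
  lift D₁ to Finset G using (Set.finite_range y).subset h1
  lift D₂ to Finset G using (Set.finite_range y).subset h2
  rw [e1, Finset.sum_congr rfl fun i _ => e2 i]
  refine le_trans ?_ (Finset.sum_image_le_of_nonneg (s := Finset.univ) (g := y) (f := fun d => fx Ω (t⁻¹ * d))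
    fun _ _ => Nat.zero_le _)
  refine le_trans ?_ (Finset.sum_le_sum_of_subset (s := insert t (D₁ ∪ D₂)) fun d hd => ?_)
  · rw [Finset.sum_insert (by simpa using ⟨k1, k2⟩), Finset.sum_union (Finset.disjoint_coe.1 h12),
      inv_mul_cancel, fx_one, add_comm, Set.ncard_coe_finset, Set.ncard_coe_finset]
    exact Nat.add_le_add_left (add_le_add (Finset.card_nsmul_le_sum _ _ _ l1) (Finset.card_nsmul_le_sum _ _ _ l2)) _
  · rw [← Finset.mem_coe, Finset.coe_image, Finset.coe_univ, Set.image_univ]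
    rcases Finset.mem_insert.1 hd with rfl | hd
    · exact ht
    · exact (Finset.mem_union.1 hd).elim (fun h => h1 h) fun h => h2 h

/-- PAIR for an invariant set -/
theorem pair_set [Finite G] [Finite Ω] {C : Set G} {s : ℕ}
    (hs : ∀ a b : Ω, a ≠ b → {t | t ∈ C ∧ t • a = b}.ncard = s) {t : G} (ht : t ∈ C) (h0 : ∀ a : Ω, t • a ≠ a)
    {D₁ D₂ : Set G} (h1 : D₁ ⊆ C) (h2 : D₂ ⊆ C) (h12 : Disjoint D₁ D₂) (k1 : t ∉ D₁)
    (k2 : t ∉ D₂) {f₁ f₂ : ℕ} (l1 : ∀ d ∈ D₁, f₁ ≤ fx Ω (t⁻¹ * d)) (l2 : ∀ d ∈ D₂, f₂ ≤ fx Ω (t⁻¹ * d)) :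
    D₁.ncard * f₁ + D₂.ncard * f₂ + Nat.card Ω ≤ Nat.card Ω * s :=
  pair (y := (Subtype.val : C → G)) (fun a b h => (ncard_sub C fun t => t • a = b).trans (hs a b h))
    (by rwa [Subtype.range_coe]) h0 (by rwa [Subtype.range_coe]) (by rwa [Subtype.range_coe]) h12 k1 k2 l1 l2

theorem out_mem {P : Subgroup G} {g : G} {x : G ⧸ P} (h : (g : G ⧸ P) = x) : x.out⁻¹ * g ∈ P :=
  QuotientGroup.eq.1 (x.out_eq'.trans h.symm)

theorem out_smul_mem {P : Subgroup G} (g : G) (x : G ⧸ P) : (g • x).out⁻¹ * (g * x.out) ∈ P :=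
  out_mem (Quotient.mk_smul_out P g x)

/-- NUM for the conjugates of a subgroup -/
theorem TwoTr.numZ [Finite G] (H : TwoTr G Ω) {P Z : Subgroup G} (hZ : ∀ g ∈ P, ∀ z ∈ Z, g * z * g⁻¹ ∈ Z) {r : ℕ}
    (hr : Orb Z Ω r) : ∃ s, (Nat.card Ω - 1) * s = P.index * (r - 1) := by
  have := Fintype.ofFinite (G ⧸ P)
  obtain ⟨s, -, h⟩ := H.num_rel (fun (x : G ⧸ P) (a b : Ω) => x.out⁻¹ • b ∈ orbit Z (x.out⁻¹ • a)) fun g =>
    ⟨(g • ·), MulAction.injective g, fun x a b k => by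
      obtain ⟨z, hz, e⟩ := mem_orbit_sub.1 k
      refine mem_orbit_sub.2 ⟨_, hZ _ (out_smul_mem g x) z hz, ?_⟩
      simp only [mul_smul, mul_inv_rev, inv_inv, smul_inv_smul, inv_smul_smul, e]⟩
  obtain ⟨a⟩ := H.nonempty
  refine ⟨s, ?_⟩
  have h1 := h a
  rw [Finset.sum_congr rfl fun (x : G ⧸ P) _ => show _ = r by
    rw [← hr (x.out⁻¹ • a), ← Set.ncard_smul_set x.out (orbit Z _)]
    exact congrArg _ (Set.ext fun b => Set.mem_smul_set_iff_inv_smul_mem.symm),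
    Finset.sum_const, Finset.card_univ, smul_eq_mul, ← Nat.card_eq_fintype_card,
    Set.eq_univ_of_forall (s := {x : G ⧸ P | x.out⁻¹ • a ∈ orbit Z (x.out⁻¹ • a)}) fun x => mem_orbit_self _, Set.ncard_univ] at h1
  rw [Nat.mul_sub_one, Subgroup.index, h1, Nat.add_sub_cancel_left]

/-- NUM and PAIR for the conjugates of a semiregular subgroup -/
theorem TwoTr.numZ_pair [Finite G] (H : TwoTr G Ω) {P Z : Subgroup G} (hZ : ∀ g ∈ P, ∀ z ∈ Z, g * z * g⁻¹ ∈ Z)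
    (hr : Semi Z Ω) : ∃ s, (Nat.card Ω - 1) * s = P.index * (Nat.card Z - 1) ∧
      ∀ t ∈ Cls Z, ∀ D₁ ⊆ Cls Z, ∀ D₂ ⊆ Cls Z, Disjoint D₁ D₂ → t ∉ D₁ → t ∉ D₂ → ∀ f₁ f₂ : ℕ,
        (∀ d ∈ D₁, f₁ ≤ fx Ω (t⁻¹ * d)) → (∀ d ∈ D₂, f₂ ≤ fx Ω (t⁻¹ * d)) →
        D₁.ncard * f₁ + D₂.ncard * f₂ + Nat.card Ω ≤ Nat.card Ω * s := by
  have := H.finite
  have cj : ∀ g ∈ P, ∀ z ∈ {z | z ∈ Z ∧ z ≠ 1}, g * z * g⁻¹ ∈ {z | z ∈ Z ∧ z ≠ 1} := fun g hg z hz =>
    ⟨hZ g hg z hz.1, fun k => hz.2 (conj_eq_one_iff.1 k)⟩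
  let y : (G ⧸ P) × {z | z ∈ Z ∧ z ≠ 1} → G := fun i => i.1.out * i.2 * i.1.out⁻¹
  have hy : Set.range y = Cls Z := Set.ext fun t => ⟨by
    rintro ⟨i, rfl⟩
    exact ⟨_, i.2.2.1, i.2.2.2, _, rfl⟩, by
    rintro ⟨z, hz, z1, g, rfl⟩
    exact ⟨(g, ⟨_, cj _ (out_mem (g := g) rfl) z ⟨hz, z1⟩⟩), by simp only [y]; group⟩⟩
  obtain ⟨s, h1, h2⟩ := H.num' y fun g => ⟨fun i => (g • i.1, ⟨_, cj _ (out_smul_mem g i.1) _ i.2.2⟩), by
    rintro ⟨x, z⟩ ⟨x', z'⟩ e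
    obtain rfl : x = x' := MulAction.injective g (congrArg Prod.fst e)
    exact Prod.ext rfl (Subtype.ext (by simpa using e)), fun i => by simp only [y]; group⟩
  obtain ⟨a⟩ := H.nonempty
  refine ⟨s, ?_, fun t ht D₁ k1 D₂ k2 k3 k4 k5 f₁ f₂ l1 l2 =>
    pair h1 (hy ▸ ht) (hr.cls ht) (hy ▸ k1) (hy ▸ k2) k3 k4 k5 l1 l2⟩
  have h3 := h2 a
  rw [Set.eq_empty_of_forall_notMem (s := {i | y i • a = a}) fun i => hr.cls (hy ▸ Set.mem_range_self i) a, Set.ncard_empty, zero_add,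
    Nat.card_prod, Nat.card_coe_set_eq, ncard_ne_one] at h3
  exact h3.symm

/-- the orbit of `t'` under conjugation by `Y` -/
def cOrb (Y : Subgroup G) (t' : G) : Set G := {d | ∃ y ∈ Y, d = y * t' * y⁻¹}

theorem ncard_cOrb {Y : Subgroup G} {t' : G} (h : ∀ y ∈ Y, Commute y t' → y = 1) :
    (cOrb Y t').ncard = Nat.card Y := by
  rw [show cOrb Y t' = (fun y => y * t' * y⁻¹) '' Y from Set.ext fun d =>
    exists_congr fun y => and_congr_right fun _ => eq_comm]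
  refine Set.InjOn.ncard_image fun y hy y' hy' e => ?_
  refine (inv_mul_eq_one.1 (h _ (mul_mem (inv_mem hy') hy) ?_)).symm
  have e' : y * t' * y⁻¹ = y' * t' * y'⁻¹ := e
  calc y'⁻¹ * y * t' = y'⁻¹ * (y * t' * y⁻¹) * y := by group
    _ = t' * (y'⁻¹ * y) := by rw [e']; group

theorem isConj_of_mem_cOrb {Y : Subgroup G} {t t' d : G} (h : ∀ y ∈ Y, Commute y t) (hd : d ∈ cOrb Y t') :
    ∃ y ∈ Y, t⁻¹ * d = y * (t⁻¹ * t') * y⁻¹ := by
  obtain ⟨y, hy, rfl⟩ := hd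
  exact ⟨y, hy, by rw [← mul_assoc y, (h y hy).inv_right.eq]; group⟩

theorem fx_of_mem_cOrb {Y : Subgroup G} {t t' d : G} (h : ∀ y ∈ Y, Commute y t) (hd : d ∈ cOrb Y t') :
    fx Ω (t⁻¹ * d) = fx Ω (t⁻¹ * t') := by
  obtain ⟨y, -, e⟩ := isConj_of_mem_cOrb h hd
  rw [e, fx_conj]

theorem not_mem_cOrb {Y : Subgroup G} {t t' : G} (h : ∀ y ∈ Y, Commute y t) (ht : t' ≠ t) : t ∉ cOrb Y t' :=
  fun hd => by
    obtain ⟨y, -, e⟩ := isConj_of_mem_cOrb h hd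
    rw [inv_mul_cancel, eq_comm, conj_eq_one_iff, inv_mul_eq_one] at e
    exact ht e.symm

theorem cOrb_subset {Y Z : Subgroup G} {t' : G} (h : t' ∈ Cls Z) : cOrb Y t' ⊆ Cls Z := by
  obtain ⟨z, hz, z1, g, rfl⟩ := h
  rintro _ ⟨y, -, rfl⟩
  exact ⟨z, hz, z1, y * g, by group⟩

/-- NUM and PAIR with one orbit -/
theorem TwoTr.numZ_pairY [Finite G] (H : TwoTr G Ω) {P Z : Subgroup G} (hZ : ∀ g ∈ P, ∀ z ∈ Z, g * z * g⁻¹ ∈ Z)
    (hr : Semi Z Ω) : ∃ s, (Nat.card Ω - 1) * s = P.index * (Nat.card Z - 1) ∧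
      ∀ t ∈ Cls Z, ∀ t' ∈ Cls Z, t' ≠ t → ∀ Y : Subgroup G, (∀ y ∈ Y, Commute y t) →
        (∀ y ∈ Y, Commute y t' → y = 1) → Nat.card Y * fx Ω (t⁻¹ * t') + Nat.card Ω ≤ Nat.card Ω * s := by
  obtain ⟨s, h1, h2⟩ := H.numZ_pair hZ hr
  refine ⟨s, h1, fun t ht t' ht' k Y k1 k2 => ?_⟩
  simpa [ncard_cOrb k2] using h2 t ht _ (cOrb_subset ht') ∅ (Set.empty_subset _) (Set.disjoint_empty _)
    (not_mem_cOrb k1 k) (Set.notMem_empty _) _ 0 (fun d hd => (fx_of_mem_cOrb k1 hd).ge) fun _ h => h.elim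

/-- ARITH -/
theorem arith {n s t Q e : ℕ} (hQ : Q ∣ n) (hn : 2 ≤ n) (ht : 0 < t) (htQ : t < Q) (he : 1 ≤ e)
    (h : (n - 1) * s = t * (Q * e - 1)) :
    (n = Q * e ∧ s = t) ∨ ∃ m j, 1 ≤ j ∧ 1 ≤ m ∧ m < e ∧ n = Q * m ∧ s = t + j * Q ∧ j * (Q * m - 1) = t * (e - m) := by
  obtain ⟨m, rfl⟩ := hQ
  have m1 : 1 ≤ m := Nat.pos_of_ne_zero fun k => by rw [k] at hn; omega
  have q1 : 1 ≤ Q * e := Nat.mul_pos (by omega) he
  have q2 : 1 ≤ Q * m := by omega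
  zify [q1, q2] at h
  have h1 : t ≡ s [MOD Q] := Nat.modEq_iff_dvd.2 ⟨m * s - t * e, by linear_combination -h⟩
  obtain ⟨j, rfl⟩ : ∃ j, s = t + j * Q :=
    ⟨s / Q, by rw [← Nat.mod_eq_of_lt htQ, h1, Nat.mod_add_div']⟩
  have h2 : (j : ℤ) * (Q * m - 1) = t * (e - m) :=
    mul_left_cancel₀ (show (Q : ℤ) ≠ 0 by omega) (by push_cast at h; linear_combination h)
  rcases Nat.eq_zero_or_pos j with rfl | j1
  · have : (e : ℤ) - m = 0 := by simpa [ht.ne'] using h2.symm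
    exact .inl ⟨by rw [show m = e by omega], by simp⟩
  · have h3 : (0 : ℤ) < t * (e - m) := h2 ▸ mul_pos (by omega) (by have : (2 : ℤ) ≤ Q * m := by exact_mod_cast hn
                                                                   omega)
    have h4 : m < e := by have := (mul_pos_iff_of_pos_left (show (0 : ℤ) < t by omega)).1 h3; omega
    refine .inr ⟨m, j, j1, m1, h4, rfl, rfl, ?_⟩
    zify [q2, h4.le]
    exact h2

/-- the degree of a root group action with few points -/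
theorem arith_one {n s v r : ℕ} (hr : 1 < r) (hn : r ∣ n) (hv : v ≡ 1 [MOD r]) (h : (n - 1) * s = v * (r - 1))
    (hlt : v * (r - 1) < (n - 1) * (r + 1)) : s = 1 := by
  have h1 : s < r + 1 := lt_of_mul_lt_mul_left (h ▸ hlt) (Nat.zero_le _)
  have n1 : 1 ≤ n := Nat.pos_of_ne_zero fun k => by simp [k] at hlt
  obtain ⟨m, rfl⟩ := hn
  obtain ⟨c, hc⟩ := Nat.modEq_iff_dvd.1 hv
  zify [n1, hr.le] at h
  have h2 : s ≡ 1 [MOD r] := Nat.modEq_iff_dvd.2 ⟨c + v - m * s, by push_cast at hc ⊢; linear_combination h + hc⟩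
  rcases Nat.lt_succ_iff_lt_or_eq.1 h1 with k | rfl
  · exact Nat.ModEq.eq_of_lt_of_lt h2 k hr
  · exact Nat.dvd_one.1 ((h2.dvd_iff dvd_rfl).1 dvd_rfl)

/-- a bound for the right side of PAIR -/
theorem pair_bound {n s c : ℕ} (hn : 2 ≤ n) (h : (n - 1) * s = c) : n * s * (n - 1) = c * n := by
  rw [← h]; ring

section SL2
variable (F : Type*) [Field F] [Finite F] [Fact p.Prime] [CharP F p]

/-- all elements of trace `τ` are `r`-elements for a prime `r ≠ p` -/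
def GoodTr (p : ℕ) {F : Type*} [Field F] (τ : F) : Prop :=
  τ ≠ 2 ∧ ∃ r j : ℕ, r.Prime ∧ r ≠ p ∧ ∀ g : Matrix.SpecialLinearGroup (Fin 2) F, Matrix.trace g.1 = τ → g ^ r ^ j = 1

variable {F}

theorem sl2_sq (g : Matrix.SpecialLinearGroup (Fin 2) F) : g.1 * g.1 = Matrix.trace g.1 • g.1 - 1 := by
  have h := g.2
  rw [Matrix.det_fin_two] at h
  ext i j
  fin_cases i <;> fin_cases j <;> simp [Matrix.mul_apply, Fin.sum_univ_two, Matrix.trace_fin_two]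
  · linear_combination -h
  · ring
  · ring
  · linear_combination -h

theorem sl2_pow (τ : F) (k : ℕ) : ∃ a b : F, ∀ g : Matrix.SpecialLinearGroup (Fin 2) F,
    Matrix.trace g.1 = τ → g.1 ^ k = a • g.1 + b • 1 := by
  induction k with
  | zero => exact ⟨0, 1, fun g _ => by simp⟩
  | succ k ih =>
    obtain ⟨a, b, h⟩ := ih
    refine ⟨a * τ + b, -a, fun g hg => ?_⟩
    rw [pow_succ, h g hg, add_mul, smul_mul_assoc, smul_mul_assoc, sl2_sq, hg, one_mul]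
    module

theorem sl2_three (g : Matrix.SpecialLinearGroup (Fin 2) F) (h : Matrix.trace g.1 = -1) : g ^ 3 = 1 :=
  Subtype.ext (by
    change g.1 ^ 3 = 1
    rw [pow_three, sl2_sq, mul_sub, mul_smul_comm, sl2_sq, h, mul_one]
    module)

theorem sl2_four (g : Matrix.SpecialLinearGroup (Fin 2) F) (h : Matrix.trace g.1 = 0) : g ^ 4 = 1 :=
  Subtype.ext (by
    change g.1 ^ (2 * 2) = 1
    rw [pow_mul, sq g.1, sl2_sq, h]
    simp)

theorem eq_of_cast {r : ℕ} (hr : r.Prime) (h : (r : F) = 0) : r = p :=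
  ((Nat.prime_dvd_prime_iff_eq Fact.out hr).1 ((CharP.cast_eq_zero_iff F p r).1 h)).symm

theorem goodTr_neg (h : 3 ≠ p) : GoodTr p (-1 : F) :=
  ⟨fun e => h (eq_of_cast (F := F) Nat.prime_three (by push_cast; linear_combination -e)), 3, 1,
    Nat.prime_three, h, sl2_three⟩

theorem goodTr_zero (h : 2 ≠ p) : GoodTr p (0 : F) :=
  ⟨fun e => h (eq_of_cast (F := F) Nat.prime_two (by push_cast; exact e.symm)), 2, 2, Nat.prime_two, h, sl2_four⟩

theorem goodTr_big (h5 : p < 5) (h : 3 < Nat.card F) : ∃ τ : F, τ ≠ 0 ∧ τ ≠ -1 ∧ GoodTr p τ := by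
  have hp : p.Prime := Fact.out
  have := Fintype.ofFinite F
  rw [Nat.card_eq_fintype_card] at h
  obtain ⟨l, hl, l5, l1⟩ : ∃ l, l.Prime ∧ 5 ≤ l ∧ l ∣ (Fintype.card F - 1) * (Fintype.card F + 1) := by
    by_contra k
    push Not at k
    obtain ⟨n, -, hn⟩ := FiniteField.card F p
    have d : p ∣ Fintype.card F := hn ▸ dvd_pow_self p n.ne_zero
    generalize Fintype.card F = q at *
    have sm : ∀ d : ℕ, d.Prime → d < 5 → d = 2 ∨ d = 3 := fun d h1 h2 => by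
      interval_cases d <;> simp_all (config := {decide := true})
    have key : ∀ m, m ∣ (q - 1) * (q + 1) → m ≠ 0 → ¬ p ∣ m → ∃ a, m = (5 - p) ^ a := fun m h1 h2 h3 =>
      ⟨_, Nat.eq_prime_pow_of_unique_prime_dvd h2 fun {c} c1 c2 => by
        have c3 := sm c c1 (not_le.1 fun c4 => k c c1 c4 (c2.trans h1))
        have c4 : c ≠ p := fun e => h3 (e ▸ c2)
        have := sm p hp h5
        omega⟩
    obtain ⟨a, ha⟩ := key (q - 1) (dvd_mul_right _ _) (by omega) fun c =>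
      hp.not_dvd_one (by simpa [Nat.sub_sub_self (show 1 ≤ q by omega)] using Nat.dvd_sub d c)
    obtain ⟨b, hb⟩ := key (q + 1) (dvd_mul_left _ _) (by omega) fun c =>
      hp.not_dvd_one ((Nat.dvd_add_right d).1 c)
    have h1 : a < b := (Nat.pow_lt_pow_iff_right (a := 5 - p) (by have := sm p hp h5; omega)).1 (by omega)
    have h2 := pow_dvd_pow (5 - p) h1.le
    rw [← ha, ← hb, show q + 1 = q - 1 + 2 by omega, Nat.dvd_add_right dvd_rfl] at h2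
    have := Nat.le_of_dvd two_pos h2
    omega
  have := Fact.mk hl
  obtain ⟨g, hg⟩ := exists_prime_orderOf_dvd_card' (G := Matrix.SpecialLinearGroup (Fin 2) F) l (by
    rw [SL2.card_SL2', mul_assoc]; exact l1.mul_left _)
  have no : ∀ m, 0 < m → m < 5 → g ^ m ≠ 1 := fun m h1 h2 e => by
    have := Nat.le_of_dvd h1 (hg ▸ orderOf_dvd_of_pow_eq_one e)
    omega
  refine ⟨Matrix.trace g.1, fun e => no 4 (by omega) (by omega) (sl2_four g e),
    fun e => no 3 (by omega) (by omega) (sl2_three g e), fun e => no p hp.pos h5 (Subtype.ext ?_),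
    l, 1, hl, by omega, fun g' hg' => Subtype.ext ?_⟩
  · have h1 : (g.1 - 1) ^ 2 = 0 := by
      rw [sq, sub_mul, mul_sub, sl2_sq, e, mul_one, one_mul]
      module
    have h2 := pow_eq_zero_of_le hp.two_le h1
    rwa [sub_pow_char_of_commute _ (Commute.one_right _), one_pow, sub_eq_zero] at h2
  · obtain ⟨a, b, hab⟩ := sl2_pow (Matrix.trace g.1) l
    have h1 : g.1 ^ l = 1 := congrArg Subtype.val (hg ▸ pow_orderOf_eq_one g)
    rw [hab g rfl] at h1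
    obtain rfl : a = 0 := by_contra fun a0 => no 2 (by omega) (by omega) (Subtype.ext (by
      have h2 : g.1 = (a⁻¹ * (1 - b)) • 1 := by
        rw [mul_smul, sub_smul, one_smul, ← eq_sub_of_add_eq h1, inv_smul_smul₀ a0]
      have h3 := g.2
      rw [h2, Matrix.det_smul, Matrix.det_one, Fintype.card_fin, mul_one] at h3
      change g.1 ^ 2 = 1
      rw [h2, smul_pow, h3, one_pow, one_smul]))
    change g'.1 ^ l ^ 1 = 1
    rw [zero_smul] at h1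
    rw [pow_one, hab g' hg', zero_smul, h1]

variable (F)

theorem exists_goodTr : ∃ τ : F, GoodTr p τ := by
  by_cases h : 2 = p
  · exact ⟨_, goodTr_neg (by omega)⟩
  · exact ⟨_, goodTr_zero h⟩

theorem exists_goodTr_two (h : 3 < Nat.card F) : ∃ τ τ' : F, τ ≠ τ' ∧ GoodTr p τ ∧ GoodTr p τ' := by
  by_cases h5 : p < 5
  · obtain ⟨τ, h1, h2, h3⟩ := goodTr_big h5 h
    by_cases h : 2 = p
    · exact ⟨_, _, h2, h3, goodTr_neg (by omega)⟩
    · exact ⟨_, _, h1, h3, goodTr_zero h⟩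
  · exact ⟨-1, 0, by simp, goodTr_neg (by omega), goodTr_zero (by omega)⟩

end SL2

theorem braid_cube {A B : G} (h : A * B * A = B * A * B) : (A * B) ^ 3 = (A * B * A) ^ 2 := by
  rw [sq]
  nth_rewrite 2 [h]
  simp only [pow_three, mul_assoc]

theorem braid_conj (A B : G) : A * A * B = A * (A * B * A) * A⁻¹ := by group

end CfsgLib.CKS
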