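import Mathlib
import Cfsg.Agent.Lib.CKS.Abs1
import Cfsg.Agent.Lib.Char.PermChar

/-! CKS, package ABS3: Heisenberg lemmas and the permutation representation. -/

set_option linter.unusedSectionVars false

namespace CfsgLib.CKS
open MulAction
open scoped commutatorElement

variable {G : Type*} [Group G] {Ω : Type*} [MulAction G Ω] [Finite Ω] {p : ℕ} [Fact p.Prime]

theorem burnside (K : Type*) [Group K] [Fintype K] [MulAction K Ω] :
    ∑ k : K, fx Ω k = Nat.card (orbitRel.Quotient K Ω) * Nat.card K := by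
  classical
  have := Fintype.ofFinite Ω
  have := Fintype.ofFinite (orbitRel.Quotient K Ω)
  simp only [fx, Nat.card_eq_fintype_card]
  convert sum_card_fixedBy_eq_card_orbits_mul_card_group K Ω

/-- HEIS -/
theorem heis {A Z : Subgroup G} [Finite A] [Finite Z] (hA : IsPGroup p A) (hZ : IsPGroup p Z)
    (hc : ∀ a ∈ A, ∀ z ∈ Z, Commute a z) (h : ∀ a ∈ A, a ≠ 1 → ∀ z ∈ Z, fx Ω (a * z) = fx Ω a) {r : ℕ}
    (hr : Orb Z Ω r) (h1 : 1 < r) : Nat.card A * r ∣ Nat.card Ω := by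
  classical
  rcases isEmpty_or_nonempty Ω with k | k
  · simp
  have := Fintype.ofFinite A
  have := Fintype.ofFinite Z
  let := MulAction.compHom Ω (A.subtype.noncommCoprod Z.subtype fun a z => hc a a.2 z z.2)
  have e1 : ∑ a : A, fx Ω (a : G) = _ := burnside A
  have e2 : ∑ z : Z, fx Ω (z : G) = _ := burnside Z
  have e3 : ∑ x : A × Z, fx Ω ((x.1 : G) * x.2) = _ := burnside (A × Z)
  rw [← Finset.add_sum_erase _ _ (Finset.mem_univ 1), Subgroup.coe_one, fx_one, ← hr.card_quot] at e1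
  rw [Fintype.sum_prod_type, ← Finset.add_sum_erase _ _ (Finset.mem_univ 1),
    Finset.sum_congr rfl fun (a : A) ha => (Finset.sum_congr rfl fun (z : Z) _ =>
      h a a.2 (fun k => Finset.ne_of_mem_erase ha (Subtype.ext k)) z z.2).trans (Finset.sum_const _),
    ← Finset.smul_sum, Finset.card_univ, smul_eq_mul, ← Nat.card_eq_fintype_card, Nat.card_prod] at e3
  simp only [Subgroup.coe_one, one_mul, e2] at e3
  rw [mul_comm (Nat.card Z), ← add_mul, ← mul_assoc, mul_left_inj' Nat.card_pos.ne'] at e3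
  rw [← hr.card_quot]
  refine mul_dvd_mul_right (Nat.Coprime.dvd_of_dvd_mul_right (n := r - 1) ?_ ?_) r
  · obtain ⟨a, ha⟩ := IsPGroup.iff_card.1 hA
    obtain ⟨b, hb⟩ := IsPGroup.iff_card.1 hZ
    obtain ⟨c, -, rfl⟩ := (Nat.dvd_prime_pow Fact.out).1 (hb ▸ hr.dvd_card)
    rw [ha]
    refine Nat.Coprime.pow_left _ (Nat.Coprime.coprime_dvd_left (dvd_pow_self p (n := c) fun k => ?_) ?_)
    · simp [k] at h1
    · exact (Nat.coprime_self_sub_right h1.le).2 (Nat.coprime_one_right _)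
  · rw [Nat.mul_sub_one, ← Nat.add_sub_add_right _ (∑ a ∈ Finset.univ.erase (1 : A), fx Ω (a : G)), e1, e3]
    exact Nat.dvd_sub (dvd_mul_left _ _) (dvd_mul_left _ _)

theorem heis_conj {A Z : Subgroup G} [Finite A] [Finite Z] (hA : IsPGroup p A) (hZ : IsPGroup p Z)
    (hc : ∀ a ∈ A, ∀ z ∈ Z, Commute a z) (h : ∀ a ∈ A, a ≠ 1 → ∀ z ∈ Z, ∃ b : G, b * a * b⁻¹ = a * z) {r : ℕ}
    (hr : Orb Z Ω r) (h1 : 1 < r) : Nat.card A * r ∣ Nat.card Ω :=
  heis hA hZ hc (fun a ha a1 z hz => by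
    obtain ⟨b, e⟩ := h a ha a1 z hz
    rw [← e, fx_conj]) hr h1

theorem heis_sub {A Z Q : Subgroup G} [Finite A] [Finite Z] (hA : IsPGroup p A) (hZ : IsPGroup p Z)
    (k1 : A ≤ Q) (k2 : Z ≤ Q) (hc : ∀ a ∈ A, ∀ z ∈ Z, Commute a z)
    (h : ∀ a ∈ A, a ≠ 1 → ∀ z ∈ Z, ∃ b ∈ Q, b * a * b⁻¹ = a * z) {X : Type*} [MulAction Q X] [Finite X]
    (hr : Semi (Z.subgroupOf Q) X) (h1 : Z ≠ ⊥) : Nat.card A * Nat.card Z ∣ Nat.card X := by
  have e1 := Subgroup.subgroupOfEquivOfLe k1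
  have e2 := Subgroup.subgroupOfEquivOfLe k2
  have := Finite.of_equiv _ e1.symm.toEquiv
  have := Finite.of_equiv _ e2.symm.toEquiv
  rw [← Nat.card_congr e1.toEquiv, ← Nat.card_congr e2.toEquiv]
  refine heis_conj (hA.of_equiv e1.symm) (hZ.of_equiv e2.symm) (fun a ha z hz => Subtype.ext (hc a ha z hz))
    (fun a ha a1 z hz => ?_) hr.orb (by rwa [Nat.card_congr e2.toEquiv, Subgroup.one_lt_card_iff_ne_bot])
  obtain ⟨b, hb, e⟩ := h a ha (fun k => a1 (Subtype.ext k)) z hz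
  exact ⟨⟨b, hb⟩, Subtype.ext e⟩

/-- HEIS on the fixed points of `u` -/
theorem heis_fx {A Z : Subgroup G} [Finite A] [Finite Z] (hA : IsPGroup p A) (hZ : IsPGroup p Z)
    (hc : ∀ a ∈ A, ∀ z ∈ Z, Commute a z) {u : G} (hAu : ∀ a ∈ A, Commute a u) (hZu : ∀ z ∈ Z, Commute z u)
    (h : ∀ a ∈ A, a ≠ 1 → ∀ z ∈ Z, ∃ b : G, Commute b u ∧ b * a * b⁻¹ = a * z)
    (hr : Semi Z Ω) (h1 : Z ≠ ⊥) : Nat.card A * Nat.card Z ∣ fx Ω u := by
  let := fixAct (Ω := Ω) (P := Subgroup.centralizer {u}) fun g hg => Subgroup.mem_centralizer_singleton_iff.1 hg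
  exact heis_sub (Q := Subgroup.centralizer {u}) hA hZ (fun a ha => Subgroup.mem_centralizer_singleton_iff.2 (hAu a ha))
    (fun a ha => Subgroup.mem_centralizer_singleton_iff.2 (hZu a ha)) hc
    (fun a ha a1 z hz => (h a ha a1 z hz).imp fun b k => ⟨Subgroup.mem_centralizer_singleton_iff.2 k.1, k.2⟩)
    (fun z hz z1 a e => hr z hz (fun k => z1 (Subtype.ext k)) a (congrArg Subtype.val e)) h1

/-- HEIS on an orbit of `Q` -/
theorem heis_orbit {A Z Q : Subgroup G} [Finite Q] (hQ : IsPGroup p Q) (hA : A ≤ Q) (hZ : Z ≤ Q)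
    (hc : ∀ a ∈ A, ∀ z ∈ Z, Commute a z) (h : ∀ a ∈ A, a ≠ 1 → ∀ z ∈ Z, ∃ b ∈ Q, b * a * b⁻¹ = a * z)
    (hr : Semi Z Ω) (h1 : Z ≠ ⊥) (a : Ω) : Nat.card A * Nat.card Z ∣ (orbit Q a).ncard :=
  have := Finite.of_injective _ (Subgroup.inclusion_injective hA)
  have := Finite.of_injective _ (Subgroup.inclusion_injective hZ)
  heis_sub (X := orbit Q a) (hQ.to_le hA) (hQ.to_le hZ) hA hZ hc h
    (fun z hz z1 a e => hr z hz (fun k => z1 (Subtype.ext k)) a (congrArg Subtype.val e)) h1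

/-- if the number of orbits of `Z` is prime to `p`, the commutators of `D` fix a point -/
theorem exists_fix_comm {D Z : Subgroup G} [Finite D] (hD : IsPGroup p D) (hc : ∀ d ∈ D, ∀ z ∈ Z, Commute d z)
    (hZ : ∀ z ∈ Z, ∀ z' ∈ Z, Commute z z') {r : ℕ} (hr : Orb Z Ω r) (h : ¬ p * r ∣ Nat.card Ω) :
    ∃ a : Ω, ∀ g ∈ ⁅D, D⁆, g • a = a := by
  let := quotAct (Ω := Ω) (P := D) (R := Z) fun g hg z hz => by rwa [(hc g hg z hz).eq, mul_inv_cancel_right]
  obtain ⟨⟨a⟩, ha⟩ := hD.nonempty_fixed_point_of_prime_not_dvd_card (orbitRel.Quotient Z Ω) fun k =>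
    h (hr.card_quot ▸ mul_dvd_mul_right k r)
  have k : ∀ d ∈ D, ∃ z ∈ Z, z • a = d • a := fun d hd => mem_orbit_sub.1 (Quotient.exact (ha ⟨d, hd⟩))
  refine ⟨a, fun g hg => (Subgroup.commutator_le (H₃ := stabilizer G a)).2 (fun d hd d' hd' => ?_) hg⟩
  obtain ⟨z, hz, e⟩ := k _ (inv_mem hd)
  obtain ⟨z', hz', e'⟩ := k _ (inv_mem hd')
  rw [mem_stabilizer_iff, commutatorElement_def, mul_smul, mul_smul, mul_smul, smul_eq_iff_eq_inv_smul,
    smul_eq_iff_eq_inv_smul, ← e, ← e', ← mul_smul, ← mul_smul, (hc _ (inv_mem hd) _ hz').eq,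
    (hc _ (inv_mem hd') _ hz).eq, mul_smul, mul_smul, ← e, ← e', ← mul_smul, ← mul_smul, (hZ z hz z' hz').eq]

omit [Finite Ω] in
theorem comm_le_self (D : Subgroup G) : ⁅D, D⁆ ≤ D := Subgroup.commutator_le.2 fun _ h _ h' =>
  mul_mem (mul_mem (mul_mem h h') (inv_mem h)) (inv_mem h')

/-- HEIS0 -/
theorem heis0 {D Z : Subgroup G} [Finite D] (hD : IsPGroup p D) (hc : ∀ d ∈ D, ∀ z ∈ Z, Commute d z)
    (hZ : Z ≤ ⁅D, D⁆) {r : ℕ} (hr : Orb Z Ω r) (h1 : 1 < r) : p * r ∣ Nat.card Ω := by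
  by_contra k
  obtain ⟨a, ha⟩ := exists_fix_comm hD hc (fun z hz => hc z (comm_le_self D (hZ hz))) hr k
  refine h1.not_ge (hr a ▸ (Set.ncard_le_one (Set.toFinite _)).2 fun b hb c hc => ?_)
  obtain ⟨z, hz, rfl⟩ := mem_orbit_sub.1 hb
  obtain ⟨z', hz', rfl⟩ := mem_orbit_sub.1 hc
  rw [ha z (hZ hz), ha z' (hZ hz')]

/-- HEIS0 on the fixed points of `u` -/
theorem heis0_fx {D Z : Subgroup G} [Finite D] (hD : IsPGroup p D) (hc : ∀ d ∈ D, ∀ z ∈ Z, Commute d z)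
    (hZ : Z ≤ ⁅D, D⁆) {u : G} (hu : ∀ d ∈ D, Commute d u) (hr : Semi Z Ω) (h1 : Z ≠ ⊥) :
    p * Nat.card Z ∣ fx Ω u := by
  let := fixAct (Ω := Ω) hu
  have e := Subgroup.subgroupOfEquivOfLe (hZ.trans (comm_le_self D))
  have := Finite.of_equiv _ e.toEquiv
  have h2 : Semi (Z.subgroupOf D) (fixedBy Ω u) := fun z hz z1 a e =>
    hr z hz (fun k => z1 (Subtype.ext k)) a (congrArg Subtype.val e)
  rw [← Nat.card_congr e.toEquiv]
  refine heis0 (D := ⊤) (hD.to_subgroup ⊤) (fun d _ z hz => Subtype.ext (hc d d.2 z hz)) (fun z hz => ?_) h2.orb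
    (by rwa [Nat.card_congr e.toEquiv, Subgroup.one_lt_card_iff_ne_bot])
  obtain ⟨z', h3, h4⟩ := (Subgroup.map_subtype_commutator D).ge (hZ hz)
  exact Subtype.ext h4 ▸ h3

omit [Fact p.Prime]

variable (G Ω) in
/-- the permutation representation -/
def permRep : Representation ℂ G (Ω → ℂ) where
  toFun g := LinearMap.funLeft ℂ ℂ fun a => g⁻¹ • a
  map_one' := by ext; simp
  map_mul' g h := by ext; simp [mul_smul]

omit [Finite Ω] in
theorem permRep_apply (g : G) (v : Ω → ℂ) (a : Ω) : permRep G Ω g v a = v (g⁻¹ • a) := rfl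

theorem character_permRep (g : G) : (permRep G Ω).character g = fx Ω g := by
  classical
  have := Fintype.ofFinite Ω
  rw [Representation.character, LinearMap.trace_eq_matrix_trace ℂ (Pi.basisFun ℂ Ω), fx_eq_ncard, ncard_eq_sum,
    Nat.cast_sum]
  refine Finset.sum_congr rfl fun a _ => ?_
  simp [permRep_apply, Pi.single_apply, inv_smul_eq_iff, eq_comm (a := a) (b := g • a)]

theorem finrank_perm : Module.finrank ℂ (Ω → ℂ) = Nat.card Ω := by
  have := Fintype.ofFinite Ω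
  rw [Module.finrank_fintype_fun_eq_card, Nat.card_eq_fintype_card]

theorem TwoTr.isIrr [Finite G] (H : TwoTr G Ω) : Cfsg.IsIrrCharacter G fun g => (fx Ω g : ℂ) - 1 :=
  have := H.isPretransitive
  (Char.isIrr_perm_sub_one_iff Ω (by have := H.big; omega)).2 H.isMultiply

theorem TwoTr.exists_rep [Finite G] (H : TwoTr G Ω) :
    ∃ ρ : Representation ℂ G (Fin (Nat.card Ω - 1) → ℂ), ρ.IsIrreducible := by
  obtain ⟨n, ρ, h1, h2⟩ := H.isIrr
  have h3 := congrFun h2 1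
  rw [Representation.char_one, fx_one, Module.finrank_fin_fun, eq_sub_iff_add_eq] at h3
  obtain rfl : n = Nat.card Ω - 1 := Nat.eq_sub_of_add_eq (by exact_mod_cast h3)
  exact ⟨ρ, h1⟩

end CfsgLib.CKS
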