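import Mathlib
import Cfsg.Agent.Lib.CKS.Defs

/-! CKS, package HOW: descents in Coxeter groups, traces, averaging operators. -/

namespace CfsgLib.CKS
open Cfsg MulAction BN Module LinearMap

section Cox
variable {B W : Type*} [Group W] {E : ExchSys B W} {J : Set B}

theorem len_of_desc {x : W} (hx : ∀ j ∈ J, ¬ E.P j x) {v : W} (hv : v ∈ E.par J) :
    E.len x = E.len v + E.len (v⁻¹ * x) := by
  induction v using E.induction_red_left with
  | h1 => simp
  | hs i v hP ih =>
    have hi : i ∈ J := E.mem_of_not_P hv (E.P_not i v hP)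
    have hv' : v ∈ E.par J := by simpa using mul_mem (E.s_mem_par hi) hv
    obtain ⟨y, h1, h2⟩ := ExchSys.exists_shorter hP (v⁻¹ * x) (by simpa using hx i hi)
    have h3 : (E.s i * v)⁻¹ * x = y := by
      rw [mul_inv_cancel_left] at h2
      rw [mul_inv_rev, E.s_inv, mul_assoc, h2, inv_mul_cancel_left]
    have h4 := E.len_mul_le (E.s i * v) ((E.s i * v)⁻¹ * x)
    rw [mul_inv_cancel_left] at h4
    have h5 := E.len_of_P hP
    have h6 := ih hv'
    rw [h3] at h4 ⊢
    omega

variable (E J) in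
theorem exists_long [Finite W] : ∃ x ∈ E.par J, ∀ j ∈ J, ¬ E.P j x := by
  obtain ⟨x, hx⟩ := Finite.exists_max fun x : E.par J => E.len x
  exact ⟨x, x.2, fun j hj h => (hx ⟨_, mul_mem (E.s_mem_par hj) x.2⟩).not_gt (E.P_iff.1 h)⟩

theorem len_long {x : W} (hx : x ∈ E.par J) (h : ∀ j ∈ J, ¬ E.P j x) {j : B} (hj : j ∈ J) :
    E.len x = E.len (x * E.s j) + 1 := by
  simpa using len_of_desc h (mul_mem hx (E.s_mem_par hj))

theorem exists_asc {x : W} (hx : x ∈ E.par J) (h : ∀ j ∈ J, ¬ E.P j x) {j : B} (hj : j ∈ J) :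
    ∃ i ∈ J, E.P i (x * E.s j) := by
  by_contra! h'
  have h1 := len_long hx h hj
  have h2 := len_of_desc h' hx
  omega

theorem asc_of_desc {x w : W} (hx : x ∈ E.par J) (h : ∀ j ∈ J, ¬ E.P j x) (hw : ∀ j ∈ J, ¬ E.P j w) {j : B}
    (hj : j ∈ J) : E.P j (x⁻¹ * w) := by
  have h1 := len_long hx h hj
  have h2 := len_of_desc hw hx
  have h3 := len_of_desc hw (mul_mem hx (E.s_mem_par hj))
  rw [mul_inv_rev, E.s_inv, mul_assoc] at h3
  rw [E.P_iff]
  omega

open Classical in
/-- the characteristic functions of the cosets `W_{Asc w} w` -/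
noncomputable def cos (E : ExchSys B W) (w v : W) : ℂ := if v * w⁻¹ ∈ E.par {j | E.P j w} then 1 else 0

theorem cos_self (w : W) : cos E w w = 1 := if_pos (by simp)

theorem cos_one (v : W) : cos E 1 v = 1 := if_pos (by simp [E.P_one, E.par_univ])

theorem cos_s {w : W} {j : B} (h : E.P j w) (v : W) : cos E w (E.s j * v) = cos E w v := by
  classical
  exact if_congr (by rw [mul_assoc]; exact mul_mem_cancel_left (E.s_mem_par (J := {j | E.P j w}) h)) rfl rfl

theorem lt_of_cos {w v : W} (h : cos E w v ≠ 0) (h' : w ≠ v) : E.len w < E.len v := by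
  have h1 : v * w⁻¹ ∈ E.par {j | E.P j w} := by
    by_contra h1
    exact h (if_neg h1)
  have h2 := ExchSys.Min.len_mul (E := E) (J := {j | E.P j w}) (d := w⁻¹) (fun j hj => ExchSys.P_iff_inv.1 hj)
    (inv_mem h1)
  rw [← mul_inv_rev, inv_mul_cancel_right, E.len_inv, E.len_inv, E.len_inv] at h2
  have h3 : E.len (v * w⁻¹) ≠ 0 := fun e => h' (mul_inv_eq_one.1 (E.len_eq_zero.1 e)).symm
  omega

theorem exists_cosEquiv [Fintype W] [DecidableEq W] (E : ExchSys B W) :
    ∃ T : (W → ℂ) ≃ₗ[ℂ] (W → ℂ), ∀ w, T (Pi.single w 1) = cos E w := by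
  have : Function.Injective (Fintype.linearCombination ℂ (cos E)) := by
    rw [injective_iff_map_eq_zero]
    intro c hc
    funext w
    induction h : E.len w using Nat.strong_induction_on generalizing w with
    | _ n ih =>
      have := congrFun hc w
      rw [Fintype.linearCombination_apply, Finset.sum_apply, Finset.sum_eq_single w] at this
      · simpa [cos_self] using this
      · intro v _ hv
        by_cases h1 : cos E v w = 0
        · simp [h1]
        · simp [ih _ (h ▸ lt_of_cos h1 hv) v rfl]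
      · simp
  exact ⟨.ofInjectiveEndo _ this, fun w => by simp [Fintype.linearCombination_apply_single]⟩

end Cox

section Lin
variable {M E : Type*} [AddCommGroup M] [Module ℂ M] [AddCommGroup E] [Module ℂ E]

theorem trace_eq_of_range [FiniteDimensional ℂ M] [FiniteDimensional ℂ E] {Θ : E →ₗ[ℂ] M} {ε e : End ℂ M}
    {d e' : End ℂ E} (χ : M →ₗ[ℂ] E) (h1 : range ε ≤ range Θ) (h2 : ε ∘ₗ Θ = Θ) (h3 : Θ ∘ₗ d = Θ)
    (h4 : range d ≤ range (χ ∘ₗ ε)) (he : e ∘ₗ Θ = Θ ∘ₗ e') :
    trace ℂ M (ε * e) = trace ℂ E (d * e') := by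
  have hk : ker d = ker Θ := by
    refine Submodule.eq_of_le_of_finrank_le (h3 ▸ ker_le_ker_comp _ _) ?_
    have k1 := d.finrank_range_add_finrank_ker
    have k2 := Θ.finrank_range_add_finrank_ker
    have k3 := Submodule.finrank_mono h1
    have k4 := Submodule.finrank_mono h4
    have k5 := Submodule.finrank_map_le χ (range ε)
    rw [← range_comp] at k5
    omega
  obtain ⟨σ, hσ⟩ := Module.projective_lifting_property Θ.rangeRestrict
    (ε.codRestrict _ fun x => h1 (mem_range_self _ x)) Θ.surjective_rangeRestrict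
  have k1 : Θ ∘ₗ σ = ε := LinearMap.ext fun x => congrArg Subtype.val (LinearMap.congr_fun hσ x)
  have k2 : d ∘ₗ σ ∘ₗ Θ = d := LinearMap.ext fun x => by
    have : σ (Θ x) - x ∈ ker d := by
      rw [hk, mem_ker, map_sub, sub_eq_zero]
      exact (LinearMap.congr_fun k1 _).trans (LinearMap.congr_fun h2 x)
    rwa [mem_ker, map_sub, sub_eq_zero] at this
  calc trace ℂ M (ε * e) = trace ℂ M (Θ ∘ₗ (d ∘ₗ σ ∘ₗ e)) := by
        rw [← comp_assoc, h3, ← comp_assoc, k1]; rfl
    _ = _ := by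
        rw [trace_comp_comm', comp_assoc, comp_assoc, he, ← comp_assoc _ _ σ, ← comp_assoc, k2]; rfl

theorem trace_pi {I : Type*} [Fintype I] [DecidableEq I] (f : End ℂ (I → ℂ)) :
    trace ℂ _ f = ∑ i, f (Pi.single i 1) i := by
  rw [trace_eq_matrix_trace ℂ (Pi.basisFun ℂ I)]
  simp [Matrix.trace]

theorem exists_trace_eq_nat [FiniteDimensional ℂ M] {f : End ℂ M} (h : f * f = f) : ∃ m : ℕ, trace ℂ M f = m :=
  ⟨_, (IsIdempotentElem.isProj_range f h).trace⟩

variable {G : Type*} [Group G] (ρ : Representation ℂ G M) {U : Subgroup G} [Fintype U]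

/-- the projection onto the eigenspace of a linear character of a subgroup -/
noncomputable def eps (l : U →* ℂˣ) : End ℂ M := (Fintype.card U : ℂ)⁻¹ • ∑ u : U, (l u⁻¹ : ℂ) • ρ u

variable {ρ} {l : U →* ℂˣ}

theorem eps_mul (u : U) : eps ρ l * ρ u = (l u : ℂ) • eps ρ l := by
  rw [eps, smul_mul_assoc, smul_comm (l u : ℂ), Finset.sum_mul, Finset.smul_sum (r := (l u : ℂ))]
  congr 1
  refine Fintype.sum_equiv (Equiv.mulRight u) _ _ fun v => ?_
  simp [smul_smul]

theorem mul_eps (u : U) : ρ u * eps ρ l = (l u : ℂ) • eps ρ l := by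
  rw [eps, mul_smul_comm, smul_comm (l u : ℂ), Finset.mul_sum, Finset.smul_sum (r := (l u : ℂ))]
  congr 1
  refine Fintype.sum_equiv (Equiv.mulLeft u) _ _ fun v => ?_
  simp [smul_smul, mul_comm (l v : ℂ)⁻¹]

theorem mul_eps_of {f : End ℂ M} (h : ∀ u : U, f * ρ u = (l u : ℂ) • f) : f * eps ρ l = f := by
  rw [eps, mul_smul_comm, Finset.mul_sum]
  simp only [mul_smul_comm, h, smul_smul, ← Units.val_mul, ← map_mul, inv_mul_cancel, map_one, Units.val_one, one_smul,
    Finset.sum_const, Finset.card_univ, ← Nat.cast_smul_eq_nsmul ℂ]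
  rw [inv_mul_cancel₀ (by simp), one_smul]

theorem eps_eps : eps ρ l * eps ρ l = eps ρ l := mul_eps_of eps_mul

theorem eps_eq_zero {v : M} {u : U} (h : ρ u v = v) (h1 : l u ≠ 1) : eps ρ l v = 0 := by
  have := LinearMap.congr_fun (eps_mul (ρ := ρ) (l := l) u) v
  rw [End.mul_apply, h, LinearMap.smul_apply, eq_comm, ← sub_eq_zero] at this
  nth_rewrite 2 [← one_smul ℂ (eps ρ l v)] at this
  rw [← sub_smul, smul_eq_zero, sub_eq_zero] at this
  exact this.resolve_left fun e => h1 (Units.ext e)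

theorem commute_eps {e : End ℂ M} (h : ∀ g, Commute e (ρ g)) : Commute e (eps ρ l) :=
  (Commute.sum_right _ _ _ fun (u : U) _ => (h u).smul_right (l u⁻¹ : ℂ)).smul_right _

theorem commute_eps_one {g : G} (h : ∀ u ∈ U, g * u * g⁻¹ ∈ U) : Commute (ρ g) (eps ρ (1 : U →* ℂˣ)) := by
  rw [Commute, SemiconjBy, eps, smul_mul_assoc, mul_smul_comm, Finset.sum_mul, Finset.mul_sum]
  congr 1
  refine Fintype.sum_bijective (fun u : U => (⟨_, h u u.2⟩ : U)) (Finite.injective_iff_bijective.1 fun u v e => ?_) _ _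
    fun u => by simp [← map_mul]
  simpa using e

end Lin

end CfsgLib.CKS
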