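import Mathlib
import Cfsg.Agent.Lib.CKS.HowA
import Cfsg.Agent.Lib.CKS.Abs3

/-! CKS, package HOW: eigenspaces of linear characters of `U` on the chambers. -/

namespace CfsgLib.CKS
open Cfsg MulAction BN Module LinearMap

variable {G : Type*} [Group G] {P : BNPair G}

theorem permRep_single {Ω : Type*} [MulAction G Ω] [DecidableEq Ω] (g : G) (a : Ω) :
    permRep G Ω g (Pi.single a 1) = Pi.single (g • a) 1 := by
  funext b
  simp only [permRep_apply, Pi.single_apply, inv_smul_eq_iff]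

local notation "ρX" => permRep G (G ⧸ P.B)

theorem typ_smul {b : G} (hb : b ∈ P.B) (x : G ⧸ P.B) : typ P (b • x) = typ P x := by
  obtain ⟨g, rfl⟩ := QuotientGroup.mk_surjective x
  exact typ_mk.2 (B_mul_mem_cell hb (typ_mk.1 rfl))

theorem typ_rep (w : W P) : typ P ((rep P w : G) : G ⧸ P.B) = w := typ_mk.2 (rep_mem_cell P w)

theorem io_ka {F : G ⧸ P.B → ℂ} (h : ∀ b ∈ P.B, ρX b F = F) (x : G ⧸ P.B) : F (rep P (typ P x) : G) = F x := by
  obtain ⟨g, rfl⟩ := QuotientGroup.mk_surjective x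
  obtain ⟨b, hb, b', hb', e⟩ := exists_of_mem_cell (typ_mk.1 rfl : g ∈ cell P (typ P g)) (rep_mem_cell P _)
  rw [e, QuotientGroup.mk_mul_of_mem _ hb']
  simpa [permRep_apply] using (congrFun (h _ (inv_mem hb)) g)

theorem rho_io {b : G} (hb : b ∈ P.B) (a : W P → ℂ) : ρX b (a ∘ typ P) = a ∘ typ P :=
  funext fun x => congrArg a (typ_smul (inv_mem hb) x)

theorem rho_s_io {j : P.S} {a : W P → ℂ} (h : ∀ v, a (sW P j * v) = a v) : ρX (j : G)⁻¹ (a ∘ typ P) = a ∘ typ P := by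
  funext x
  obtain ⟨g, rfl⟩ := QuotientGroup.mk_surjective x
  rw [permRep_apply, inv_inv]
  obtain h1 | h1 := cell_s_mul j (S_mem_cell j) (typ_mk.1 rfl : g ∈ cell P (typ P g))
  · exact (congrArg a (typ_mk.2 h1)).trans (h _)
  · exact congrArg a (typ_mk.2 h1)

theorem rho_conj {M : Type*} [AddCommGroup M] [Module ℂ M] {ρ : Representation ℂ G M} {x n : G} {v : M}
    (h : ρ (n⁻¹ * x * n) v = v) : ρ x (ρ n v) = ρ n v := by
  conv_rhs => rw [← h]
  rw [← End.mul_apply, ← End.mul_apply, ← map_mul, ← map_mul, mul_assoc, mul_inv_cancel_left]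

variable {p : ℕ} {U : Subgroup G} {X : P.S → Subgroup G} {R : Set P.S → Subgroup G}

variable (X) in
/-- the support of a linear character -/
def supp (l : U →* ℂˣ) : Set P.S := {s | ∃ u : U, (u : G) ∈ X s ∧ l u ≠ 1}

namespace Split
variable (S : Split P p U X R) {l : U →* ℂˣ}
include S

theorem apply_R {u : U} (hu : (u : G) ∈ R (supp X l)) : l u = 1 := by
  have hY : ⨆ s ∈ supp X l, X s ≤ U := iSup₂_le fun s _ => S.X_le s
  have : ∀ g ∈ ⨆ s, X s, ∃ c : U, (c : G) ∈ R (supp X l) ∧ l c = 1 ∧ ∃ y ∈ ⨆ s ∈ supp X l, X s, g = c * y := by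
    intro g hg
    induction hg using Subgroup.iSup_induction' with
    | hp s x hx =>
      by_cases h : s ∈ supp X l
      · exact ⟨1, one_mem _, map_one _, x, (le_iSup₂_of_le (f := fun s _ => X s) s h le_rfl :) hx, by simp⟩
      · refine ⟨⟨x, S.X_le s hx⟩, S.X_le_R _ s h hx, ?_, 1, one_mem _, by simp⟩
        by_contra h1
        exact h ⟨_, hx, h1⟩
    | h1 => exact ⟨1, one_mem _, map_one _, 1, one_mem _, by simp⟩
    | hmul x y _ _ hx hy =>
      obtain ⟨c, h1, h2, x, h3, rfl⟩ := hx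
      obtain ⟨c', k1, k2, y, k3, rfl⟩ := hy
      exact ⟨c * (⟨x, hY h3⟩ * c' * ⟨x, hY h3⟩⁻¹), mul_mem h1 (S.R_norm _ _ (B_le_parabolic _ (S.U_le (hY h3))) _ k1),
        by simp [h2, k2], x * y, mul_mem h3 k3, by simp [mul_assoc]⟩
  obtain ⟨c, h1, h2, y, h3, e⟩ := this u (S.gen u.2)
  have h4 : y = 1 := Subgroup.disjoint_def.1 (S.disj _) (by
    rw [← inv_mul_cancel_left (c : G) y, ← e]; exact mul_mem (inv_mem h1) hu) h3
  rw [h4, mul_one] at e
  rw [Subtype.ext e, h2]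

variable [Fintype U]

theorem eps_asc {n : G} (hn : n ∈ P.N) {j : P.S} (hj : j ∈ supp X l) (h : (exch P).P j (cls P hn))
    {F : G ⧸ P.B → ℂ} (hF : ∀ b ∈ P.B, ρX b F = F) : eps ρX l (ρX n F) = 0 :=
  let ⟨_, h1, h2⟩ := hj
  eps_eq_zero (rho_conj (hF _ (S.asc j n hn h _ h1))) h2

omit [Fintype U] in
theorem avg_fix {J : Set P.S} [Fintype (R J)] {n : G} (hn : n ∈ P.N) (h : ∀ j ∈ J, (exch P).P j (cls P hn))
    {F : G ⧸ P.B → ℂ} (hF : ∀ b ∈ P.B, ρX b F = F) :
    ∀ b ∈ P.B, ρX b (eps ρX (1 : R J →* ℂˣ) (ρX n F)) = eps ρX (1 : R J →* ℂˣ) (ρX n F) := by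
  have k1 : ∀ b ∈ P.B, n⁻¹ * b * n ∈ P.B → ρX b (eps ρX (1 : R J →* ℂˣ) (ρX n F)) = eps ρX (1 : R J →* ℂˣ) (ρX n F) :=
    fun b hb hb' => by
      rw [← End.mul_apply, (commute_eps_one (S.R_norm J b (B_le_parabolic _ hb))).eq, End.mul_apply,
        rho_conj (hF _ hb')]
  intro b hb
  obtain ⟨u, hu, t, ht, rfl⟩ := S.split b hb
  rw [map_mul, End.mul_apply, k1 t ht.1 (by simpa using P.conj_mem _ (inv_mem hn) t ht)]
  have := S.gen hu
  clear hu hb
  induction this using Subgroup.iSup_induction' with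
  | hp s x hx =>
    by_cases hs : s ∈ J
    · exact k1 x (S.U_le (S.X_le s hx)) (S.asc s n hn (h s hs) x hx)
    · simpa using LinearMap.congr_fun (mul_eps (ρ := ρX) (l := (1 : R J →* ℂˣ)) ⟨x, S.X_le_R J s hs hx⟩) (ρX n F)
  | h1 => simp
  | hmul x y _ _ hx hy => rw [map_mul, End.mul_apply, hy, hx]

variable [Finite G]

theorem range_le {x : W P} (hx : x ∈ (exch P).par (supp X l)) (h : ∀ j ∈ supp X l, ¬ (exch P).P j x) :
    range (eps ρX l) ≤ range (eps ρX l ∘ₗ ρX (rep P x) ∘ₗ funLeft ℂ ℂ (typ P)) := by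
  classical
  have := Fintype.ofFinite (G ⧸ P.B)
  have := Fintype.ofFinite (R (supp X l))
  have hδ : ∀ b ∈ P.B, ρX b (Pi.single ((1 : G) : G ⧸ P.B) 1) = Pi.single ((1 : G) : G ⧸ P.B) 1 := fun b hb => by
    rw [permRep_single, Quotient.smul_mk, smul_eq_mul, mul_one, ← one_mul b, QuotientGroup.mk_mul_of_mem _ hb]
  rintro _ ⟨F, rfl⟩
  rw [pi_eq_sum_univ' F, map_sum]
  refine Submodule.sum_mem _ fun y _ => ?_
  rw [map_smul]
  refine Submodule.smul_mem _ _ ?_
  obtain ⟨g, rfl⟩ := QuotientGroup.mk_surjective y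
  obtain ⟨w, hw⟩ := exists_mem_cell P g
  obtain ⟨b, hb, b', hb', rfl⟩ := exists_of_mem_cell (rep_mem_cell P w) hw
  obtain ⟨u, hu, t, ht, rfl⟩ := S.split b hb
  have hn := mul_mem ht.2 (rep_mem P w)
  rw [QuotientGroup.mk_mul_of_mem _ hb', mul_assoc]
  generalize t * rep P w = n at hn ⊢
  have e1 : Pi.single ((u * n : G) : G ⧸ P.B) (1 : ℂ) = ρX u (ρX n (Pi.single ((1 : G) : G ⧸ P.B) 1)) := by
    simp [permRep_single]
  rw [e1, ← End.mul_apply, eps_mul ⟨u, hu⟩, LinearMap.smul_apply]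
  refine Submodule.smul_mem _ _ ?_
  by_cases h1 : ∀ j ∈ supp X l, ¬ (exch P).P j (cls P hn)
  · have hn' := mul_mem (inv_mem (rep_mem P x)) hn
    have h2 := S.avg_fix hn' (fun j hj => by
      rw [cls_mul P (inv_mem (rep_mem P x)) hn, cls_inv P (rep_mem P x), cls_rep]
      exact asc_of_desc hx h h1 hj) hδ
    refine ⟨fun w => eps ρX (1 : R (supp X l) →* ℂˣ) (ρX ((rep P x)⁻¹ * n) (Pi.single ((1 : G) : G ⧸ P.B) 1))
      (rep P w : G), ?_⟩
    rw [comp_apply, comp_apply, show funLeft ℂ ℂ (typ P) _ = _ from funext (io_ka h2), ← End.mul_apply (ρX _),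
      (commute_eps_one (S.R_norm _ _ (rep_mem_par hx))).eq, End.mul_apply, ← End.mul_apply (ρX _), ← map_mul,
      mul_inv_cancel_left, ← End.mul_apply, mul_eps_of fun r => ?_]
    rw [eps_mul (l := l) ⟨r, S.R_le _ r.2⟩, S.apply_R (u := ⟨r, _⟩) r.2, MonoidHom.one_apply]
  · push Not at h1
    obtain ⟨j, hj, h1⟩ := h1
    rw [S.eps_asc hn hj h1 hδ]
    exact zero_mem _

omit [Finite G] in
theorem single_mem [DecidableEq (W P)] {w : W P} (h : ∀ j ∈ supp X l, ¬ (exch P).P j w) :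
    Pi.single w 1 ∈ range (funLeft ℂ ℂ (fun w => ((rep P w : G) : G ⧸ P.B)) ∘ₗ eps ρX l) := by
  classical
  let c : ℂ := (Finset.univ.filter fun u : U => (u : G) • ((rep P w : G) : G ⧸ P.B) = (rep P w : G)).card
  have hc : c ≠ 0 := Nat.cast_ne_zero.2 (Finset.card_ne_zero.2 ⟨1, Finset.mem_filter.2 ⟨Finset.mem_univ _, one_smul G _⟩⟩)
  refine ⟨(c⁻¹ * Fintype.card U) • Pi.single ((rep P w : G) : G ⧸ P.B) 1, funext fun v => ?_⟩
  simp only [eps, comp_apply, funLeft_apply, map_smul, LinearMap.smul_apply, LinearMap.sum_apply, permRep_single,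
    Pi.smul_apply, Finset.sum_apply, smul_eq_mul]
  rw [mul_assoc, mul_inv_cancel_left₀ (by simp), inv_mul_eq_iff_eq_mul₀ hc]
  by_cases hv : v = w
  · subst hv
    rw [Pi.single_eq_same, mul_one]
    simp only [c, Finset.card_filter, Nat.cast_sum]
    refine Finset.sum_congr rfl fun u _ => ?_
    split_ifs with h1
    · have : (u : G)⁻¹ ∈ R (supp X l) := S.opp _ _ (rep_mem P v) (by rwa [cls_rep]) _ (inv_mem u.2) (by
        simpa [mul_assoc] using QuotientGroup.eq.1 h1)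
      rw [h1, S.apply_R (u := u⁻¹) this]
      simp
    · rw [Pi.single_eq_of_ne' h1]
      simp
  · rw [Pi.single_eq_of_ne hv, mul_zero]
    refine Finset.sum_eq_zero fun u _ => ?_
    rw [Pi.single_eq_of_ne, mul_zero]
    intro e
    have := congrArg (typ P) e
    rw [typ_smul (S.U_le u.2), typ_rep, typ_rep] at this
    exact hv this

omit [Fintype U] in
open Classical in
theorem exists_coef [Fintype P.S] {e : End ℂ (G ⧸ P.B → ℂ)} (he : ∀ g, Commute e (ρX g)) (h1 : e 1 = 0) :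
    ∃ a : Finset P.S → ℂ, ∑ J, (-1) ^ J.card * a J = 0 ∧
      ∀ [Fintype U] (l : U →* ℂˣ), trace ℂ _ (eps ρX l * e) = a (supp X l).toFinset := by
  have := Fintype.ofFinite (W P)
  obtain ⟨T, hT⟩ := exists_cosEquiv (exch P)
  let e' : End ℂ (W P → ℂ) := T.symm.toLinearMap ∘ₗ funLeft ℂ ℂ (fun w => ((rep P w : G) : G ⧸ P.B)) ∘ₗ e ∘ₗ
    funLeft ℂ ℂ (typ P) ∘ₗ T.toLinearMap
  refine ⟨fun J => ∑ w, if ∀ j ∈ J, ¬ (exch P).P j w then e' (Pi.single w 1) w else 0, ?_, fun l => ?_⟩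
  · simp only [Finset.mul_sum]
    rw [Finset.sum_comm]
    refine Finset.sum_eq_zero fun w _ => ?_
    by_cases hw : w = 1
    · have : e' (Pi.single w 1) = 0 := by
        have : funLeft ℂ ℂ (typ P) (T (Pi.single 1 1)) = 1 := funext fun x => by rw [hT]; exact cos_one _
        simp [e', hw, this, h1]
      simp [this]
    · have k := Finset.sum_powerset_neg_one_pow_card_of_nonempty
        (x := Finset.univ.filter fun j => ¬ (exch P).P j w) (let ⟨j, hj⟩ := (exch P).exists_not_P hw; ⟨j, by simpa⟩)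
      simp only [mul_ite, mul_zero]
      rw [← Finset.sum_filter, ← Finset.sum_mul, show Finset.univ.filter _ = Finset.powerset _ from ?_,
        show ∑ J ∈ _, (-1 : ℂ) ^ Finset.card J = 0 by exact_mod_cast k, zero_mul]
      ext J
      simp [Finset.subset_iff]
  · obtain ⟨x, hx, h⟩ := exists_long (exch P) (supp X l)
    let d : End ℂ (W P → ℂ) := mulLeft ℂ fun w => if ∀ j ∈ supp X l, ¬ (exch P).P j w then 1 else 0
    have hd : ∀ w, d (Pi.single w 1) = if ∀ j ∈ supp X l, ¬ (exch P).P j w then Pi.single w 1 else 0 := fun w => by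
      funext v
      simp only [d, mulLeft_apply, Pi.mul_apply]
      by_cases hv : v = w
      · subst hv
        split_ifs <;> simp
      · simp [hv, ite_apply]
    rw [trace_eq_of_range (Θ := (eps ρX l ∘ₗ ρX (rep P x) ∘ₗ funLeft ℂ ℂ (typ P)) ∘ₗ T.toLinearMap) (d := d) (e' := e')
      (funLeft ℂ ℂ fun w => ((rep P w : G) : G ⧸ P.B)) (by rw [LinearEquiv.range_comp]; exact S.range_le hx h)
      (by rw [← comp_assoc, ← comp_assoc]; congr 2; exact eps_eps) ?_ ?_ ?_, trace_pi]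
    · simp [d]
    · refine (Pi.basisFun ℂ _).ext fun w => ?_
      rw [Pi.basisFun_apply, comp_apply, hd]
      split_ifs with h2
      · rfl
      · push Not at h2
        obtain ⟨j, hj, h2⟩ := h2
        obtain ⟨i, hi, h3⟩ := exists_asc hx h hj
        have h4 := S.eps_asc (mul_mem (rep_mem P x) (P.subset j.2)) hi (by
          rwa [cls_mul P (rep_mem P x) (P.subset j.2), cls_rep]) (fun b hb => rho_io hb (cos (exch P) w))
        rw [← rho_s_io (cos_s h2), ← End.mul_apply (ρX _), ← map_mul, mul_inv_cancel_right] at h4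
        rw [map_zero, comp_apply, comp_apply, comp_apply, LinearEquiv.coe_coe, hT]
        exact h4.symm
    · rintro _ ⟨c, rfl⟩
      rw [pi_eq_sum_univ' c, map_sum]
      refine Submodule.sum_mem _ fun w _ => ?_
      rw [map_smul, hd]
      split_ifs with h2
      exacts [Submodule.smul_mem _ _ (S.single_mem h2), by simp]
    · refine LinearMap.ext fun c => ?_
      have : ∀ b ∈ P.B, ρX b (e (T c ∘ typ P)) = e (T c ∘ typ P) := fun b hb => by
        rw [← End.mul_apply, ← (he b).eq, End.mul_apply, rho_io hb]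
      simp only [e', comp_apply, LinearEquiv.coe_coe, LinearEquiv.apply_symm_apply]
      rw [← End.mul_apply e, (commute_eps he).eq, End.mul_apply, ← End.mul_apply e, (he _).eq, End.mul_apply]
      congr 2
      exact (funext (io_ka this)).symm

end Split

end CfsgLib.CKS
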