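import Mathlib
import Cfsg.Agent.Lib.CKS.HowB

/-! CKS, package HOW: the Borel subgroup is transitive. -/

namespace CfsgLib.CKS
open Cfsg MulAction BN Module LinearMap

variable {G : Type*} [Group G] {Ω : Type*} [MulAction G Ω]

theorem TwoTr.exists_scalars [Fintype Ω] (H : TwoTr G Ω) {A : End ℂ (Ω → ℂ)} (hA : ∀ g, Commute A (permRep G Ω g)) :
    ∃ c β : ℂ, A = c • 1 + β • (∑ a, proj a : (Ω → ℂ) →ₗ[ℂ] ℂ).smulRight 1 := by
  classical
  have k : ∀ (g : G) a b, A (Pi.single (g • b) 1) (g • a) = A (Pi.single b 1) a := fun g a b => by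
    rw [← permRep_single, ← End.mul_apply, (hA g).eq, End.mul_apply, permRep_apply, inv_smul_smul]
  have : Nontrivial Ω := Finite.one_lt_card_iff_nontrivial.1 (by have := H.big; omega)
  obtain ⟨a, b, hab⟩ := exists_pair_ne Ω
  refine ⟨A (Pi.single a 1) a - A (Pi.single b 1) a, A (Pi.single b 1) a, (Pi.basisFun ℂ _).ext fun y => funext fun x => ?_⟩
  by_cases h : x = y
  · obtain ⟨g, rfl⟩ := H.trans a x
    subst h
    simp [k, Pi.single_apply]
  · obtain ⟨g, rfl, rfl⟩ := H.tr a b x y hab h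
    simp [k, Pi.single_apply, hab]

theorem TwoTr.exists_idem_of_kernel [Fintype Ω] (H : TwoTr G Ω) {Y : Type*} [MulAction G Y] [Fintype Y]
    (k : Y → Ω → ℝ) (h1 : ∀ (g : G) x a, k (g • x) (g • a) = k x a) (h2 : ∀ x, ∑ a, k x a = 0) {x₀ : Y} {a₀ : Ω}
    (h3 : k x₀ a₀ ≠ 0) : ∃ e : End ℂ (Y → ℂ), (∀ g, Commute e (permRep G Y g)) ∧ e * e = e ∧ e 1 = 0 ∧
      ∀ g, trace ℂ _ (permRep G Y g * e) = fx Ω g - 1 := by
  classical
  let ψ : (Ω → ℂ) →ₗ[ℂ] Y → ℂ := Matrix.mulVecLin (Matrix.of fun x a => (k x a : ℂ))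
  let φ : (Y → ℂ) →ₗ[ℂ] Ω → ℂ := Matrix.mulVecLin (Matrix.of fun a x => (k x a : ℂ))
  have hψ : ∀ g, ψ ∘ₗ permRep G Ω g = permRep G Y g ∘ₗ ψ := fun g => LinearMap.ext fun v => funext fun x =>
    (Fintype.sum_equiv (MulAction.toPerm g) _ _ fun a => by
      simp [permRep_apply, ← h1 g (g⁻¹ • x) a]).symm
  have hφ : ∀ g, φ ∘ₗ permRep G Y g = permRep G Ω g ∘ₗ φ := fun g => LinearMap.ext fun v => funext fun a =>
    (Fintype.sum_equiv (MulAction.toPerm g) _ _ fun x => by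
      simp [permRep_apply, ← h1 g x (g⁻¹ • a)]).symm
  have hψ1 : ψ 1 = 0 := funext fun x => by
    simpa [ψ, Matrix.mulVec, dotProduct] using congrArg ((↑) : ℝ → ℂ) (h2 x)
  obtain ⟨c, β, e⟩ := H.exists_scalars (A := φ ∘ₗ ψ) fun g => by
    change φ ∘ₗ ψ ∘ₗ permRep G Ω g = (permRep G Ω g ∘ₗ φ) ∘ₗ ψ
    rw [hψ, ← hφ, comp_assoc]
  have e1 : c + β * Fintype.card Ω = 0 := by simpa [hψ1] using (congrFun (LinearMap.congr_fun e 1) a₀).symm
  have hc : c ≠ 0 := by
    rintro rfl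
    have : Nonempty Ω := ⟨a₀⟩
    obtain rfl : β = 0 := by simpa using e1
    have := congrFun (LinearMap.congr_fun e (Pi.single a₀ 1)) a₀
    simp only [φ, ψ, comp_apply, Matrix.mulVecLin_apply, Matrix.mulVec_single_one, zero_smul, add_zero,
      LinearMap.zero_apply, Pi.zero_apply, Matrix.mulVec, dotProduct, Matrix.of_apply, Matrix.col_apply] at this
    have h4 : ∑ x, k x a₀ * k x a₀ = 0 := by exact_mod_cast this
    exact h3 (mul_self_eq_zero.1 ((Finset.sum_eq_zero_iff_of_nonneg fun x _ => mul_self_nonneg _).1 h4 x₀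
      (Finset.mem_univ _)))
  refine ⟨c⁻¹ • (ψ ∘ₗ φ), fun g => Commute.smul_left ?_ _, LinearMap.ext fun v => ?_, ?_, fun g => ?_⟩
  · change ψ ∘ₗ φ ∘ₗ permRep G Y g = (permRep G Y g ∘ₗ ψ) ∘ₗ φ
    rw [hφ, ← hψ, comp_assoc]
  · have := LinearMap.congr_fun e (φ v)
    rw [comp_apply] at this
    simp [this, hψ1, hc]
  · have : φ 1 = φ 1 a₀ • 1 := funext fun a => by
      obtain ⟨g, rfl⟩ := H.trans a a₀
      simpa [permRep_apply, show permRep G Y g 1 = 1 from rfl] using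
        (congrFun (LinearMap.congr_fun (hφ g) 1) (g • a)).symm
    rw [LinearMap.smul_apply, comp_apply, this, map_smul, hψ1, smul_zero, smul_zero]
  · rw [mul_smul_comm, map_smul, End.mul_eq_comp, ← comp_assoc, ← hψ, comp_assoc, trace_comp_comm', comp_assoc, e,
      comp_add, comp_smul, comp_smul, map_add, map_smul, map_smul, ← End.mul_eq_comp, mul_one,
      show permRep G Ω g ∘ₗ _ = (∑ a, proj a : (Ω → ℂ) →ₗ[ℂ] ℂ).smulRight 1 from rfl, trace_smulRight,
      show trace ℂ _ _ = _ from character_permRep g]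
    simp only [smul_eq_mul, LinearMap.sum_apply, proj_apply, Pi.one_apply, Finset.sum_const, Finset.card_univ,
      nsmul_eq_mul, mul_one]
    field_simp
    linear_combination e1

theorem TwoTr.exists_idem [Finite G] (H : TwoTr G Ω) {B : Subgroup G} (hB : ¬ TrOn B Ω) :
    ∃ e : End ℂ (G ⧸ B → ℂ), (∀ g, Commute e (permRep G (G ⧸ B) g)) ∧ e * e = e ∧ e 1 = 0 ∧
      ∀ g, trace ℂ _ (permRep G (G ⧸ B) g * e) = fx Ω g - 1 := by
  classical
  have := H.finite
  have := Fintype.ofFinite Ω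
  have := Fintype.ofFinite (G ⧸ B)
  unfold TrOn at hB
  push Not at hB
  obtain ⟨a, b, hab⟩ := hB
  let f : Ω → ℝ := fun x => (if x ∈ orbit B a then (Fintype.card Ω : ℝ) else 0) - (orbit B a).toFinset.card
  have hf : ∀ g ∈ B, ∀ x, f (g • x) = f x := fun g hg x => by
    simp only [f, show g • x ∈ orbit B a ↔ x ∈ orbit B a from ⟨fun h => by
      simpa [Subgroup.smul_def] using mem_orbit_of_mem_orbit (⟨g, hg⟩ : B)⁻¹ h, mem_orbit_of_mem_orbit (⟨g, hg⟩ : B)⟩]
  refine H.exists_idem_of_kernel (fun x y => Quotient.liftOn' x (fun g => f (g⁻¹ • y)) fun g g' h => ?_)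
    (fun g x y => ?_) (fun x => ?_) (x₀ := ((1 : G) : G ⧸ B)) (a₀ := b) ?_
  · rw [← hf _ (inv_mem (QuotientGroup.leftRel_apply.1 h)), ← mul_smul]
    simp
  · obtain ⟨x, rfl⟩ := QuotientGroup.mk_surjective x
    change f ((g * x)⁻¹ • g • y) = f (x⁻¹ • y)
    rw [mul_inv_rev, mul_smul, inv_smul_smul]
  · obtain ⟨x, rfl⟩ := QuotientGroup.mk_surjective x
    refine (Equiv.sum_comp (MulAction.toPerm x⁻¹) f).trans ?_
    simp [f, Finset.sum_ite, mul_comm]
  · change f ((1 : G)⁻¹ • b) ≠ 0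
    have : b ∉ orbit B a := fun ⟨g, h⟩ => hab g g.2 h
    simpa [f, this] using ⟨a, mem_orbit_self a⟩

theorem sum_char {U : Type*} [Group U] [Fintype (U →* ℂˣ)] (u : U) [Decidable (u ∈ ⨅ l : U →* ℂˣ, l.ker)] :
    ∑ l : U →* ℂˣ, (l u⁻¹ : ℂ) = if u ∈ ⨅ l : U →* ℂˣ, l.ker then (Fintype.card (U →* ℂˣ) : ℂ) else 0 := by
  split_ifs with h
  · simp [show ∀ l : U →* ℂˣ, l u = 1 by simpa using h]
  · refine sum_hom_units_eq_zero ((Units.coeHom ℂ).comp (MonoidHom.eval u⁻¹)) fun e => h ?_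
    simpa using fun l => DFunLike.congr_fun e l

theorem sum_trace_eps [Finite Ω] {U : Subgroup G} [Fintype U] [Fintype (U →* ℂˣ)] {M : Type*} [AddCommGroup M]
    [Module ℂ M] {ρ : Representation ℂ G M} {e : End ℂ M} (he : ∀ g, trace ℂ _ (ρ g * e) = fx Ω g - 1) :
    ∑ l : U →* ℂˣ, trace ℂ _ (eps ρ l * e) = Nat.card (orbitRel.Quotient ↥(⨅ l : U →* ℂˣ, l.ker) Ω) - 1 := by
  classical
  set D := ⨅ l : U →* ℂˣ, l.ker
  have := Fintype.ofFinite Ω
  have k : ∀ F : U → ℂ, ∑ l : U →* ℂˣ, ∑ u : U, (l u⁻¹ : ℂ) * F u = Fintype.card (U →* ℂˣ) * ∑ u : D, F u := fun F => by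
    rw [Finset.sum_comm]
    simp only [← Finset.sum_mul, sum_char, ite_mul, zero_mul]
    rw [← Finset.sum_filter, ← Finset.mul_sum, Finset.sum_subtype (p := (· ∈ D)) _ (by simp [D])]
  have k1 : (Fintype.card U : ℂ) = Fintype.card (U →* ℂˣ) * Fintype.card D := by
    have := k 1
    rw [Finset.sum_eq_single 1 (fun l _ hl => ?_) (by simp)] at this
    · simpa using this
    · simp only [Pi.one_apply, mul_one]
      rw [← Equiv.sum_comp (Equiv.inv U)]
      simpa using sum_hom_units_eq_zero ((Units.coeHom ℂ).comp l) fun e => hl (MonoidHom.ext fun u => by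
        simpa using DFunLike.congr_fun e u)
  have k2 := congrArg ((↑) : ℕ → ℂ) (sum_card_fixedBy_eq_card_orbits_mul_card_group D Ω)
  simp only [eps, smul_mul_assoc, Finset.sum_mul, map_smul, map_sum, he, smul_eq_mul]
  rw [← Finset.mul_sum, k, k1, Finset.sum_sub_distrib, Nat.card_eq_fintype_card]
  simp only [← Nat.card_eq_fintype_card (α := fixedBy Ω _)] at k2
  push_cast at k2
  rw [show ∑ u : D, (fx Ω ((u : U) : G) : ℂ) = _ from k2]
  simp only [Finset.sum_const, Finset.card_univ, nsmul_eq_mul, mul_one]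
  field_simp

variable {P : BNPair G} {p : ℕ} [Fact p.Prime] {U : Subgroup G} {X : P.S → Subgroup G} {R : Set P.S → Subgroup G}

theorem dvd_card_orbits [Finite G] (hU : IsPGroup p U) (h1 : ¬ p ∣ U.index) (H : TwoTr G Ω) (hp : p ∣ Nat.card Ω) :
    p ∣ Nat.card (orbitRel.Quotient ↥(⨅ l : U →* ℂˣ, l.ker) Ω) := by
  have := H.finite
  let := quotAct (Ω := Ω) (P := ⊤) (R := ⨅ l : U →* ℂˣ, l.ker) fun g _ r hr => by simpa using hr
  have k := (hU.to_subgroup ⊤).card_modEq_card_fixedPoints (orbitRel.Quotient ↥(⨅ l : U →* ℂˣ, l.ker) Ω)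
  rw [(Nat.card_eq_zero (α := fixedPoints _ _)).2 (.inl ⟨?_⟩), Nat.modEq_zero_iff_dvd] at k
  · exact k
  rintro ⟨⟨a⟩, ha⟩
  refine h1 ((H.index_stab a ▸ hp).trans (Subgroup.index_dvd_of_le
    ((le_of_chars hU (A := U ⊓ stabilizer G a) inf_le_left fun l hl => MonoidHom.ext fun u => ?_).trans inf_le_right)))
  obtain ⟨d, hd⟩ := Quotient.exact (ha ⟨u, trivial⟩)
  have := hl (d.1⁻¹ * u) ⟨(d.1⁻¹ * u).2, mem_stabilizer_iff.2 <| by
    rw [Subgroup.coe_mul, mul_smul, Subgroup.coe_inv, inv_smul_eq_iff]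
    exact hd.symm⟩
  simpa [show l d = 1 from Subgroup.mem_iInf.1 d.2 l] using this

open Classical in
theorem Split.card_supp [Finite G] [Fintype P.S] [Fintype (U →* ℂˣ)] (S : Split P p U X R) (J : Finset P.S) :
    ((Finset.univ.filter fun l : U →* ℂˣ => (supp X l).toFinset = J).card : ZMod p) = (-1) ^ J.card := by
  induction J using Finset.strongInduction with
  | H J ih =>
    have k1 := congrArg ((↑) : ℤ → ZMod p) (Finset.sum_powerset_neg_one_pow_card (x := J))
    have k2 := congrArg ((↑) : ℕ → ZMod p) (Finset.card_eq_sum_card_fiberwise (f := fun l : U →* ℂˣ => (supp X l).toFinset)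
      (s := Finset.univ.filter fun l : U →* ℂˣ => (supp X l).toFinset ⊆ J) (t := J.powerset) (by simp [Set.MapsTo]))
    push_cast at k1 k2
    rw [Finset.sum_congr rfl (g := fun I => ((Finset.univ.filter fun l : U →* ℂˣ => (supp X l).toFinset = I).card : ZMod p))
      fun I hI => by
        congr 2
        ext l
        simp only [Finset.mem_filter, Finset.mem_univ, true_and, and_iff_right_iff_imp]
        exact fun e => e ▸ Finset.mem_powerset.1 hI] at k2
    rw [← Finset.add_sum_erase _ _ (Finset.mem_powerset_self J)] at k1 k2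
    rw [Finset.sum_congr rfl fun I hI => ih I (by simpa [Finset.ssubset_iff_subset_ne, and_comm] using hI)] at k2
    let Λ : Subgroup (U →* ℂˣ) := ⨅ s ∉ J, ⨅ u : U, ⨅ _ : (u : G) ∈ X s, (MonoidHom.eval u).ker
    have hΛ : ∀ l, l ∈ Λ ↔ ∀ s ∉ J, ∀ u : U, (u : G) ∈ X s → l u = 1 := fun l => by simp [Λ]
    have k3 : (Finset.univ.filter fun l : U →* ℂˣ => (supp X l).toFinset ⊆ J).card = Nat.card Λ := by
      rw [Nat.card_eq_fintype_card, Fintype.card_subtype]
      congr 1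
      ext l
      simp only [Finset.mem_filter, Finset.mem_univ, true_and, hΛ, Finset.subset_iff, Set.mem_toFinset]
      exact ⟨fun h s hs u hu => by_contra fun h1 => hs (h ⟨u, hu, h1⟩),
        fun h s ⟨u, hu, h1⟩ => by_contra fun hs => h1 (h s hs u hu)⟩
    rw [k3] at k2
    refine add_right_cancel (k2.symm.trans (Eq.trans ?_ k1.symm))
    split_ifs with hJ
    · rw [show Λ = ⊥ from eq_bot_iff.2 fun l hl => MonoidHom.ext fun u => ?_, Subgroup.card_bot, Nat.cast_one]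
      have : ⨆ s, X s ≤ l.ker.map U.subtype := iSup_le fun s x hx =>
        ⟨⟨x, S.X_le s hx⟩, (hΛ l).1 hl s (by simp [hJ]) _ hx, rfl⟩
      obtain ⟨v, hv, e⟩ := this (S.gen u.2)
      exact Subtype.ext e ▸ hv
    · obtain ⟨s, hs⟩ := Finset.nonempty_iff_ne_empty.2 hJ
      obtain ⟨n, hn⟩ := S.pU.exists_card_eq
      have hΛp : IsPGroup p (U →* ℂˣ) := fun l => ⟨n, MonoidHom.ext fun u => by
        rw [MonoidHom.pow_apply, ← map_pow, ← hn, pow_card_eq_one', map_one, MonoidHom.one_apply]⟩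
      refine (ZMod.natCast_eq_zero_iff _ _).2 ((hΛp.to_subgroup Λ).card_eq_or_dvd.resolve_left fun h => S.X_ne s ?_)
      have := le_of_chars S.pU (S.R_le {s}) fun l hl => (Subgroup.card_eq_one.1 h).le ((hΛ l).2 fun t ht u hu =>
        hl u (S.X_le_R _ t (fun e : t = s => ht (e ▸ hs)) hu))
      exact eq_bot_iff.2 (S.disj {s} ((S.X_le s).trans this) (le_iSup₂_of_le (f := fun t _ => X t) s rfl le_rfl))

theorem Split.trOn {G : Type*} [Group G] [Finite G] {Ω : Type*} [MulAction G Ω] {P : BNPair G} {p : ℕ} [Fact p.Prime]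
    {U : Subgroup G} {X : P.S → Subgroup G} {R : Set P.S → Subgroup G} (S : Split P p U X R) (H : TwoTr G Ω)
    (hp : p ∣ Nat.card Ω) : TrOn P.B Ω := by
  classical
  by_contra hB
  have := H.finite
  have := Fintype.ofFinite P.S
  have := Fintype.ofFinite U
  have := Fintype.ofFinite (U →* ℂˣ)
  obtain ⟨e, h1, h2, h3, h4⟩ := H.exists_idem hB
  obtain ⟨a, k1, k2⟩ := S.exists_coef h1 h3
  have k3 : ∀ J, ∃ m : ℕ, a J = m := fun J => by
    obtain ⟨l, hl⟩ : (Finset.univ.filter fun l : U →* ℂˣ => (supp X l).toFinset = J).Nonempty := by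
      rw [← Finset.card_ne_zero]
      intro h
      simpa [h] using (S.card_supp J).symm
    rw [← (Finset.mem_filter.1 hl).2, ← k2]
    exact exists_trace_eq_nat (by
      rw [mul_assoc, ← mul_assoc e, (commute_eps h1).eq, mul_assoc, h2, ← mul_assoc, eps_eps])
  choose m hm using k3
  have k4 := sum_trace_eps (U := U) h4
  simp only [k2, hm] at k1 k4
  rw [← Finset.sum_fiberwise_of_maps_to (g := fun l => (supp X l).toFinset) (t := Finset.univ) (by simp),
    Finset.sum_congr rfl fun J _ => (Finset.sum_congr rfl fun l hl => by rw [(Finset.mem_filter.1 hl).2]).trans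
      (Finset.sum_const (m J : ℂ)), eq_sub_iff_add_eq] at k4
  simp only [nsmul_eq_mul] at k4
  have k5 := congrArg ((↑) : ℤ → ZMod p) (show ∑ J : Finset P.S, (-1 : ℤ) ^ J.card * m J = 0 by exact_mod_cast k1)
  have k6 := congrArg ((↑) : ℕ → ZMod p) (Nat.cast_injective (R := ℂ) (by push_cast; exact k4) :
    ∑ J, (Finset.univ.filter fun l : U →* ℂˣ => (supp X l).toFinset = J).card * m J + 1 = _)
  push_cast at k5 k6
  simp only [S.card_supp] at k6
  rw [k5, (ZMod.natCast_eq_zero_iff _ _).2 (dvd_card_orbits S.pU S.index_U H hp), zero_add] at k6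
  exact one_ne_zero k6

end CfsgLib.CKS
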