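import Mathlib
import Cfsg.Agent.Lib.CKS.How
import Cfsg.Agent.Lib.LieAll.Main

/-! CKS, package HOW2: split BN-pairs of the twisted groups. -/

set_option linter.unusedSectionVars false

namespace CfsgLib.CKS
open Cfsg MulAction

open RGD Twist LieAll

variable {ι κ B : Type} [Fintype κ] [DecidableEq κ] {Φ : RootSys ι κ} [Finite ι] {F : Type*} [Field F] [Finite F]
  {G : Type*} [Group G] [Finite G] {S : StSys Φ F G} {T : Tw S B} {M : Subgroup G} {p : ℕ} [Fact p.Prime] [CharP F p]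

section Aux
omit [Finite F] [Finite G]

theorem how2_pos {J : Set κ} {v : Equiv.Perm ι} (hv : v ∈ Φ.W) (h : ∀ i ∈ J, Φ.Pos (v (Φ.simple i))) {r : ι}
    (hr : r ∈ posJ Φ J) : Φ.Pos (v r) :=
  (Φ.pos_or_neg _).resolve_right fun h' => not_inSub_of_mem_Inv Φ hv h ⟨hr.1, h'⟩ hr.2

theorem how2_mem {K : Subgroup G} {x : M} (h : (x : G) ∈ K) : x ∈ (K ⊓ M).subgroupOf M := ⟨h, x.2⟩

variable (hM : IsTw T M)

/-- the block of a generator -/
noncomputable def how2_bl (s : hM.bn.S) : B := (show (s : M) ∈ Set.range hM.nM from s.2).choose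

theorem how2_nM (s : hM.bn.S) : hM.nM (how2_bl hM s) = s := (show (s : M) ∈ Set.range hM.nM from s.2).choose_spec

theorem how2_surj (b : B) : ∃ s, how2_bl hM s = b := by
  refine ⟨⟨hM.nM b, b, rfl⟩, T.sw_injective (hM.sharp.acts_unique (hM.acts_nb _) ?_)⟩
  have e : hM.nb (how2_bl hM ⟨hM.nM b, b, rfl⟩) = hM.nb b := congrArg Subtype.val (how2_nM hM ⟨hM.nM b, b, rfl⟩)
  rw [e]
  exact hM.acts_nb b

theorem how2_asc (s : hM.bn.S) {n : M} (hn : n ∈ hM.bn.N) {w : Equiv.Perm ι} (ha : S.Acts n w)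
    (h : ∀ i ∈ T.J (how2_bl hM s), Φ.Pos (w⁻¹ (Φ.simple i))) : (BN.exch hM.bn).P s (BN.cls hM.bn hn) := by
  have hS := hM.sharp
  have hw : w ∈ Φ.W := T.W1_le_W (hM.mem_W1 hn.1 n.2 ha)
  intro x hx y hy
  obtain ⟨b₁, h1, b₂, h2, rfl⟩ := (BN.mem_cell_cls _ _).1 hx
  obtain ⟨b₃, h3, b₄, h4, rfl⟩ := (BN.mem_cell_cls _ _).1 hy
  obtain ⟨u, hu, t, ht, e⟩ := hM.mem_B (mul_mem h2 h3).1 (b₂ * b₃).2
  obtain ⟨a, ha', c, hc, rfl⟩ := T.exists_rad_mul_fix hS (how2_bl hM s) hu.1 hu.2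
  have aU : a ∈ S.U := UU_mono S (fun _ h => h.1) ha'.1
  have aM := hM.mem_of_mem_U aU ha'.2
  have cM := hM.mem_of_mem_U (UU_posJ_le_U S _ hc.1) hc.2
  have es : ((s : M) : G) = hM.nb (how2_bl hM s) := (congrArg Subtype.val (how2_nM hM s)).symm
  have e' : b₂ * b₃ = ⟨a, aM⟩ * ⟨c, cM⟩ * ⟨t, ht.2⟩ := Subtype.ext e
  rw [BN.sW, ← BN.cls_mul, BN.mem_cell_cls]
  refine ⟨b₁ * (s * ⟨a, aM⟩ * (s : M)⁻¹), mul_mem h1 (how2_mem ?_),
    n⁻¹ * ⟨c, cM⟩ * n * (n⁻¹ * ⟨t, ht.2⟩ * n⁻¹⁻¹) * b₄,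
    mul_mem (mul_mem (how2_mem ?_) (how2_mem ?_)) h4, ?_⟩
  · refine U_le_B S (UU_mono S (fun _ h => h.1) (hS.levi_norm (T.J (how2_bl hM s)) _ ?_ _ ha'.1))
    rw [es]
    exact hS.mem_LJ_of_acts (hM.nb_mem_N _) (T.sw_mem_WJ _) (hM.acts_nb _)
  · exact U_le_B S (conj_mem_UU' hw ha (fun r hr => how2_pos (inv_mem hw) h hr) hc.1)
  · exact H_le_B S (hS.conj_mem_H (inv_mem hn.1) ht.1)
  · calc b₁ * s * b₂ * (b₃ * n * b₄) = b₁ * s * (b₂ * b₃) * n * b₄ := by group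
      _ = _ := by rw [e']; group

theorem how2_asc_iff (s : hM.bn.S) {n : M} (hn : n ∈ hM.bn.N) {w : Equiv.Perm ι} (ha : S.Acts n w) {i : κ}
    (hi : i ∈ T.J (how2_bl hM s)) : (BN.exch hM.bn).P s (BN.cls hM.bn hn) ↔ Φ.Pos (w⁻¹ (Φ.simple i)) := by
  have hw := hM.mem_W1 hn.1 n.2 ha
  refine ⟨fun h => (Φ.pos_or_neg _).resolve_right fun h' => ?_, fun h => how2_asc hM s hn ha fun j hj =>
    T.pos_of_orb (inv_mem hw) (hi.trans hj.symm) h⟩
  have es : ((s : M) : G) = hM.nb (how2_bl hM s) := (congrArg Subtype.val (how2_nM hM s)).symm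
  refine (BN.exch hM.bn).P_not s _ h ?_
  rw [BN.exch_s, BN.sW, ← BN.cls_mul]
  refine how2_asc hM s _ (w := T.sw (how2_bl hM s) * w) ?_ fun j hj => ?_
  · rw [Subgroup.coe_mul, es]
    exact acts_mul' (T.W1_le_W hw) (hM.acts_nb _) ha
  · rw [mul_inv_rev, T.sw_inv, Equiv.Perm.mul_apply, ← Φ.neg_neg (T.sw _ _), Φ.apply_neg (inv_mem (T.W1_le_W hw)),
      Φ.pos_neg_iff]
    refine Φ.neg_apply_of_neg_simple (J := T.J (how2_bl hM s)) (inv_mem (T.W1_le_W hw))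
      (fun k hk => T.neg_of_orb (inv_mem hw) (hi.trans hk.symm) h') (Φ.pos_neg_iff.2 (T.neg_sw_simple hj)) ?_
    exact Φ.inSub_neg_iff.2 ((Φ.inSub_apply_iff (T.sw_mem_WJ _)).2 (Φ.inSub_simple_iff.2 hj))

/-- the nodes of a set of generators -/
def how2_J (J : Set hM.bn.S) : Set κ := {i | ∃ s ∈ J, T.orb i = how2_bl hM s}

theorem how2_stable (J : Set hM.bn.S) : Stable T.toSym (how2_J hM J) := fun _ _ e ⟨s, hs, e'⟩ => ⟨s, hs, e ▸ e'⟩

end Aux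

theorem how2_split (hM : IsTw T M) (hg : Gen T M) : Split hM.bn p ((S.U ⊓ M).subgroupOf M)
    (fun s => (Ub T M (how2_bl hM s)).subgroupOf M) (fun J => (S.UJ (how2_J hM J) ⊓ M).subgroupOf M) where
  pU := (hM.sylow p).isPGroup'
  index_U := hM.not_dvd_relIndex p
  U_le _ hu := ⟨U_le_B S hu.1, hu.2⟩
  split b hb := by
    obtain ⟨u, hu, t, ht, e⟩ := hM.mem_B hb.1 b.2
    exact ⟨⟨u, hM.U_le hu⟩, ⟨hu.1, hM.U_le hu⟩, ⟨t, ht.2⟩, ⟨⟨H_le_B S ht.1, ht.2⟩, H_le_N S ht.1, ht.2⟩, Subtype.ext e⟩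
  X_le s _ hx := ⟨Ub_le_U T M _ hx, hx.2⟩
  X_ne s e := by
    obtain ⟨u, h1, h2, h3⟩ := hM.exists_pos (how2_bl hM s)
    have h4 : (⟨u, h1⟩ : M) ∈ (Ub T M (how2_bl hM s)).subgroupOf M := ⟨h2, h1⟩
    rw [e, Subgroup.mem_bot, Subtype.ext_iff] at h4
    exact h3 h4
  gen u hu := by
    rw [← Subgroup.mem_map_iff_mem M.subtype_injective, Subgroup.map_iSup]
    refine (iSup_le fun b => ?_ : ⨆ b, Ub T M b ≤ _) (hg hu)
    obtain ⟨s, rfl⟩ := how2_surj hM b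
    exact le_iSup_of_le s (Subgroup.map_subgroupOf_eq_of_le inf_le_right).ge
  asc s n hn h x hx := by
    obtain ⟨w, hw, ha⟩ := hM.sharp.acts_N hn.1
    exact how2_mem (U_le_B S (conj_mem_UU' hw ha (fun r hr => how2_pos (inv_mem hw)
      (fun i hi => (how2_asc_iff hM s hn ha hi).1 h) hr) hx.1))
  R_le J _ hr := ⟨UU_mono S (fun _ h => h.1) hr.1, hr.2⟩
  R_norm J g hg r hr := by
    have h1 : BN.par hM.bn J ≤ (S.P (how2_J hM J)).subgroupOf M := by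
      refine sup_le (fun b hb => (le_sup_left : S.B ≤ S.P _) hb.1) ((Subgroup.closure_le _).2 ?_)
      rintro _ ⟨s, hs, rfl⟩
      rw [← how2_nM hM s]
      exact nb_mem_P hM fun i hi => ⟨s, hs, hi⟩
    exact ((P_le_normalizer S _ M ⟨h1 hg, g.2⟩) r).1 hr
  X_le_R J s hs x hx := by
    obtain ⟨i, hi⟩ := T.exists_mem_J (how2_bl hM s)
    refine ⟨UU_mono S ?_ hx.1, hx.2⟩
    rw [← show T.orb i = how2_bl hM s from hi]
    refine (how2_stable hM J).posJ_subset fun ⟨s', hs', e⟩ => hs ?_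
    rwa [show s = s' from Subtype.ext (by rw [← how2_nM hM s, ← how2_nM hM s', ← e, hi])]
  disj J := by
    have h1 : ⨆ s ∈ J, (Ub T M (how2_bl hM s)).subgroupOf M ≤ (S.LJ (how2_J hM J)).subgroupOf M :=
      iSup₂_le fun s hs x hx => UU_posJ_le_LJ S _
        (UU_mono S (fun r hr => And.intro hr.1 fun i hi => hr.2 i fun h => hi ⟨s, hs, h⟩) hx.1)
    rw [Subgroup.disjoint_def]
    exact fun {x} hx hx' => Subtype.ext (Subgroup.mem_bot.1 (hM.sharp.levi_inf _ ▸ (⟨hx.1, h1 hx'⟩ :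
      (x : G) ∈ S.UJ (how2_J hM J) ⊓ S.LJ (how2_J hM J))))
  opp J n hn h u hu hB := by
    have hS := hM.sharp
    obtain ⟨w, hw, ha⟩ := hS.acts_N hn.1
    have h1 : ∀ i ∈ how2_J hM J, Φ.Neg (w⁻¹ (Φ.simple i)) := fun i ⟨s, hs, e⟩ =>
      (Φ.pos_or_neg _).resolve_left fun h' => h s hs ((how2_asc_iff hM s hn ha e).2 h')
    have e : {r | Φ.Pos r ∧ Φ.Pos (w⁻¹ r)} ∪ Φ.Inv w⁻¹ = {r | Φ.Pos r} := Set.ext fun r =>
      ⟨fun h => h.elim (·.1) (·.1), fun h => (Φ.pos_or_neg (w⁻¹ r)).imp (⟨h, ·⟩) (⟨h, ·⟩)⟩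
    obtain ⟨a, h2, c, h3, e'⟩ := hS.exists_mul_of_union (Ψ₁ := {r | Φ.Pos r ∧ Φ.Pos (w⁻¹ r)}) (Ψ₂ := Φ.Inv w⁻¹)
      (g := u) (by rw [e]; exact fun _ h => h) (e ▸ Φ.closed_pos)
      (Set.disjoint_left.2 fun r h h' => Φ.not_neg_of_pos h.2 h'.2) (e ▸ hu.1)
    have h4 : (n : G)⁻¹ * c * n = 1 := by
      refine hS.eq_one_of_mem_B_V ?_ (conj_mem_UU' hw ha (fun r hr => hr.2) h3)
      have := mul_mem (inv_mem (U_le_B S (conj_mem_UU' hw ha (fun r hr => hr.2) h2))) hB.1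
      simpa [e', mul_assoc] using this
    rw [mul_assoc, inv_mul_eq_one, eq_comm, mul_eq_right] at h4
    refine ⟨?_, u.2⟩
    rw [Subgroup.coe_subtype, e', h4, mul_one]
    exact UU_mono S (fun r hr => And.intro hr.1 fun h' => Φ.not_neg_of_pos hr.2
      (Φ.neg_apply_of_neg_simple (inv_mem hw) h1 hr.1 h')) h2

theorem btr_of_gen (hM : IsTw T M) (hg : Gen T M) {Ω : Type*} [MulAction M Ω] (H : TwoTr M Ω)
    (hp : p ∣ Nat.card Ω) : BTr p M Ω := by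
  refine btr_of_sylow (hM.sylow p) (((how2_split hM hg).trOn H hp).mono fun b hb x => ?_)
  exact (hM.mem_sylow p).trans ((S.B_le_normalizer_U hb.1 x).trans (hM.mem_sylow p (g := b * x * b⁻¹)).symm)

theorem btr_of_gen_equiv (hM : IsTw T M) (hg : Gen T M) {X : Type*} [Group X] (e : X ≃* M) {Ω : Type*}
    [MulAction X Ω] (H : TwoTr X Ω) (hp : p ∣ Nat.card Ω) : BTr p X Ω := by
  let : MulAction M Ω := MulAction.compHom Ω e.symm.toMonoidHom
  have : Finite X := Finite.of_equiv _ e.symm.toEquiv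
  exact (btr_of_gen hM hg (H.of_equiv e.symm fun _ _ => rfl) hp).lift e.toMonoidHom e.surjective fun g a =>
    show g • a = e.symm (e g) • a by rw [e.symm_apply_apply]

/-- the Borel subgroup of the model is transitive -/
theorem BTr.trOn_B (hM : IsTw T M) {Ω : Type*} [MulAction M Ω] (hB : BTr p M Ω) :
    TrOn ((S.B ⊓ M).subgroupOf M) Ω := by
  refine (hB (hM.sylow p)).mono fun g hg => ⟨?_, g.2⟩
  obtain ⟨u, hu, n, hn, w, hw, ha, u', hu', e⟩ := hM.bruhat g.2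
  have u1 : u' ∈ S.U := UU_Inv_le_U S w hu'.1
  by_cases h : w = 1
  · subst h
    rw [Subgroup.coe_subtype, e]
    exact mul_mem (mul_mem (U_le_B S hu.1) (H_le_B S (hM.sharp.mem_H _ hn.1 ha))) (U_le_B S u1)
  obtain ⟨y, h1, h2, h3⟩ := hM.exists_Inv hw h
  have u2 := hM.mem_of_mem_U u1 hu'.2
  have h4 := (hM.mem_sylow p).1 ((hg ⟨u'⁻¹ * y * u', mul_mem (mul_mem (inv_mem u2) h1) u2⟩).1
    ((hM.mem_sylow p).2 (mul_mem (mul_mem (inv_mem u1) (UU_Inv_le_U S w h2)) u1)))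
  have h5 : n * y * n⁻¹ ∈ S.U := by
    have u0 : u ∈ S.U := hu.1
    have := mul_mem (mul_mem (inv_mem u0) h4) u0
    simpa [e, mul_assoc] using this
  have h6 := hM.sharp.eq_one_of_mem_B_V (U_le_B S h5) (conj_mem_UU ha (fun r hr => hr.2) h2)
  rw [mul_inv_eq_one, mul_eq_left] at h6
  exact absurd h6 h3

omit [Finite G] in
/-- generation follows from a statement on linear characters -/
theorem gen_of_chars (hM : IsTw T M) (p : ℕ) [Fact p.Prime] [CharP F p]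
    (h : ∀ l : ↥(S.U ⊓ M) →* ℂˣ, (∀ b, ∀ u : ↥(S.U ⊓ M), (u : G) ∈ Ub T M b → l u = 1) → l = 1) : Gen T M := by
  have : Finite S.U := hM.nondeg.finite_UU Φ.closed_pos fun _ h => h
  have : Finite ↥(S.U ⊓ M) := Finite.of_injective _ (Subgroup.inclusion_injective inf_le_left)
  exact le_of_chars ((St.isPGroup_U hM.nondeg p).to_le inf_le_left)
    (iSup_le fun b => inf_le_inf_right _ (UU_posJ_le_U S _))
    fun l hl => h l fun b u hu => hl u (Subgroup.mem_iSup_of_mem b hu)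

omit [Finite G] [Finite F] in
theorem gen_of_subsingleton [Subsingleton B] : Gen T M := fun u hu => by
  rcases isEmpty_or_nonempty κ with h | ⟨⟨i⟩⟩
  · have : u ∈ S.UU ∅ := UU_mono S (fun r _ => by
      obtain ⟨_, _, i, _⟩ := Φ.exists_eq_apply_simple r
      exact h.elim i) hu.1
    rw [UU_empty, Subgroup.mem_bot] at this
    exact this ▸ one_mem _
  · exact Subgroup.mem_iSup_of_mem (T.orb i) ⟨UU_mono S (fun r hr => And.intro hr fun j hj =>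
      absurd (Subsingleton.elim _ _ : T.orb j = T.orb i) hj) hu.1, hu.2⟩

end CfsgLib.CKS
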