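import Mathlib
import Cfsg.Agent.Lib.CKS.How2
import Cfsg.Agent.Lib.Stein.Laced
import Cfsg.Agent.Lib.KInv.Root

/-! CKS, package GENL: generation for simply laced systems with a twisting of order at most two. -/

set_option linter.unusedSectionVars false

namespace CfsgLib.CKS
open Cfsg MulAction

open RGD Twist LieAll Stein

variable {ι κ B : Type} [Fintype κ] [DecidableEq κ] {Φ : RootSys ι κ} [Finite ι] {F : Type*} [Field F]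
  {G : Type*} [Group G] {S : StSys Φ F G} {T : Tw S B} {M : Subgroup G}

/-- sets of positive roots containing all higher roots -/
structure Up (Φ : RootSys ι κ) (Ψ : Set ι) : Prop where
  pos : ∀ r ∈ Ψ, Φ.Pos r
  up : ∀ r ∈ Ψ, ∀ k, Φ.ht r < Φ.ht k → k ∈ Ψ

theorem Up.ideal {Ψ : Set ι} (h : Up Φ Ψ) {s : ι} (hs : Φ.Pos s) {a : ι} (ha : a ∈ Ψ) :
    a ≠ Φ.neg s ∧ ∀ k, Φ.IsSum s a k → k ∈ Ψ :=
  ⟨Φ.ne_neg_of_pos hs (h.pos a ha), fun k hk => h.up a ha k (by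
    have := hk.ht_le hs (h.pos a ha)
    have := Φ.ht_pos hs
    omega)⟩

theorem Up.closed {Ψ : Set ι} (h : Up Φ Ψ) : Φ.Closed Ψ := fun r hr _ hs => (h.ideal (h.pos r hr) hs).2

theorem Up.le_U {Ψ : Set ι} (h : Up Φ Ψ) : S.UU Ψ ≤ S.U := UU_mono S h.pos

theorem Up.conj {Ψ : Set ι} (h : Up Φ Ψ) {g y : G} (hg : g ∈ S.U) (hy : y ∈ S.UU Ψ) : g⁻¹ * y * g ∈ S.UU Ψ :=
  S.inv_conj_mem_UU (fun _ hs _ ha => h.ideal hs ha) hg hy

theorem Up.diff {Ψ : Set ι} (h : Up Φ Ψ) {r : ι} (hr : ∀ s ∈ Ψ, Φ.ht r ≤ Φ.ht s) : Up Φ (Ψ \ {r}) :=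
  ⟨fun s hs => h.pos s hs.1, fun s hs k hk => ⟨h.up s hs.1 k hk, fun e => by
    have := hr s hs.1
    rw [show k = r from e] at hk
    omega⟩⟩

theorem Up.cm_mem {Θ Ψ₁ Ψ₂ : Set ι} (h : Up Φ Θ) (h1 : ∀ r ∈ Ψ₁, Φ.Pos r) (h2 : ∀ r ∈ Ψ₂, Φ.Pos r)
    (hs : ∀ r ∈ Ψ₁, ∀ s ∈ Ψ₂, ∀ k, Φ.IsSum r s k → k ∈ Θ) {a b : G} (ha : a ∈ S.UU Ψ₁) (hb : b ∈ S.UU Ψ₂) :
    cm a b ∈ S.UU Θ := by
  refine S.UU_induction (p := fun b => cm a b ∈ S.UU Θ) (by rw [cm_one_right]; exact one_mem _) ?_ hb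
  intro s hs' t g _ ih
  rw [cm_mul_right]
  exact mul_mem (S.comm_mem_UU_of_mem (fun r hr => ⟨Φ.ne_neg_of_pos (h2 s hs') (h1 r hr),
    fun k hk => hs r hr s hs' k hk.symm⟩) (fun r hr _ ha => h.ideal (h1 r hr) ha) ha t)
    (h.conj (x_mem_UU S (h2 s hs') t) ih)

theorem genl_cm {E : Type*} [Group E] (a a' b b' : E) : cm (a * a') (b * b') = cm a b *
    ((a' * cm a b)⁻¹ * cm a b' * (a' * cm a b) * cm (cm a b) (b' * a') * cm a' (b * b')) := by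
  unfold cm; group

theorem genl_pos {r : ι} (h : 0 ≤ Φ.ht r) : Φ.Pos r := (Φ.pos_or_neg r).resolve_right fun h' => by
  have := Φ.ht_pos (Φ.pos_neg_iff.2 h')
  rw [Φ.ht_neg] at this
  omega

theorem genl_ht {a b r : ι} (h : RAdd Φ a b r) : Φ.ht r = Φ.ht a + Φ.ht b := by
  simp only [RootSys.ht, h _, Finset.sum_add_distrib]

/-- generation follows from a statement on subgroups containing the commutators -/
theorem gen_of_cm [Finite F] (hM : IsTw T M) (h : ∀ K : Subgroup G, (∀ b, Ub T M b ≤ K) →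
    (∀ a ∈ S.U ⊓ M, ∀ b ∈ S.U ⊓ M, cm a b ∈ K) → S.U ⊓ M ≤ K) : Gen T M := by
  obtain ⟨p, _⟩ := CharP.exists F
  have := Fact.mk (CharP.char_is_prime F p)
  refine gen_of_chars hM p fun l hl => MonoidHom.ext fun u => ?_
  obtain ⟨v, hv, e⟩ := h (l.ker.map (S.U ⊓ M).subtype)
    (fun b x hx => ⟨⟨x, Ub_le_U T M b hx, hx.2⟩, hl b _ hx, rfl⟩)
    (fun a ha b hb => ⟨cm ⟨a, ha⟩ ⟨b, hb⟩, by simp [cm], rfl⟩) u.2
  rwa [← Subtype.ext e]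

/-- the hypotheses of `gen_laced` -/
structure LD (T : Tw S B) (M : Subgroup G) (N : ℤ) (φ : F →+* F) : Prop where
  tw : IsTw T M
  laced : Laced Φ N
  hA : ∀ i j, Φ.A (T.π i) (T.π j) = Φ.A i j
  hρ : ∀ r, T.ρ (T.ρ r) = r
  hf : ∀ i, T.f i = φ
  hφ : ∀ t, φ (φ t) = t
  h1 : (∀ r, T.ρ r = r) ∨ ∃ e, φ e ≠ e

variable (T) in
/-- the roots above `r` -/
def Abv (r : ι) : Set ι := {k | k = T.ρ r ∧ k ≠ r ∨ Φ.ht r < Φ.ht k}

namespace LD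

variable {N : ℤ} {φ : F →+* F} (h : LD T M N φ)
include h

theorem lin : KInv.Lin Φ T.ρ ∧ ∀ r j, Φ.rt (T.ρ r) (T.π j) = Φ.rt r j :=
  KInv.lin_of_A T.toSym h.hA fun i => by
    have h1 := h.laced.norm (Φ.simple i)
    have h2 := h.laced.norm (Φ.simple (T.π i))
    rw [ip_simple_self] at h1 h2
    omega

theorem ht_ρ (r : ι) : Φ.ht (T.ρ r) = Φ.ht r := by
  rw [RootSys.ht, ← Equiv.sum_comp T.π]
  exact Finset.sum_congr rfl fun j _ => h.lin.2 r j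

theorem ip_ρ (r s : ι) : ip Φ (T.ρ r) s = ip Φ r (T.ρ s) := by rw [← h.lin.1.iso, h.hρ]

theorem ip_le {r s : ι} (hr : Φ.Pos r) (hs : Φ.Pos s) (e : s ≠ r) : 2 * ip Φ r s ≤ N ∧ -N ≤ 2 * ip Φ r s := by
  have := h.laced.pos r
  have := h.laced.tri r s e (Φ.ne_neg_of_pos hr hs)
  omega

theorem ip_nonpos {r : ι} (hr : Φ.Pos r) (e : T.ρ r ≠ r) : ip Φ r (T.ρ r) ≤ 0 := by
  have := h.laced.pos r
  rcases h.laced.tri r _ e (Φ.ne_neg_of_pos hr (T.pos_ρ hr)) with h1 | h1 | h1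
  · omega
  · obtain ⟨b, hb⟩ := exists_radd (a := r) (r := T.ρ r) (by rw [h.laced.norm, h1])
    have h2 := genl_ht hb
    have := Φ.ht_pos (genl_pos (r := b) (by rw [h.ht_ρ] at h2; omega))
    rw [h.ht_ρ] at h2
    omega
  · omega

theorem radd {r s k : ι} (hr : Φ.Pos r) (hs : Φ.Pos s) (e : Φ.IsSum r s k) : RAdd Φ r s k := by
  have := h.laced.pos r
  have h1 : ¬ 0 ≤ ip Φ r s := fun h' => not_isSum_of_ip (M := N + 1) (fun k => by rw [h.laced.norm]; omega) h'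
    (by rw [h.laced.norm, h.laced.norm]; omega) k e
  have h2 : s ≠ r := fun e' => h1 (by rw [e', h.laced.norm]; omega)
  refine radd_of_isSum (fun k => by rw [h.laced.norm]; omega) (h.laced.norm r) (h.laced.norm s) ?_ e
  have := h.laced.tri r s h2 (Φ.ne_neg_of_pos hr hs)
  omega

theorem no_cross {r s γ δ : ι} (hr : Φ.Pos r) (hs : Φ.Pos s) (e1 : T.ρ r ≠ r) (e2 : T.ρ s ≠ s) (h1 : RAdd Φ r s γ)
    (h2 : RAdd Φ r (T.ρ s) δ) : False := by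
  have hγ := h1.isSum.pos hr hs
  have h3 := h.lin.1.radd h1
  have a1 := h1.ip_left (T.ρ γ)
  rw [h3.ip_right r, h3.ip_right s, ip_comm s (T.ρ r), h.ip_ρ r s] at a1
  have a2 := (h.laced.ip_radd h2).1
  have a3 := h.ip_nonpos hr e1
  have a4 := h.ip_nonpos hs e2
  have := h.laced.pos r
  by_cases e : T.ρ γ = γ
  · rw [e, h.laced.norm] at a1
    omega
  · have := (h.ip_le hγ (T.pos_ρ hγ) e).2
    omega

theorem up {r : ι} (hr : Φ.Pos r) : Up Φ (Abv T r) :=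
  have := Φ.ht_pos hr
  ⟨fun k hk => hk.elim (fun e => e.1 ▸ T.pos_ρ hr) fun e => genl_pos (by omega),
    fun k hk m hm => .inr (hk.elim (fun e => by rwa [e.1, h.ht_ρ] at hm) fun e => e.trans hm)⟩

theorem ht_le {r k : ι} (hk : k ∈ Abv T r) : Φ.ht r ≤ Φ.ht k := hk.elim (fun e => by rw [e.1, h.ht_ρ]) le_of_lt

theorem σ_σ {g : G} (hg : g ∈ S.grp) : T.σ (T.σ g) = g := by
  have hS := h.tw.sharp
  have h2 : ∀ i, Φ.simple (T.π (T.π i)) = Φ.simple i := fun i => by rw [← T.ρ_simple, ← T.ρ_simple, h.hρ]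
  refine S.UU_induction (p := fun g => T.σ (T.σ g) = g) (by rw [T.σ_one, T.σ_one]) ?_ (hS.grp_gen ▸ hg)
  rintro r hr t g hg ih
  rw [T.σ_mul _ (UU_le_grp S _ hg) _ (x_mem_grp S _ _), T.σ_mul _ (T.σ_mem_grp hS (UU_le_grp S _ hg)) _
    (T.σ_mem_grp hS (x_mem_grp S _ _)), ih]
  obtain ⟨i, rfl | rfl⟩ := hr
  · rw [T.σ_pos, T.σ_pos, h2, h.hf, h.hf, h.hφ]
  · rw [T.σ_neg, T.σ_neg, h2, h.hf, h.hf, h.hφ]

theorem exists_σ (r : ι) : ∃ c : F, c ≠ 0 ∧ ∀ t, T.σ (S.x r t) = S.x (T.ρ r) (c * φ t) := by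
  obtain ⟨a, b, i, ha, hb, e⟩ := T.exists_σ_x h.tw.sharp r
  exact ⟨a * φ b, mul_ne_zero ha ((map_ne_zero φ).2 hb), fun t => by rw [e, h.hf, map_mul, mul_assoc]⟩

theorem σ_cm {a b : G} (ha : a ∈ S.grp) (hb : b ∈ S.grp) : T.σ (cm a b) = cm (T.σ a) (T.σ b) := by
  rw [cm, T.σ_mul _ (mul_mem (mul_mem (inv_mem ha) (inv_mem hb)) ha) _ hb, T.σ_mul3 (inv_mem ha) (inv_mem hb) ha,
    T.σ_inv ha, T.σ_inv hb, cm]

theorem norm_fix {a : G} (ha : a ∈ S.grp) (e : Commute a (T.σ a)) : a * T.σ a ∈ T.Fix :=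
  have h1 := T.σ_mem_grp h.tw.sharp ha
  ⟨mul_mem ha h1, by rw [T.σ_mul _ ha _ h1, h.σ_σ ha, e.eq]⟩

theorem exists_θ {r : ι} (e : T.ρ r ≠ r) : ∃ θ, θ + φ θ = 1 :=
  exists_trace_eq h.hφ (h.h1.resolve_left fun h' => e (h' r)) (map_one φ)

theorem exists_fix {r : ι} (e : T.ρ r = r) : ∃ t, t ≠ 0 ∧ S.x r t ∈ T.Fix := by
  have hS := h.tw.sharp
  by_cases h1 : ∃ e, φ e ≠ e
  · obtain ⟨c, -, hc⟩ := h.exists_σ r
    rw [e] at hc
    by_contra! h2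
    have h3 : ∀ t, t + c * φ t = 0 := fun t => by
      by_contra h3
      refine h2 _ h3 ?_
      rw [S.x_add, ← hc]
      exact h.norm_fix (x_mem_grp S _ _) (by rw [hc]; exact S.x_comm _ _ _)
    obtain ⟨t, ht⟩ := h1
    have h4 := h3 1
    rw [map_one] at h4
    exact ht (by linear_combination -h3 t + φ t * h4)
  · refine ⟨1, one_ne_zero, (hS.grp_gen ▸ UU_le S ?_ : S.grp ≤ T.Fix) (x_mem_grp S _ _)⟩
    have h2 : ∀ i, T.π i = i := fun i => Φ.simple_injective (by rw [← T.ρ_simple, h.h1.resolve_right h1])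
    have h3 : ∀ i t, T.f i t = t := fun i t => by rw [h.hf]; exact not_not.1 fun e => h1 ⟨t, e⟩
    rintro _ ⟨i, rfl | rfl⟩ t
    exacts [T.x_pos_fix (h2 i) (h3 i t), T.x_neg_fix (h2 i) (h3 i t)]

theorem lead {Ψ : Set ι} (hc : Φ.Closed Ψ) {r : ι} (hr : r ∈ Ψ) (hr' : T.ρ r ∈ Ψ) (hp : Φ.Pos r) (e : T.ρ r ≠ r)
    (t : F) : ∃ y ∈ S.UU (Abv T r ∩ Ψ), S.x r t * y ∈ T.Fix := by
  have hS := h.tw.sharp
  obtain ⟨c, -, hc'⟩ := h.exists_σ r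
  have m1 : T.σ (S.x r t) ∈ S.UU (Abv T r ∩ Ψ) := hc' t ▸ x_mem_UU S (Set.mem_inter (.inl ⟨rfl, e⟩) hr') _
  by_cases h1 : 0 ≤ ip Φ r (T.ρ r)
  · exact ⟨_, m1, h.norm_fix (x_mem_grp S _ _) (hc' t ▸ h.laced.cm h1 _ _)⟩
  have := h.laced.pos r
  obtain ⟨k, hk⟩ := h.laced.exists_radd_of_neg (a := T.ρ r) (b := r) (by
    have := h.laced.tri r _ e (Φ.ne_neg_of_pos hp (T.pos_ρ hp))
    rw [ip_comm]
    omega)
  have hk' : T.ρ k = k := by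
    have := h.lin.1.radd hk
    rw [h.hρ] at this
    exact this.unique' hk.symm
  obtain ⟨v, hv⟩ : ∃ v, cm (T.σ (S.x r t)) (S.x r t) = S.x k v := hc' t ▸ exists_cm_eq
    (Φ.ne_neg_of_pos hp (T.pos_ρ hp)) (fun m hm => (h.radd hp (T.pos_ρ hp) hm).unique' hk.symm) _ _
  obtain ⟨d, -, hd⟩ := h.exists_σ k
  rw [hk'] at hd
  have g1 := x_mem_grp S r t
  have g2 := T.σ_mem_grp hS g1
  have h2 : d * φ v = -v := hS.x_inj k (by rw [← hd, ← hv, h.σ_cm g2 g1, h.σ_σ g1, x_neg, ← hv, ← cm_swap])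
  obtain ⟨θ, hθ⟩ := h.exists_θ e
  refine ⟨T.σ (S.x r t) * S.x k (θ * v),
    mul_mem m1 (x_mem_UU S (Set.mem_inter (.inr ?_) (hc _ hr' _ hr _ hk.isSum)) _),
    mul_mem g1 (mul_mem g2 (x_mem_grp S _ _)), ?_⟩
  · have e3 : S.x k (θ * v) = S.x k v * S.x k (d * φ (θ * v)) := by
      rw [← S.x_add, map_mul]
      congr 1
      linear_combination v * hθ - φ θ * h2
    rw [← mul_assoc, T.σ_mul3 g1 g2 (x_mem_grp S _ _), h.σ_σ g1, hd, e3, ← hv]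
    unfold cm
    group
  · have := genl_ht hk
    have := Φ.ht_pos (T.pos_ρ hp)
    omega

theorem lead0 {r : ι} (hp : Φ.Pos r) : ∃ t, t ≠ 0 ∧ ∃ y ∈ S.UU (Abv T r), S.x r t * y ∈ T.Fix := by
  by_cases e : T.ρ r = r
  · obtain ⟨t, h1, h2⟩ := h.exists_fix e
    exact ⟨t, h1, 1, one_mem _, by rwa [mul_one]⟩
  · obtain ⟨y, h1, h2⟩ := h.lead (Ψ := Set.univ) (fun _ _ _ _ _ _ => trivial) trivial trivial hp e 1
    exact ⟨1, one_ne_zero, y, UU_mono S Set.inter_subset_left h1, h2⟩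

theorem mem_UM {g : G} (h1 : g ∈ S.U) (h2 : g ∈ T.Fix) : g ∈ S.U ⊓ M := ⟨h1, h.tw.mem_of_mem_U h1 h2⟩

variable {K : Subgroup G} (hc : ∀ a ∈ S.U ⊓ M, ∀ b ∈ S.U ⊓ M, cm a b ∈ K)
include hc

theorem step {r s γ : ι} (hr : Φ.Pos r) (hs : Φ.Pos s) (ha : RAdd Φ r s γ) (e : T.ρ γ ≠ γ) (e' : T.ρ r ≠ r) (t : F) :
    ∃ y ∈ S.UU (Abv T γ), S.x γ t * y ∈ K := by
  have hγ := ha.isSum.pos hr hs
  have hU := h.up hγ
  have ht := genl_ht ha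
  obtain ⟨v, hv, b, hb, hb'⟩ := h.lead0 hs
  obtain ⟨l, hl, e1⟩ := h.laced.ex h.tw.nondeg ha v hv
  obtain ⟨a, ha1, ha'⟩ := h.lead (Ψ := Set.univ) (fun _ _ _ _ _ _ => trivial) trivial trivial hr e' (t / l)
  replace ha1 := UU_mono S Set.inter_subset_left ha1
  have u1 := (h.up hr).le_U ha1
  have u2 := (h.up hs).le_U hb
  have u3 : S.x r (t / l) ∈ S.U := x_mem_UU S hr _
  have u4 : S.x s v ∈ S.U := x_mem_UU S hs _
  have u5 : S.x γ t ∈ S.U := x_mem_UU S hγ _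
  have e2 := hc _ (h.mem_UM (mul_mem u3 u1) ha') _ (h.mem_UM (mul_mem u4 u2) hb')
  rw [genl_cm, e1, mul_div_cancel₀ _ hl] at e2
  have hρ := h.lin.1.radd ha
  refine ⟨_, ?_, e2⟩
  refine mul_mem (mul_mem (hU.conj (mul_mem u1 u5) ?_) ?_) ?_
  · refine hU.cm_mem (Ψ₁ := {r}) (fun _ e => e ▸ hr) (h.up hs).pos ?_ (x_mem_UU S (Set.mem_singleton r) _) hb
    rintro _ rfl k (⟨rfl, h1⟩ | h1) m hm
    · exact (h.no_cross hr hs e' h1 ha (h.radd hr (T.pos_ρ hs) hm)).elim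
    · have := hm.ht_le hr (genl_pos (by have := Φ.ht_pos hs; omega))
      exact .inr (by omega)
  · refine hU.cm_mem (Ψ₁ := {γ}) (fun _ e => e ▸ hγ) (fun _ e => e) ?_ (x_mem_UU S (Set.mem_singleton γ) _)
      (mul_mem u2 u1)
    rintro _ rfl k hk m hm
    have := hm.ht_le hγ hk
    have := Φ.ht_pos hk
    exact .inr (by omega)
  · have hp : ∀ k ∈ insert s (Abv T s), Φ.Pos k := fun k hk => hk.elim (· ▸ hs) ((h.up hs).pos k)
    refine hU.cm_mem (Ψ₂ := insert s (Abv T s)) (h.up hr).pos hp ?_ ha1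
      (mul_mem (x_mem_UU S (Set.mem_insert _ _) _) (UU_mono S (Set.subset_insert _ _) hb))
    intro k hk k' hk' m hm
    have h1 := hm.ht_le ((h.up hr).pos k hk) (hp k' hk')
    have h2 := h.radd ((h.up hr).pos k hk) (hp k' hk') hm
    have h3 : Φ.ht s ≤ Φ.ht k' := hk'.elim (fun e => by rw [e]) h.ht_le
    rcases hk with ⟨rfl, -⟩ | hk
    · rw [h.ht_ρ] at h1
      rcases hk' with rfl | ⟨rfl, -⟩ | hk'
      · by_cases h4 : T.ρ k' = k'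
        · rw [h4] at hρ
          exact h2.unique' hρ ▸ .inl ⟨rfl, e⟩
        · have := h.lin.1.radd h2
          rw [h.hρ] at this
          exact (h.no_cross hr hs e' h4 ha this).elim
      · exact h2.unique' hρ ▸ .inl ⟨rfl, e⟩
      · exact .inr (by omega)
    · exact .inr (by omega)

theorem fix_fix {i : κ} {s γ : ι} (hs : Φ.Pos s) (ha : RAdd Φ (Φ.simple i) s γ) (e : T.ρ γ = γ)
    (e' : T.ρ (Φ.simple i) = Φ.simple i) {t : F} (ht : S.x γ t ∈ T.Fix) : S.x γ t ∈ K := by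
  have hS := h.tw.sharp
  have hi : T.π i = i := Φ.simple_injective (by rw [← T.ρ_simple, e'])
  have hρ := h.lin.1.radd ha
  rw [e, e'] at hρ
  obtain ⟨v, hv, hv'⟩ := h.exists_fix (hρ.unique ha)
  obtain ⟨l, hl, e1⟩ := h.laced.ex h.tw.nondeg ha v hv
  obtain ⟨c, -, hc'⟩ := h.exists_σ γ
  rw [e] at hc'
  have f1 := T.x_pos_fix hi (map_one (T.f i))
  have f2 : S.x γ (l * 1) ∈ T.Fix := e1 1 ▸ mul_mem (mul_mem (mul_mem (inv_mem f1) (inv_mem hv')) f1) hv'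
  have f3 := hS.x_inj _ ((hc' _).symm.trans f2.2)
  have f4 := hS.x_inj _ ((hc' _).symm.trans ht.2)
  rw [mul_one] at f3
  have f5 : T.f i (t / l) = t / l := by
    rw [h.hf, map_div₀, div_eq_div_iff ((map_ne_zero φ).2 hl) hl]
    linear_combination φ l * f4 - φ t * f3
  have := hc _ (h.mem_UM (x_mem_UU S (Φ.pos_simple i) _) (T.x_pos_fix hi f5)) _ (h.mem_UM (x_mem_UU S hs _) hv')
  rwa [e1, mul_div_cancel₀ _ hl] at this

theorem fix_trace {r s γ : ι} (hr : Φ.Pos r) (hs : Φ.Pos s) (ha : RAdd Φ r s γ) (e : T.ρ γ = γ)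
    (e' : T.ρ r ≠ r) (e'' : s ≠ T.ρ r) {t : F} (ht : S.x γ t ∈ T.Fix) : S.x γ t ∈ K := by
  have hS := h.tw.sharp
  have hρ := h.lin.1.radd ha
  rw [e] at hρ
  have := h.laced.pos r
  obtain ⟨-, a1, a2⟩ := h.laced.ip_radd hρ
  have a3 := ha.ip_right (T.ρ r)
  have a4 := ha.ip_right (T.ρ s)
  have a5 := h.ip_nonpos hr e'
  have a6 := (h.ip_le (T.pos_ρ hr) hs e'').1
  have a7 := h.ip_ρ r s
  rw [ip_comm (T.ρ r) r] at a3
  rw [ip_comm (T.ρ s) r, ip_comm (T.ρ s) s] at a4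
  obtain ⟨l, hl, e1⟩ := h.laced.ex h.tw.nondeg ha 1 one_ne_zero
  obtain ⟨θ, hθ⟩ := h.exists_θ e'
  obtain ⟨c, -, hc'⟩ := h.exists_σ γ
  obtain ⟨c₁, -, h1⟩ := h.exists_σ r
  obtain ⟨c₂, -, h2⟩ := h.exists_σ s
  rw [e] at hc'
  have f4 := hS.x_inj _ ((hc' _).symm.trans ht.2)
  have f1 := h.norm_fix (x_mem_grp S r (θ * t / l)) (h1 _ ▸ h.laced.cm (by omega) _ _)
  have f2 := h.norm_fix (x_mem_grp S s 1) (h2 _ ▸ h.laced.cm (by omega) _ _)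
  have := hc _ (h.mem_UM (mul_mem (x_mem_UU S hr _) (T.σ_mem_U hS (x_mem_UU S hr _))) f1) _
    (h.mem_UM (mul_mem (x_mem_UU S hs _) (T.σ_mem_U hS (x_mem_UU S hs _))) f2)
  have c1 : cm (S.x r (θ * t / l)) (T.σ (S.x s 1)) = 1 := cm_eq_one_iff.2 (h2 _ ▸ h.laced.cm (by omega) _ _)
  have c2 : cm (T.σ (S.x r (θ * t / l))) (S.x s 1) = 1 := cm_eq_one_iff.2 (h1 _ ▸ h.laced.cm (by omega) _ _)
  have c3 : cm (S.x γ (θ * t)) (T.σ (S.x s 1) * T.σ (S.x r (θ * t / l))) = 1 := by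
    rw [h1, h2]
    exact cm_eq_one_iff.2 ((h.laced.cm (by omega) _ _).symm.mul_right (h.laced.cm (by omega) _ _).symm)
  rw [genl_cm, cm_mul_right (T.σ _), c1, c2, ← h.σ_cm (x_mem_grp S _ _) (x_mem_grp S _ _), e1, mul_div_cancel₀ _ hl, c3,
    hc'] at this
  simp only [mul_one, inv_mul_cancel, one_mul] at this
  rwa [← S.x_add, show θ * t + c * φ (θ * t) = t by rw [map_mul]; linear_combination t * hθ + φ θ * f4] at this

variable (hb : ∀ b, Ub T M b ≤ K)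
include hb

theorem key {γ : ι} (hγ : Φ.Pos γ) {t : F} (ht : T.ρ γ = γ → S.x γ t ∈ T.Fix) :
    ∃ y ∈ S.UU (Abv T γ), S.x γ t * y ∈ K := by
  by_cases h1 : ∃ b, γ ∈ posJ Φ (T.J b)
  · obtain ⟨b, h1⟩ := h1
    by_cases e : T.ρ γ = γ
    · exact ⟨1, one_mem _, hb b (by rw [mul_one, Ub_eq h.tw]; exact ⟨x_mem_UU S h1 t, ht e⟩)⟩
    · obtain ⟨y, h2, h3⟩ := h.lead (closed_posJ _) h1 (T.ρ_mem_posJ h1) hγ e t
      exact ⟨y, UU_mono S Set.inter_subset_left h2, hb b (by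
        rw [Ub_eq h.tw]
        exact ⟨mul_mem (x_mem_UU S h1 t) (UU_mono S Set.inter_subset_right h2), h3⟩)⟩
  obtain ⟨i, -, hi⟩ := Φ.descent' hγ
  have hα := Φ.pos_simple i
  have m1 : Φ.simple i ∈ posJ Φ (T.J (T.orb i)) := simple_mem_posJ rfl
  obtain ⟨s, hs⟩ := exists_radd (Φ := Φ) (a := Φ.simple i) (r := γ) (by
    have h2 := h.laced.tri _ γ (fun e => h1 ⟨_, e ▸ m1⟩) (Φ.ne_neg_of_pos hα hγ)
    have h3 := h.laced.norm (Φ.simple i)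
    have h4 := h.laced.pos γ
    have h5 : 0 < ip Φ (Φ.simple i) γ := by
      rw [ip_simple_self] at h3
      rw [ip_simple]
      exact mul_pos (by omega) hi
    omega)
  have hs' : Φ.Pos s := genl_pos (by
    have h2 := genl_ht hs
    have := Φ.ht_pos hγ
    rw [Φ.ht_simple] at h2
    omega)
  by_cases e : T.ρ γ = γ
  · refine ⟨1, one_mem _, ?_⟩
    rw [mul_one]
    by_cases e' : T.ρ (Φ.simple i) = Φ.simple i
    · exact h.fix_fix hc hs' hs e e' (ht e)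
    · exact h.fix_trace hc hα hs' hs e e' (fun e'' => h1 ⟨_, closed_posJ _ _ m1 _ (e'' ▸ T.ρ_mem_posJ m1) _ hs.isSum⟩)
        (ht e)
  · by_cases e' : T.ρ (Φ.simple i) = Φ.simple i
    · refine h.step hc hs' hα hs.symm e (fun e'' => e ?_) t
      have := h.lin.1.radd hs
      rw [e', e''] at this
      exact this.unique' hs
    · exact h.step hc hα hs' hs e e' t

theorem le_of_up {Ψ : Set ι} (hΨ : Up Φ Ψ) (hs : ∀ r ∈ Ψ, T.ρ r ∈ Ψ) : S.UU Ψ ⊓ T.Fix ≤ K := by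
  have hS := h.tw.sharp
  induction hn : Ψ.ncard using Nat.strong_induction_on generalizing Ψ with
  | _ n ih =>
  rcases Ψ.eq_empty_or_nonempty with rfl | hne
  · rw [UU_empty, bot_inf_eq]; exact bot_le
  obtain ⟨r, hr, hmin⟩ := Set.exists_min_image Ψ Φ.ht (Set.toFinite _) hne
  rintro g ⟨hg, hf⟩
  obtain ⟨t, y, hy, rfl⟩ := S.exists_x_mul hΨ.closed hΨ.pos r hg
  have d1 := hΨ.diff hmin
  have d2 := hΨ.diff (r := T.ρ r) (by rwa [h.ht_ρ])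
  have s1 : ∀ k ∈ Ψ \ {r}, T.ρ k ∈ Ψ \ {T.ρ r} := fun k hk => ⟨hs k hk.1, fun e => hk.2 (T.ρ.injective e)⟩
  obtain ⟨y', h1, h2, h3⟩ := h.key (K := K ⊓ T.Fix) (fun a ha b hb => ⟨hc a ha b hb, h.tw.le_fix
      (mul_mem (mul_mem (mul_mem (inv_mem ha.2) (inv_mem hb.2)) ha.2) hb.2)⟩)
      (fun b x hx => ⟨hb b hx, h.tw.le_fix hx.2⟩) (hΨ.pos r hr) (t := t) fun e => by
    obtain ⟨c, -, hc'⟩ := h.exists_σ r
    have e1 : T.σ (S.x r t * y) = S.x r t * y := hf.2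
    have m1 := T.σ_mem_UU hS s1 hy
    rw [T.σ_mul _ (x_mem_grp S _ _) _ (UU_le_grp S _ hy), hc', e] at e1
    rw [e] at m1
    have e2 : S.x r (-t + c * φ t) = y * (T.σ y)⁻¹ := by
      rw [S.x_add, x_neg, inv_mul_eq_iff_eq_mul, ← mul_assoc, ← e1, mul_inv_cancel_right]
    have e3 := h.tw.nondeg.eq_zero_of_mem_UU d1.closed d1.pos (hΨ.pos r hr) (fun e => e.2 rfl)
      (e2 ▸ mul_mem hy (inv_mem m1))
    exact ⟨x_mem_grp S _ _, by rw [hc', e, show c * φ t = t by linear_combination e3]⟩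
  have h4 : y'⁻¹ * y ∈ S.UU (Ψ \ {r}) := mul_mem (inv_mem (UU_mono S (fun k hk => hk.elim
    (fun e => ⟨e.1 ▸ hs r hr, e.2⟩) fun e => ⟨hΨ.up r hr k e, fun e' => by rw [show k = r from e'] at e; omega⟩) h1)) hy
  have h5 : y'⁻¹ * y ∈ T.Fix := by simpa [mul_assoc] using T.Fix.mul_mem (T.Fix.inv_mem h3) hf
  have h6 : y'⁻¹ * y ∈ S.UU (Ψ \ {r} ∩ (Ψ \ {T.ρ r})) := by
    rw [← h.tw.nondeg.UU_inf_UU d1.closed d1.pos d2.closed d2.pos]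
    exact ⟨h4, h5.2 ▸ T.σ_mem_UU hS s1 h4⟩
  have h7 := ih _ (hn ▸ Set.ncard_lt_ncard ⟨fun k hk => hk.1.1, fun e => (e hr).1.2 rfl⟩ (Set.toFinite Ψ))
    (Ψ := Ψ \ {r} ∩ (Ψ \ {T.ρ r})) ⟨fun k hk => d1.pos k hk.1, fun k hk m hm => ⟨d1.up k hk.1 m hm, d2.up k hk.2 m hm⟩⟩
    (fun k hk => ⟨⟨hs k hk.1.1, fun e => hk.2.2 (by rw [← show T.ρ k = r from e, h.hρ]; rfl)⟩, s1 k hk.1⟩) rfl ⟨h6, h5⟩
  simpa [mul_assoc] using mul_mem h2 h7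

end LD

theorem gen_laced {ι κ B : Type} [Fintype κ] [DecidableEq κ] {Φ : RootSys ι κ} [Finite ι] {F : Type*} [Field F]
    [Finite F] {G : Type*} [Group G] {S : StSys Φ F G} {T : Tw S B} {M : Subgroup G} (hM : IsTw T M) {N : ℤ}
    (hL : Laced Φ N) (hA : ∀ i j, Φ.A (T.π i) (T.π j) = Φ.A i j) (hρ : ∀ r, T.ρ (T.ρ r) = r) {φ : F →+* F}
    (hf : ∀ i, T.f i = φ) (hφ : ∀ t, φ (φ t) = t) (h1 : (∀ r, T.ρ r = r) ∨ ∃ e, φ e ≠ e) : Gen T M :=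
  gen_of_cm hM fun K hb hc => hM.U_inf ▸ LD.le_of_up ⟨hM, hL, hA, hρ, hf, hφ, h1⟩ hc hb
    ⟨fun _ h => h, fun r hr k hk => genl_pos (by have := Φ.ht_pos hr; omega)⟩ fun _ => T.pos_ρ

end CfsgLib.CKS
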