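import Mathlib
import Cfsg.Agent.Lib.CKS.GenL
import Cfsg.Agent.Lib.KInv.FamTw
import Cfsg.Agent.Lib.SemP.Root
import Cfsg.Agent.Lib.LieMult.LiftBD
import Cfsg.Agent.Lib.Stein.TypeA

/-! CKS, package BTRL: the families of simply laced type. -/

namespace CfsgLib.CKS
open Cfsg MulAction

section Aux
open RGD Twist LieAll Stein ChevAut

variable {ι κ B : Type} [Fintype κ] [DecidableEq κ] {Φ : RootSys ι κ} [Finite ι] {F : Type*} [Field F] [Finite F]
  {G : Type*} [Group G] {S : StSys Φ F G} {M : Subgroup G}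

theorem laced_of_d (h1 : ∀ i, Φ.d i = 1) (h2 : ∀ i, ∃ j, Φ.A j i = -1) : Laced Φ 2 := by
  have h3 : ∀ r, ip Φ r r = 2 := fun r => by
    obtain ⟨w, hw, i, rfl⟩ := Φ.exists_eq_apply_simple r
    rw [ip_apply hw, ip_simple_self, h1, mul_one]
  refine laced_of_simple (fun i => h3 _) (fun i s e1 e2 => ?_) fun i => (h2 i).elim fun j hj =>
    ⟨Φ.neg (Φ.simple j), by rw [ip_neg_left, ip_simple, h1, Φ.wt_simple, hj]; rfl⟩
  have := Semi.ip_sq_lt e1.symm fun e => e2 (by rw [e, Φ.neg_neg])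
  rw [h3, h3] at this
  have : -2 < ip Φ (Φ.simple i) s ∧ ip Φ (Φ.simple i) s < 2 := abs_lt.1 (abs_lt_of_sq_lt_sq (by omega) zero_le_two)
  omega

theorem gen_id (hM : IsTw (idTw S) M) {N : ℤ} (hL : Laced Φ N) : Gen (idTw S) M :=
  gen_laced hM hL (fun _ _ => rfl) (fun _ => rfl) (φ := RingHom.id F) (fun _ => rfl) (fun _ => rfl) (.inl fun _ => rfl)

theorem gen_two {T : Tw S B} (hM : IsTw T M) {N : ℤ} (hL : Laced Φ N) (hA : ∀ i j, Φ.A (T.π i) (T.π j) = Φ.A i j)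
    (hπ : T.π ^ 2 = 1) {φ : F →+* F} (hf : ∀ i, T.f i = φ) (hφ : ∀ t, φ (φ t) = t) (h1 : ∃ e, φ e ≠ e) : Gen T M :=
  gen_laced hM hL hA (fun r => congrFun (congrArg DFunLike.coe (SemP.ρ_pow_eq_one T.toSym hπ)) r) hf hφ (.inr h1)

end Aux

open LieAll Twist Weyl RGD

variable {p : ℕ} [Fact p.Prime] {F : Type} [Field F] [Fintype F] [CharP F p] {Ω : Type*}

theorem btr_psl {d : ℕ} (hd : 3 ≤ d) [MulAction (PSL d F) Ω] (H : TwoTr (PSL d F) Ω) (hp : p ∣ Nat.card Ω) :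
    BTr p (PSL d F) Ω :=
  have h := (good_psl (K := F) (n := d) (by omega)).tw
  btr_of_gen_equiv h (gen_id h (Stein.laced_A hd)) Subgroup.topEquiv.symm H hp

theorem btr_psu {d q : ℕ} (hF : Fintype.card F = q ^ 2) (hd : 3 ≤ d) [MulAction (PSU d F q) Ω]
    (H : TwoTr (PSU d F q) Ω) (hp : p ∣ Nat.card Ω) : BTr p (PSU d F q) Ω := by
  obtain ⟨f⟩ := nonempty_psu_equiv (n := d) hF (by omega)
  have h := (good_su (Unitary.conj_conj hF) (Unitary.exists_not_fixed hF) (n := d) (by omega)).tw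
  exact btr_of_gen_equiv h (gen_two h (Stein.laced_A hd) KInv.Fam.symA_A (Equiv.ext Fin.rev_rev) (fun _ => rfl)
    (Unitary.conj_conj hF) (Unitary.exists_not_fixed hF)) f H hp

theorem btr_plus {m : ℕ} (hm : 4 ≤ m) [MulAction (POmega F (quadFormPlus m F)) Ω]
    (H : TwoTr (POmega F (quadFormPlus m F)) Ω) (hp : p ∣ Nat.card Ω) : BTr p (POmega F (quadFormPlus m F)) Ω :=
  have h := (good_plus (K := F) (m := m) (by omega) (by omega) (by omega)).tw
  btr_of_gen_equiv h (gen_id h (LieMult.laced_D _ (by omega))) Subgroup.topEquiv.symm H hp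

theorem btr_minus {m : ℕ} (hm : 4 ≤ m) {a b : F}
    (hab : ∀ z₁ z₂ : F, z₁ ^ 2 + a * z₁ * z₂ + b * z₂ ^ 2 = 0 → z₁ = 0 ∧ z₂ = 0)
    [MulAction (POmega F (quadFormMinus (m - 1) F a b)) Ω] (H : TwoTr (POmega F (quadFormMinus (m - 1) F a b)) Ω)
    (hp : p ∣ Nat.card Ω) : BTr p (POmega F (quadFormMinus (m - 1) F a b)) Ω := by
  obtain ⟨K, _, _, j, φ, θ, h1, h2, h3, hφ, hj, hs⟩ := exists_quad hab
  have h := good_om (m := m - 1) (by omega) (by omega) h1 h2 h3 hφ hj hs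
    ((OrthE.hyp_qMinus a b ⟨0, by omega⟩).E_eq_commutator_of_five (OrthE.nondeg_qMinus _ hab) (by simp; omega))
    (by omega)
  obtain ⟨f⟩ := nonempty_quot_equiv (omHom_injective _ _ _) h
  have := charP_of_injective_ringHom j.injective p
  exact btr_of_gen_equiv h.tw (gen_two h.tw (LieMult.laced_D _ (by omega)) (KInv.Fam.symD_A _) (Equiv.ext piD_piD)
    (fun _ => rfl) hφ ⟨θ, h3.symm⟩) f H hp

theorem btr_E6 [MulAction (Lie.chevE6.group F) Ω] (H : TwoTr (Lie.chevE6.group F) Ω) (hp : p ∣ Nat.card Ω) :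
    BTr p (Lie.chevE6.group F) Ω :=
  have h := (good_chev (K := F) rtOKE6 connChkE6).tw
  btr_of_gen h (gen_id h (laced_of_d (by decide +kernel) (by decide +kernel))) H hp

theorem btr_E7 [MulAction (Lie.chevE7.group F) Ω] (H : TwoTr (Lie.chevE7.group F) Ω) (hp : p ∣ Nat.card Ω) :
    BTr p (Lie.chevE7.group F) Ω :=
  have h := (good_chev (K := F) rtOKE7 connChkE7).tw
  btr_of_gen h (gen_id h (laced_of_d (by decide +kernel) (by decide +kernel))) H hp

theorem btr_E8 [MulAction (Lie.chevE8.group F) Ω] (H : TwoTr (Lie.chevE8.group F) Ω) (hp : p ∣ Nat.card Ω) :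
    BTr p (Lie.chevE8.group F) Ω :=
  have h := (good_chev (K := F) rtOKE8 connChkE8).tw
  btr_of_gen h (gen_id h (laced_of_d (by decide +kernel) (by decide +kernel))) H hp

theorem btr_2E6 {q : ℕ} (hq : IsPrimePow q) (hF : Fintype.card F = q ^ 2) [MulAction (Lie.twistedE6 F q) Ω]
    (H : TwoTr (Lie.twistedE6 F q) Ω) (hp : p ∣ Nat.card Ω) : BTr p (Lie.twistedE6 F q) Ω := by
  obtain ⟨φ, hφ⟩ := Twist.exists_frob hq hF
  have h := (good_E6 hφ (frob2 hφ hF)).tw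
  exact btr_of_gen h (gen_two h (laced_of_d (by decide +kernel) (by decide +kernel))
    (show ∀ i j, (rootSys rtOKE6).A (symE6.π i) (symE6.π j) = _ by decide +kernel)
    (show symE6.π ^ 2 = 1 by decide +kernel) (fun _ => rfl) (frob2 hφ hF)
    ((Unitary.exists_not_fixed hF).imp fun x hx => by rwa [hφ])) H hp

end CfsgLib.CKS
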