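import Mathlib
import Cfsg.Agent.Lib.CKS.Abs2
import Cfsg.Agent.Lib.CKS.Abs3
import Cfsg.Agent.Lib.Stein.B2
import Cfsg.Agent.Lib.Stein.Graph
import Cfsg.Agent.Lib.Semi.F4
import Cfsg.Agent.Lib.St.Unip
import Cfsg.Agent.Lib.ChevAut.RootCent
import Cfsg.Agent.Lib.ChevAut.Par
import Cfsg.Agent.Auto.CfsgLib_Weyl_evalL_eq_def

/-! CKS, packages F4 and F42: computations in the group `F₄(q)`. -/

namespace CfsgLib.CKS.F4D
open Cfsg Subgroup RGD Stein CfsgLib.Semi Lie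

theorem pos24 (r : Fin 48) : ΦF4.Pos r ↔ 24 ≤ r := by
  refine (Twist.pos_iff_le (h := Weyl.rtOKF4) r).trans ?_
  change 48 ≤ 2 * r.1 ↔ 24 ≤ r.1
  omega

theorem neg47 : ∀ r : Fin 48, chevF4.neg r = 47 - r := by decide +kernel

theorem ht11 : ∀ r : Fin 48, ΦF4.ht r ≤ 11 := by decide +kernel

/-- the commutator of `a`, `b` involves only roots of `K` -/
def Cz (k : ℤ) (K : List (Fin 48)) (a b : Fin 48) : Prop :=
  a = b ∨ a.1 + b.1 ≠ 47 ∧ ∀ c ∈ chevF4.commTerms b a, c.1 ∈ K.map Fin.val ∨ k ∣ c.2.1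

instance (k : ℤ) (K : List (Fin 48)) (a b : Fin 48) : Decidable (Cz k K a b) := by unfold Cz; infer_instance

/-- a commutator with one term -/
def One (a b z : Fin 48) (c : ℤ) : Prop := a ≠ b ∧ a.1 + b.1 ≠ 47 ∧ chevF4.commTerms b a = [(z.1, c, 1, 1)]

instance (a b z : Fin 48) (c : ℤ) : Decidable (One a b z c) := by unfold One; infer_instance

theorem lt_of_terms : ∀ a b : Fin 48, ∀ c ∈ chevF4.commTerms b a, c.1 < 48 := by decide +kernel

variable {F G : Type*} [Field F] [Group G]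

/-- the data of type `F₄` -/
structure FD (S : StSys ΦF4 F G) (y : ℕ → F → G) : Prop where
  hy : ∀ (r : Fin 48) t, y r t = S.x r t
  cmf : ∀ a b : Fin 48, a.1 ≠ b.1 → a.1 ≠ chevF4.neg b → ∀ t u,
    cm (S.x a t) (S.x b u) = wordG y (chevF4.commWord F b a u t)
  nd : S.Nondeg
  top : S.grp = ⊤
  hr : HRule S
  cH : Nat.card S.H = (Nat.card F - 1) ^ 4
  sl : ∃ R : Chev.SL2Rel F G, R.x = S.x 47 ∧ R.y = S.x 0

variable (S : StSys ΦF4 F G) in
/-- the group generated by the root groups of a list -/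
abbrev UL (L : List (Fin 48)) : Subgroup G := S.UU {r | r ∈ L}

variable {S : StSys ΦF4 F G} {y : ℕ → F → G}

theorem x_mem {L : List (Fin 48)} {r : Fin 48} (t : F) (h : r ∈ L := by decide) : S.x r t ∈ UL S L :=
  S.x_mem_UU h t

theorem mem_one {r : Fin 48} {g : G} : g ∈ UL S [r] ↔ ∃ t, g = S.x r t := by
  rw [← S.mem_X_iff, StSys.X, UL]
  simp

theorem hi_pos {L : List (Fin 48)} (h : ∀ r ∈ L, 6 ≤ ΦF4.ht r) : ∀ r ∈ {r | r ∈ L}, ΦF4.Pos r := fun r hr =>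
  ΦF4.pos_iff_not_neg.2 fun e => by
    have := ΦF4.ht_pos (ΦF4.pos_neg_iff.2 e)
    have := h r hr
    rw [ΦF4.ht_neg] at *
    omega

theorem hi_closed {L : List (Fin 48)} (h : ∀ r ∈ L, 6 ≤ ΦF4.ht r) : ΦF4.Closed {r | r ∈ L} := fun r hr s hs k hk => by
  have := hk.ht_le (hi_pos h r hr) (hi_pos h s hs)
  have := h r hr
  have := h s hs
  have := ht11 k
  omega

theorem conj_cm (a b : G) : b⁻¹ * a * b = a * cm a b := by rw [cm]; group

theorem cls_of_word (L : List (Fin 4)) {r s : Fin 48} (e : ΦF4.wprod L s = r) {g : G} (hg : g ∈ UL S [r])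
    (h1 : g ≠ 1) : g ∈ Cls (UL S [s]) := by
  obtain ⟨t, rfl⟩ := mem_one.1 hg
  obtain ⟨l, hl, k⟩ := (S.acts_nprod L).exists_conj_x s
  refine ⟨S.x s (l⁻¹ * t), x_mem _ (by simp), fun e1 => h1 ?_, S.nprod L, by rw [k, mul_inv_cancel_left₀ hl, e]⟩
  rw [← mul_inv_cancel_left₀ hl t, ← e, ← k, e1]
  group

namespace FD

variable (h : FD S y)
include h

theorem cm_eq {a b : Fin 48} (h1 : a ≠ b) (h2 : a.1 + b.1 ≠ 47) (t u : F) :
    cm (S.x a t) (S.x b u) = ((chevF4.commTerms b a).map fun c =>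
      y c.1 (c.2.1 * (-u) ^ c.2.2.1 * t ^ c.2.2.2)).prod := by
  rw [h.cmf a b (fun e => h1 (Fin.ext e)) (by rw [neg47]; omega), ChevalleyDatum.commWord, wordG, List.map_map]
  rfl

theorem cm_mem {k : ℤ} (hk : (k : F) = 0) {K : List (Fin 48)} {a b : Fin 48} (hc : Cz k K a b) (t u : F) :
    cm (S.x a t) (S.x b u) ∈ UL S K := by
  rcases eq_or_ne a b with rfl | h1
  · rw [cm_eq_one_iff.2 (S.x_comm a t u)]; exact one_mem _
  obtain ⟨h2, h3⟩ := hc.resolve_left h1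
  rw [h.cm_eq h1 h2]
  refine list_prod_mem fun x hx => ?_
  obtain ⟨c, hc, rfl⟩ := List.mem_map.1 hx
  rw [h.hy ⟨_, lt_of_terms a b c hc⟩]
  rcases h3 c hc with h4 | ⟨m, h4⟩
  · obtain ⟨r, hr, e⟩ := List.mem_map.1 h4
    exact x_mem _ (by convert hr; exact e.symm)
  · rw [h4, Int.cast_mul, hk, zero_mul, zero_mul, zero_mul, S.x_zero]; exact one_mem _

theorem comm {k : ℤ} (hk : (k : F) = 0) {a b : Fin 48} (hc : Cz k [] a b) (t u : F) : Commute (S.x a t) (S.x b u) := by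
  have := h.cm_mem hk hc t u
  rw [UL, show {r : Fin 48 | r ∈ ([] : List (Fin 48))} = ∅ by simp, S.UU_empty, mem_bot] at this
  exact cm_eq_one_iff.1 this

theorem cm_one {a b z : Fin 48} {c : ℤ} (hc : One a b z c) (t u : F) :
    cm (S.x a t) (S.x b u) = S.x z (-c * u * t) := by
  rw [h.cm_eq hc.1 hc.2.1, hc.2.2]
  simp [h.hy]

theorem commute_UU {k : ℤ} (hk : (k : F) = 0) {Ψ Ψ' : Set (Fin 48)} (hc : ∀ r ∈ Ψ, ∀ s ∈ Ψ', Cz k [] r s) {g g' : G}
    (hg : g ∈ S.UU Ψ) (hg' : g' ∈ S.UU Ψ') : Commute g g' :=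
  S.UU_induction (p := fun g => Commute g g') (Commute.one_left _) (fun r hr t _ _ ih => ih.mul_left
    (S.UU_induction (p := fun g' => Commute (S.x r t) g') (Commute.one_right _)
      (fun s hs u _ _ ih => ih.mul_right (h.comm hk (hc r hr s hs) t u)) hg')) hg

theorem norm {k : ℤ} (hk : (k : F) = 0) {Ψ : Set (Fin 48)} {L : List (Fin 48)} (hc : ∀ r ∈ Ψ, ∀ s ∈ L, Cz k L s r) :
    ∀ g ∈ S.UU Ψ ⊔ S.H, ∀ z ∈ UL S L, g * z * g⁻¹ ∈ UL S L := by
  intro g hg z hz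
  obtain ⟨u, hu, a, ha, rfl⟩ := S.mem_UU_sup_H_iff.1 hg
  have key : ∀ g ∈ S.UU Ψ, ∀ z ∈ UL S L, g⁻¹ * z * g ∈ UL S L := fun g hg =>
    S.UU_induction (p := fun g => ∀ z ∈ UL S L, g⁻¹ * z * g ∈ UL S L) (by simp) (fun r hr t g _ ih z hz => by
      rw [show (g * S.x r t)⁻¹ * z * (g * S.x r t) = (S.x r t)⁻¹ * (g⁻¹ * z * g) * S.x r t by group]
      refine S.UU_induction (p := fun z => (S.x r t)⁻¹ * z * S.x r t ∈ UL S L) (by simp) (fun s hs u z _ ih => ?_)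
        (ih z hz)
      rw [show (S.x r t)⁻¹ * (z * S.x s u) * S.x r t = (S.x r t)⁻¹ * z * S.x r t * ((S.x r t)⁻¹ * S.x s u * S.x r t) by
        group, conj_cm (S.x s u)]
      exact mul_mem ih (mul_mem (x_mem u hs) (h.cm_mem hk (hc r hr s hs) u t))) hg
  simpa only [mul_inv_rev, inv_inv, mul_assoc] using key _ (inv_mem hu) _ (S.H_conj_mem_UU ha hz)

theorem x_ne_one (r : Fin 48) {t : F} (ht : t ≠ 0) : S.x r t ≠ 1 := fun e => ht (h.nd.eq_zero_of_x_eq_one e)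

theorem card_one (r : Fin 48) (hr : 24 ≤ r := by decide) : Nat.card (UL S [r]) = Nat.card F := by
  rw [h.nd.card_UU (by simpa using StSys.closed_singleton r) (by simpa using (pos24 r).2 hr)]
  simp

theorem card_hi (L : List (Fin 48)) (hL : (∀ r ∈ L, 6 ≤ ΦF4.ht r) ∧ L.Nodup := by decide +kernel) :
    Nat.card (UL S L) = Nat.card F ^ L.length := by
  rw [h.nd.card_UU (hi_closed hL.1) (hi_pos hL.1), ← List.toFinset_card_of_nodup hL.2, ← Set.ncard_coe_finset]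
  simp

theorem pg [Finite F] (p : ℕ) [Fact p.Prime] [CharP F p] (L : List (Fin 48)) (hL : ∀ r ∈ L, 24 ≤ r := by decide) :
    IsPGroup p (UL S L) := (St.isPGroup_U h.nd p).to_le (S.UU_le_U fun r hr => (pos24 r).2 (hL r hr))

theorem isConj_cls {b : Fin 48} {i : Fin 4} (hw : ΦF4.wt i b = 1) {g : G} (hg : g ∈ Cls (UL S [b])) :
    IsConj (S.x b 1) g := by
  obtain ⟨z, hz, h1, g, rfl⟩ := hg
  obtain ⟨t, rfl⟩ := mem_one.1 hz
  have := h.hr i b t 1 fun e => h1 (by rw [e, S.x_zero])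
  rw [hw, zpow_one, mul_one] at this
  exact (isConj_iff.2 ⟨_, this⟩).trans (isConj_iff.2 ⟨g, rfl⟩)

theorem card_U : Nat.card S.U = Nat.card F ^ 24 := by
  rw [StSys.U, h.nd.card_UU ΦF4.closed_pos fun _ h => h]
  exact congrArg _ (ncard_pos_rootSys Weyl.rtOKF4)

theorem card_B [Finite F] [Finite G] : Nat.card S.B = Nat.card F ^ 24 * (Nat.card F - 1) ^ 4 := by
  rw [h.nd.card_B, h.card_U, h.cH]

theorem index_P [Finite F] [Finite G] : (S.P {0, 1, 2}).index * (Nat.card F - 1) + (Nat.card F ^ 4 + 1) =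
    (Nat.card F ^ 4 + 1) * Nat.card F ^ 12 := by
  have k := fun Ls => Weyl.chain_sound Weyl.rtOKF4.root Weyl.tablesOKF4 (Weyl.reflPerm Weyl.rtOKF4.root) (MonoidHom.id _)
    (Weyl.reflPerm_sq _) (Weyl.reflPerm_rel _) (fun i hi r => Weyl.reflPerm_val Weyl.rtOKF4.root hi r) (Nat.card F) Ls
  have kW : ∀ (J : Set (Fin 4)) (m : ℕ), (∀ i : Fin 4, i ∈ J ↔ m.testBit i = true) →
      Weyl.par (Weyl.reflPerm Weyl.rtOKF4.root) chevF4.rank m = ΦF4.WJ J := fun J m e => by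
    unfold Weyl.par RootSys.WJ
    congr 1
    ext g
    exact ⟨fun ⟨i, hi, h1, h2⟩ => ⟨⟨i, hi⟩, (e _).2 h1, (Weyl.rootSys_s_eq _ ⟨i, hi⟩).trans h2.symm⟩,
      fun ⟨i, hi, h2⟩ => ⟨i, i.2, (e _).1 hi, h2.symm.trans (Weyl.rootSys_s_eq Weyl.rtOKF4 i)⟩⟩
  obtain ⟨T, h1, -, h2⟩ := k Weyl.chainF4 15 Weyl.chainF4_link Weyl.chainF4_ok
  obtain ⟨T', h1', -, h2'⟩ := k Weyl.chainF4.tail 7 (by decide +kernel)
    fun L hL => Weyl.chainF4_ok L (List.mem_of_mem_tail hL)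
  rw [kW Set.univ _ (by simp; decide)] at h1
  rw [kW {0, 1, 2} _ (by simp; decide)] at h1'
  simp only [MonoidHom.id_apply, ← Weyl.rootSys_len Weyl.rtOKF4] at h2 h2'
  rw [List.map_tail, Weyl.chainF4_coef] at h2'
  rw [Weyl.chainF4_coef, List.map_cons, List.prod_cons] at h2
  rw [← (show _ = (List.map _ [_, _, _]).prod from h2')] at h2
  have e := (h.nd.card_P _ T h1).trans ((congrArg _ h2).trans ((mul_left_comm _ _ _).trans
    (congrArg _ (h.nd.card_P _ T' h1').symm)))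
  rw [S.P_univ, h.top, card_top, ← (S.P {0, 1, 2}).card_mul_index, mul_comm, mul_left_inj' Nat.card_pos.ne'] at e
  obtain ⟨q, hq⟩ : ∃ q, Nat.card F = q + 1 := ⟨Nat.card F - 1, by have := Nat.card_pos (α := F); omega⟩
  rw [e, hq, Nat.add_sub_cancel]
  simp only [Weyl.evalL, Nat.cast_id]
  ring

theorem P_norm : ∀ g ∈ S.P {0, 1, 2}, ∀ z ∈ UL S [47], g * z * g⁻¹ ∈ UL S [47] := by
  rw [S.P_eq_H_sup_UU, sup_comm]
  refine h.norm (k := 0) (by simp) fun r hr s hs => ?_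
  have h1 : 0 ≤ ΦF4.rt r 3 := hr.elim (fun e => e 3) fun e => (e 3 (by simp)).ge
  clear hr
  revert r s
  decide +kernel

theorem cent {c : F} (hc : c ≠ 0) {g : G} (e : Commute g (S.x 47 c)) : g ∈ S.P {0, 1, 2} := by
  have hU : ∀ u ∈ S.U, Commute u (S.x 47 c) := fun u hu => h.commute_UU (k := 0) (by simp) (Ψ' := {r | r ∈ [47]})
    (fun r hr s hs => by
      rw [Set.mem_setOf_eq, pos24] at hr
      revert r s
      decide +kernel) hu (x_mem c)
  obtain ⟨u, hu, n, hn, w, hw, ha, u', hu', rfl⟩ := h.nd.exists_bruhat (g := g) (h.top ▸ mem_top g)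
  have hu'' : u' ∈ S.U := S.UU_le_U (fun _ e => e.1) hu'
  have e1 : Commute n (S.x 47 c) := by
    simpa [mul_assoc] using ((hU u hu).inv_left.mul_left e).mul_left (hU u' hu'').inv_left
  obtain ⟨l, hl, k⟩ := ha.exists_conj_x 47
  have e2 := h.nd.root_eq_of_x_eq (mul_ne_zero hl hc) ((k c).symm.trans (by rw [e1.eq, mul_inv_cancel_right]))
  have e3 := ChevAut.mem_WJ_of_apply_eq (Φ := ΦF4) (r := 47) (by decide +kernel) hw e2
  rw [show {j | ΦF4.wt j 47 = 0} = {0, 1, 2} from Set.ext (by simp only [Set.mem_setOf_eq]; simp; decide +kernel)] at e3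
  exact mul_mem (mul_mem (S.B_le_P _ (S.U_le_B hu)) (S.NJ_le_P _ (h.nd.mem_NJ_of_acts hn e3 ha)))
    (S.B_le_P _ (S.U_le_B hu''))

end FD

theorem fd_F4 (F : Type*) [Field F] [Fintype F] :
    FD (gSys F Weyl.rtOKF4 genOKF4) (xG chevF4 F) := by
  refine ⟨fun _ _ => rfl, fun a b h1 h2 => gSys_cm _ _ h1 h2, gSys_nondeg _ _, Cover.sys_grp _ _ _,
    Cover.sys_hRule _ _ _, ?_, ChevAut.sl2G F (r := 47) (by decide), rfl, rfl⟩
  rw [Nat.card_eq_fintype_card (α := F), ← Chev.card_diagonalSubgroup_F4, ← Chev.stSys_H Weyl.rtOKF4,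
    ← Stein.map_H ((chevF4.group F).subtype.comp (MonoidHom.id _)) (Cover.sys_map _ Weyl.rtOKF4 genOKF4)]
  exact (card_map_of_injective (by simp)).symm

end CfsgLib.CKS.F4D
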