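import Mathlib
import Cfsg.Agent.Lib.CKS.Abs2
import Cfsg.Agent.Lib.CKS.Abs3
import Cfsg.Agent.Lib.CKS.How2
import Cfsg.Agent.Lib.CKS.G2a
import Cfsg.Agent.Lib.PGroup.Basic
import Cfsg.Agent.S2338

/-! CKS, package G2. -/

namespace CfsgLib.CKS
open Cfsg MulAction

namespace G2D
open Subgroup RGD Stein MinDeg CfsgLib.Semi

theorem card_mul_le {G : Type*} [Group G] [Finite G] {K Z M : Subgroup G} (hK : K ≤ M) (hZ : Z ≤ M)
    (h : ∀ g ∈ K, g ∈ Z → g = 1) : Nat.card K * Nat.card Z ≤ Nat.card M := by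
  rw [← Nat.card_prod]
  refine Nat.card_le_card_of_injective (fun x : K × Z => (⟨x.1 * x.2, mul_mem (hK x.1.2) (hZ x.2.2)⟩ : M)) ?_
  rintro ⟨a, b⟩ ⟨c, d⟩ e
  have e1 : (a : G) * b = c * d := congrArg Subtype.val e
  have e2 : (c : G)⁻¹ * a = d * b⁻¹ := by
    rw [inv_mul_eq_iff_eq_mul, ← mul_assoc, ← e1]; simp
  have e3 := h _ (mul_mem (inv_mem c.2) a.2) (e2 ▸ mul_mem d.2 (inv_mem b.2))
  obtain rfl : a = c := Subtype.ext (inv_mul_eq_one.1 e3).symm
  exact Prod.ext rfl (Subtype.ext (mul_left_cancel e1))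

theorem fix_of_comm {G Ω : Type*} [Group G] [MulAction G Ω] {P : Subgroup G} (hP : TrOn P Ω) {z : G}
    (hz : ∀ g ∈ P, Commute g z) {a : Ω} (e : z • a = a) (b : Ω) : z • b = b := by
  obtain ⟨g, hg, rfl⟩ := hP a b
  rw [← mul_smul, ← (hz g hg).eq, mul_smul, e]

theorem trOn_of_ncard {G Ω : Type*} [Group G] [MulAction G Ω] [Finite Ω] {P : Subgroup G}
    (h : ∀ a : Ω, Nat.card Ω ≤ (orbit P a).ncard) : TrOn P Ω := fun a b => by
  have h1 : orbit P a = Set.univ := Set.eq_of_subset_of_ncard_le (Set.subset_univ _) (by rw [Set.ncard_univ]; exact h a)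
  obtain ⟨g, e⟩ : b ∈ orbit P a := h1 ▸ Set.mem_univ b
  exact ⟨g, g.2, e⟩

variable {F G : Type*} [Field F] [Finite F] [Group G] [Finite G] {S : StSys ΦG2 F G} {R : GS F G} (h : GD S R)
  {p : ℕ} [Fact p.Prime] [CharP F p] {Ω : Type*} [MulAction G Ω] (H : TwoTr G Ω)

namespace GD
include h

theorem not_dvd_index (p : ℕ) [Fact p.Prime] [CharP F p] : ¬ p ∣ S.U.index := by
  obtain ⟨e, he, hq⟩ := St.exists_card_eq_pow F p
  have h1 := S.U.card_mul_index
  rw [h.card_U, h.cG, mul_assoc, mul_right_inj' (pow_ne_zero _ Nat.card_pos.ne')] at h1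
  have h2 : ∀ k, 0 < k → ¬ p ∣ Nat.card F ^ k - 1 := fun k hk h3 => by
    have h4 : p ∣ Nat.card F ^ k := by rw [hq, ← pow_mul]; exact dvd_pow_self p (by positivity)
    have := (Nat.dvd_sub_iff_right (Nat.one_le_pow _ _ Nat.card_pos) h4).1 h3
    exact (Fact.out : p.Prime).one_lt.ne' (Nat.dvd_one.1 this)
  rw [h1, (Fact.out : p.Prime).dvd_mul]
  exact fun h3 => h3.elim (h2 2 two_pos) (h2 6 (by omega))

theorem trB (hB : BTr p G Ω) : TrOn S.B Ω :=
  (hB ((St.isPGroup_U h.nd p).toSylow (h.not_dvd_index p))).mono fun g hg => by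
    rw [← h.nd.normalizer_U, h.top]
    exact ⟨hg, mem_top g⟩

include H

theorem semiT (hB : BTr p G Ω) : Semi (UL S [10, 11]) Ω := by
  refine H.line (h.trB hB) (Z := UL S [11]) (lt_of_le_of_ne UL_mono fun e => ?_) (B_norm (by decide))
    (B_norm (by decide)) (h.pg p _) (fun t ht h1 t' ht' h1' => ?_) fun e => h.not_central (e (x_mem 1))
  · have := h.card_UL [11]
    rw [e, h.card_UL [10, 11]] at this
    exact absurd (Nat.pow_right_injective Finite.one_lt_card this) (by decide)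
  · rw [← fx_of_isConj (h.isConj_T ht h1), ← fx_of_isConj (h.isConj_T ht' h1')]

theorem num (hB : BTr p G Ω) :
    ∃ s, (Nat.card Ω - 1) * s = Nat.card F ^ 6 - 1 ∧ (Nat.card Ω = Nat.card F ^ 6 → s ≠ 1) := by
  have := H.finite
  obtain ⟨s, hs, hp⟩ := H.numZ_pairY h.P_norm ((h.semiT H hB).mono UL_mono)
  have hq : 1 < Nat.card F := Finite.one_lt_card
  refine ⟨s, hs.trans ?_, ?_⟩
  · have h1 := (S.P {0}).card_mul_index
    rw [h.card_P, h.cG] at h1
    rw [h.card_UL [11], List.length_singleton, pow_one]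
    obtain ⟨m, hm⟩ : ∃ m, Nat.card F = m + 1 := ⟨Nat.card F - 1, by omega⟩
    rw [hm] at h1 hq ⊢
    rw [show (m + 1) ^ 2 - 1 = m * (m + 2) from Nat.sub_eq_of_eq_add (by ring), Nat.add_sub_cancel] at h1
    refine Nat.eq_of_mul_eq_mul_left (show 0 < (m + 1) ^ 6 * (m * (m + 2)) by have : 0 < m := by omega
                                                                              positivity) ?_
    rw [← h1, Nat.add_sub_cancel]; ring
  rintro hn rfl
  obtain ⟨e, -, he⟩ := St.exists_card_eq_pow F p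
  rw [he, ← pow_mul] at hn
  have key : ∀ c : F, c ≠ 0 → ∀ r j : ℕ, r.Prime → r ≠ p → (S.x 11 c * S.x 0 (-1)) ^ r ^ j ≠ 1 := by
    intro c hc r j hr hrp e1
    obtain ⟨u, hu, g, e2⟩ := h.exists_conj_x 11 11 (t := -1) (by simp)
    have h1 := hp (S.x 11 c)⁻¹ ⟨_, inv_mem (x_mem c), inv_ne_one.2 (h.x_ne_one 11 hc), 1, by simp⟩ (S.x 0 (-1))
      ⟨_, x_mem u, h.x_ne_one 11 hu, g, e2⟩ (fun e3 => absurd (h.nd.root_eq_of_x_eq (by simp) (e3.trans
        (S.x_neg _ _).symm)) (by decide)) ⊥ (by simp) (by simp)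
    have h2 := fx_pos (Ω := Ω) hr (j := j) (fun h3 => hrp ((Nat.prime_dvd_prime_iff_eq hr Fact.out).1
      (hr.dvd_of_dvd_pow (hn ▸ h3)))) (u := S.x 11 c * S.x 0 (-1)) fun a => by rw [e1, one_smul]
    rw [inv_inv, card_bot] at h1
    omega
  have hn1 : S.n 11 1 = S.x 11 1 * S.x 0 (-1) * S.x 11 1 := by rw [StSys.n, (rf_eq 11).1, inv_one]; rfl
  by_cases h2 : p = 2
  · subst h2
    have h2 : (1 : F) + 1 = 0 := CharTwo.add_self_eq_zero 1
    have ha : S.x 11 1 * S.x 11 1 = 1 := by rw [← S.x_add, h2, S.x_zero]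
    have hb : S.x 0 (-1) * S.x 0 (-1) = 1 := by rw [← S.x_add, ← neg_add, h2, neg_zero, S.x_zero]
    obtain ⟨l, hl, e1⟩ := R.n_conj 11 0
    obtain ⟨l', hl', e2⟩ := R.n_conj 11 11
    simp only [GS.n, h.hx, show MinDeg.rf 11 0 = 11 by decide, show MinDeg.rf 11 11 = 0 by decide,
      show (11 : Fin 12).rev = 0 by decide] at e1 e2
    have e3 := e1 (-1)
    refine key 1 one_ne_zero 3 1 Nat.prime_three (by decide) ?_
    generalize hA : S.x 11 1 = A at *
    generalize hB' : S.x 0 (-1) = B at *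
    have ia : A⁻¹ = A := inv_eq_of_mul_eq_one_right ha
    have ib : B⁻¹ = B := inv_eq_of_mul_eq_one_right hb
    have e4 : (A * B) ^ 3 ^ 1 = S.x 11 (l * -1 + 1) := by
      rw [S.x_add, ← e3, hA, mul_inv_rev, mul_inv_rev, ia, ib, pow_one]
      simp only [pow_succ, pow_zero, one_mul, mul_one, mul_assoc, ha]
    by_contra e5
    have e6 : l * -1 + 1 ≠ 0 := fun e => e5 (by rw [e4, e, S.x_zero])
    have c1 : Commute A (S.x 11 (l * -1 + 1)) := hA ▸ S.x_comm 11 1 _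
    have c2 : Commute (A * B) (S.x 11 (l * -1 + 1)) := e4 ▸ (Commute.refl _).pow_right _
    have e7 := e2 (l * -1 + 1)
    rw [(c2.mul_left c1).eq, mul_inv_cancel_right] at e7
    exact absurd (h.nd.root_eq_of_x_eq e6 e7) (by decide)
  · have h3 : (1 : F) + 1 ≠ 0 := fun e => h2 ((Nat.prime_dvd_prime_iff_eq Fact.out Nat.prime_two).1
      ((CharP.cast_eq_zero_iff F p 2).1 (by push_cast; linear_combination e)))
    refine key _ h3 2 2 Nat.prime_two (Ne.symm h2) ?_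
    have h4 := h.r3 11 (-1) (-1) (by simp) (by simp)
    rw [neg_mul_neg, one_mul, S.h_one, S.h_neg_one, ← mul_inv_rev, inv_eq_one] at h4
    rw [S.x_add, braid_conj, conj_pow, ← hn1, show S.n 11 1 ^ 2 ^ 2 = S.n 11 1 * S.n 11 1 * (S.n 11 1 * S.n 11 1) by
      simp only [show 2 ^ 2 = 4 by rfl, pow_succ, pow_zero, one_mul, mul_assoc], h4, mul_one, mul_inv_cancel]

theorem ne_three (hq : 3 ≤ Nat.card F) (hB : BTr p G Ω) (h3 : (3 : F) ≠ 0) : False := by
  have := H.finite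
  have hT := h.semiT H hB
  obtain ⟨s, hs, hs1⟩ := h.num H hB
  have hZ : UL S [11] ≠ ⊥ := fun e => h.x_ne_one 11 one_ne_zero (mem_bot.1 (e ▸ x_mem 1))
  have k1 : ∀ a ∈ UL S [9, 10], a ≠ 1 → ∀ z ∈ UL S [11], ∃ b ∈ UL S [6, 8, 9, 10, 11], b * a * b⁻¹ = a * z := by
    intro a ha h1 z hz
    obtain ⟨t, rfl⟩ := exists_xp ha
    obtain ⟨u, rfl⟩ := exists_xp hz
    have e1 : S.xprod [9, 10] t = nf S 0 0 (t 9) (t 10) 0 := by simp [nf, S.x_zero, StSys.xprod]
    have e2 : S.xprod [9, 10] t * S.xprod [11] u = nf S 0 0 (t 9) (t 10) (u 11) := by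
      simp [nf, S.x_zero, StSys.xprod, mul_assoc]
    rw [e2, e1]
    by_cases h0 : t 9 = 0
    · have h2 : t 10 ≠ 0 := fun e => h1 (by simp [StSys.xprod, h0, e, S.x_zero])
      refine ⟨_, inv_mem (x_mem (r := 6) (-u 11 / t 10)), ?_⟩
      rw [inv_inv, h.conj6]
      congr 1; field_simp; ring
    · refine ⟨_, inv_mem (x_mem (r := 8) (-u 11 / (3 * t 9))), ?_⟩
      rw [inv_inv, h.conj8]
      congr 1; field_simp; ring
  have k2 : ∀ a ∈ UL S [9, 10], ∀ z ∈ UL S [11], Commute a z := fun a ha z hz => h.commute_UL 0 (by simp) ha hz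
  have k3 : Nat.card (UL S [9, 10]) * Nat.card (UL S [11]) = Nat.card F ^ 3 := by
    rw [h.card_UL [9, 10], h.card_UL [11], ← pow_add]; rfl
  have h4 := heis_conj (h.pg p [9, 10]) (h.pg p [11]) k2 (fun a ha h1 z hz => (k1 a ha h1 z hz).imp fun _ e => e.2)
    (hT.mono UL_mono).orb (by rw [h.card_UL [11]]; simpa using Finite.one_lt_card)
  rw [k3] at h4
  have h5 : 1 < Nat.card F ^ 3 := Nat.one_lt_pow (by decide) (by omega)
  rcases arith h4 (by have := H.big; omega) one_pos h5 h5.le (by rw [hs, one_mul, ← pow_add]) with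
    ⟨e1, e2⟩ | ⟨m, j, hj, hm, -, e1, -, e2⟩
  · exact hs1 (by rw [e1, ← pow_add]) e2
  obtain rfl : m = 1 := by
    by_contra h6
    have h7 : 1 * (Nat.card F ^ 3 * 2 - 1) ≤ j * (Nat.card F ^ 3 * m - 1) :=
      Nat.mul_le_mul hj (Nat.sub_le_sub_right (Nat.mul_le_mul_left _ (by omega)) 1)
    omega
  rw [mul_one] at e1
  have hQ : TrOn (UL S [6, 8, 9, 10, 11]) Ω := trOn_of_ncard fun a => by
    have := heis_orbit (h.pg p [6, 8, 9, 10, 11]) UL_mono UL_mono k2 k1 (hT.mono UL_mono) hZ a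
    rw [k3, ← e1] at this
    exact Nat.le_of_dvd ((Set.ncard_pos (Set.toFinite _)).2 ⟨a, mem_orbit_self a⟩) this
  obtain ⟨ω⟩ : Nonempty Ω := (Nat.card_pos_iff.1 (by have := H.big; omega)).1
  have h6 := hQ.card_inf_stab ω
  rw [h.card_UL [6, 8, 9, 10, 11], e1] at h6
  have h7 : ∃ y ∈ UL S [6, 8, 9, 10, 11] ⊓ stabilizer G ω, y ≠ 1 ∧ ∀ g ∈ S.U ⊓ stabilizer G ω, Commute g y := by
    let N := (UL S [6, 8, 9, 10, 11] ⊓ stabilizer G ω).subgroupOf (S.U ⊓ stabilizer G ω)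
    have hN : N.Normal := ⟨fun a ha g => ⟨B_norm (by decide) _ (S.U_le_B g.2.1) _ ha.1,
      (stabilizer G ω).mul_mem ((stabilizer G ω).mul_mem g.2.2 ha.2) ((stabilizer G ω).inv_mem g.2.2)⟩⟩
    have hP : IsPGroup p ↥(S.U ⊓ stabilizer G ω) := (St.isPGroup_U h.nd p).to_inf_left
    have hN' : N ≠ ⊥ := by
      rw [← Subgroup.one_lt_card_iff_ne_bot, Nat.card_congr (subgroupOfEquivOfLe
        (inf_le_inf_right _ UL_le_U)).toEquiv]
      by_contra h8
      have := Nat.mul_le_mul_right (Nat.card F ^ 3) (not_lt.1 h8)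
      rw [h6, one_mul] at this
      exact absurd ((Nat.pow_le_pow_iff_right (by omega)).1 this) (by decide)
    have := hP.isNilpotent
    obtain ⟨y, hy, hc, h1⟩ := PGroup.exists_mem_center_of_normal N hN'
    exact ⟨y, hy, fun e => h1 (Subtype.ext e), fun g hg => congrArg Subtype.val (mem_center_iff.1 hc ⟨g, hg⟩)⟩
  obtain ⟨y, hy, hy1, hc⟩ := h7
  have h8 : ∀ v, ∃ z ∈ UL S [11], (S.x 7 v)⁻¹ * y * S.x 7 v = y * z := fun v => by
    obtain ⟨g, hg, e⟩ := hQ ω ((S.x 7 v)⁻¹ • ω)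
    have h9 := hc (S.x 7 v * g) ⟨mul_mem (S.x_mem_U ((pos_iff6 7).2 (by decide)) v) (UL_le_U (by decide) hg),
      mem_stabilizer_iff.2 (by rw [mul_smul, e, smul_inv_smul])⟩
    refine ⟨_, h.cm_mem 0 (by simp) (K := [11]) hy.1 (inv_mem hg), ?_⟩
    calc _ = g * ((S.x 7 v * g)⁻¹ * (y * (S.x 7 v * g))) * g⁻¹ := by group
      _ = _ := by rw [← h9.eq, cm]; group
  obtain ⟨a, b, c, d, e, rfl⟩ := exists_nf hy.1
  have h9 : ∀ v, v * a = 0 ∧ 3 * v * c + 3 * v ^ 2 * b + v ^ 3 * a = 0 := fun v => by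
    obtain ⟨z, hz, e3⟩ := h8 v
    obtain ⟨u, rfl⟩ := exists_xp hz
    obtain ⟨e', e4⟩ := h.conj7 v a b c d e
    rw [e4, show S.xprod [11] u = nf S 0 0 0 0 (u 11) by simp [nf, S.x_zero, StSys.xprod], h.nf_mul] at e3
    obtain ⟨-, i1, -, i2, -⟩ := h.nf_inj e3
    exact ⟨by linear_combination i1, by linear_combination -i2⟩
  obtain ⟨v, v0, v1⟩ := exists_ne01 hq
  obtain rfl : a = 0 := by simpa using (h9 1).1
  obtain rfl : b = 0 := by
    have : 3 * v * (v - 1) * b = 0 := by linear_combination (h9 v).2 - v * (h9 1).2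
    simpa [h3, v0, sub_ne_zero.2 v1] using this
  obtain rfl : c = 0 := by simpa [h3] using (h9 1).2
  refine hT _ ?_ hy1 ω hy.2
  simp only [nf, S.x_zero, one_mul, mul_one]
  exact mul_mem (x_mem d) (x_mem e)

theorem ne_27 (hc : center G = ⊥) (hq : Nat.card F = 3) (h3 : ((3 : ℤ) : F) = 0) [CharP F 3] : Nat.card Ω ≠ 27 := by
  intro hn
  have := H.finite
  have : Fact (Nat.Prime 3) := ⟨Nat.prime_three⟩
  have hU : TrOn S.U Ω := trOn_of_pow H.trans (j := 3) hn (h.not_dvd_index 3)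
  obtain ⟨ω⟩ : Nonempty Ω := (Nat.card_pos_iff.1 (by omega)).1
  have triv : ∀ z : G, (∀ a : Ω, z • a = a) → z = 1 := fun z hz => mem_bot.1 (hc ▸ H.ker z hz)
  have h1 : ∀ z ∈ UL S [8, 9, 10, 11] ⊓ stabilizer G ω, z ∈ UL S [9, 11] → z = 1 := fun z hz hz' =>
    triv z (fix_of_comm hU (fun g hg => h.commute_UL 3 h3 (U_eq.le hg) hz') hz.2)
  obtain ⟨r, hr⟩ := hU.exists_orb (Z := UL S [8, 9, 10, 11]) fun g hg => B_norm (by decide) g (S.U_le_B hg)
  have h2 := hr.card_stab ω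
  have h4 := Nat.le_of_dvd (by omega) hr.dvd
  rw [h.card_UL [8, 9, 10, 11], hq] at h2
  have h5 : ∀ L, Sm L L L ∧ L.Nodup → L.length = 3 → [9, 11] ⊆ L → ¬ UL S [8, 9, 10, 11] ⊓ stabilizer G ω ≤ UL S L := by
    intro L hL hl hs e
    have i1 := card_mul_le e (UL_mono hs) h1
    rw [h.card_UL L hL, h.card_UL [9, 11], hq, hl] at i1
    have i2 : r = 27 := by
      simp only [List.length_cons, List.length_nil] at i1 h2
      have := Nat.mul_le_mul_right r (show Nat.card ↥(UL S [8, 9, 10, 11] ⊓ stabilizer G ω) ≤ 3 by omega)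
      omega
    have i3 : TrOn (UL S [8, 9, 10, 11]) Ω := trOn_of_ncard fun a => by rw [hr a, i2, hn]
    have i4 : UL S [8, 9, 10, 11] ⊓ stabilizer G ω = ⊥ := eq_bot_iff.2 fun z hz =>
      triv z (fix_of_comm i3 (fun g hg => h.commute_UL 3 h3 hg hz.1) hz.2)
    rw [i4, i2, card_bot] at h2
    simp at h2
  obtain ⟨y, hy, hy'⟩ := SetLike.not_le_iff_exists.1 (h5 [9, 10, 11] (by decide) rfl (by decide))
  obtain ⟨z, hz, hz'⟩ := SetLike.not_le_iff_exists.1 (h5 [8, 9, 11] (by decide) rfl (by decide))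
  have h6 : S.U ⊓ stabilizer G ω ≤ UL S [8, 9, 10, 11] ⊓ stabilizer G ω := fun g hg => by
    refine ⟨?_, hg.2⟩
    have i0 : ∀ y ∈ UL S [8, 9, 10, 11] ⊓ stabilizer G ω, g⁻¹ * y * g = y := fun y hy => by
      have i1 := h.cm_mem 3 h3 (K := [9, 11]) hy.1 (U_eq.le hg.1)
      have j1 : y ∈ stabilizer G ω := hy.2
      have j2 : g ∈ stabilizer G ω := hg.2
      have i2 := h1 _ (mem_inf.2 ⟨UL_mono (by decide) i1,
        mul_mem (mul_mem (mul_mem (inv_mem j1) (inv_mem j2)) j1) j2⟩) i1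
      rw [mul_assoc, (cm_eq_one_iff.1 i2).eq, inv_mul_cancel_left]
    obtain ⟨t, rfl⟩ := exists_xp (U_eq.le hg.1)
    have i1 : S.xprod [8, 9, 10, 11] t ∈ UL S [8, 9, 10, 11] := S.xprod_mem_UU (fun _ h => h) t
    have i2 : ∀ y ∈ UL S [8, 9, 10, 11] ⊓ stabilizer G ω,
        (S.x 6 (t 6))⁻¹ * ((S.x 7 (t 7))⁻¹ * y * S.x 7 (t 7)) * S.x 6 (t 6) = y := fun y hy => by
      have i3 := i0 y hy
      rw [S.xprod_cons, S.xprod_cons] at i3
      calc _ = S.xprod [8, 9, 10, 11] t * y * (S.xprod [8, 9, 10, 11] t)⁻¹ := by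
            conv_rhs => rw [← i3]
            group
        _ = y := by rw [(h.commute_UL 3 h3 i1 hy.1).eq, mul_inv_cancel_right]
    have i3 : t 7 = 0 := by
      have i4 := i2 y hy
      obtain ⟨b, c, d, e, rfl⟩ := exists_nf' hy.1
      obtain ⟨e', e4⟩ := h.conj7 (t 7) 0 b c d e
      rw [e4, h.conj6] at i4
      have i5 : b ≠ 0 := by
        rintro rfl
        simp only [nf, S.x_zero, one_mul, mul_one] at hy'
        exact hy' (mul_mem (x_mem c) (mul_mem (x_mem d) (x_mem e)))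
      push_cast at h3
      exact (mul_eq_zero.1 (by linear_combination -(h.nf_inj i4).2.2.1 + t 7 * b * h3 : t 7 * b = 0)).resolve_right i5
    have i4 : t 6 = 0 := by
      have i4 := i2 z hz
      obtain ⟨b, c, d, e, rfl⟩ := exists_nf' hz.1
      rw [i3, S.x_zero, inv_one, one_mul, mul_one, h.conj6] at i4
      have i5 : d ≠ 0 := by
        rintro rfl
        simp only [nf, S.x_zero, one_mul, mul_one] at hz'
        exact hz' (mul_mem (x_mem b) (mul_mem (x_mem c) (x_mem e)))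
      exact (mul_eq_zero.1 (by linear_combination -(h.nf_inj i4).2.2.2.2 : t 6 * d = 0)).resolve_right i5
    rwa [S.xprod_cons, S.xprod_cons, i3, i4, S.x_zero, S.x_zero, one_mul, one_mul]
  have h7 := hU.card_inf_stab ω
  have h8 := card_mul_le (h6.trans inf_le_left) UL_mono fun g hg => h1 g (h6 hg)
  rw [h.card_UL [8, 9, 10, 11], h.card_UL [9, 11], hq] at h8
  rw [h.card_U, hn, hq] at h7
  simp only [List.length_cons, List.length_nil] at h8
  omega

end GD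

end G2D

variable {p : ℕ} [Fact p.Prime] {F : Type} [Field F] [Fintype F] [CharP F p] {Ω : Type*}

theorem g2 (hq : 3 ≤ Fintype.card F) [MulAction (Lie.chevG2.group F) Ω] (H : TwoTr (Lie.chevG2.group F) Ω)
    (hB : BTr p (Lie.chevG2.group F) Ω) : False := by
  have := Chev.good_of_mem CfsgLib.Semi.hmG2
  have h := G2D.gd_G2 F
  have := H.finite
  rw [← Nat.card_eq_fintype_card] at hq
  by_cases h3 : (3 : F) = 0
  swap
  · exact h.ne_three H hq hB h3
  obtain rfl : p = 3 := (Nat.prime_dvd_prime_iff_eq Fact.out Nat.prime_three).1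
    ((CharP.cast_eq_zero_iff F p 3).1 (by exact_mod_cast h3))
  obtain ⟨s, hs, hs1⟩ := h.num H hB
  have h1 := (h.semiT H hB).card_dvd
  rw [h.card_UL [10, 11]] at h1
  have h2 : 1 < Nat.card F ^ 2 := Nat.one_lt_pow (by decide) (by omega)
  rcases arith (e := Nat.card F ^ 4) h1 (by have := H.big; omega) one_pos h2 (Nat.one_le_pow _ _ (by omega))
    (by rw [hs, one_mul, ← pow_add]; rfl) with ⟨e1, e2⟩ | ⟨m, j, hj, hm, hm', e1, e2, e3⟩
  · exact hs1 (by rw [e1, ← pow_add]; rfl) e2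
  rcases hq.eq_or_lt with hq | hq
  · have := RGD.isSimpleGroup_G2 (F := F) (G2D.exists_ne01 hq.le)
    have hc : Subgroup.center (Lie.chevG2.group F) = ⊥ := (Subgroup.Normal.eq_bot_or_eq_top inferInstance).resolve_right
      fun e => h.not_central (e ▸ Subgroup.mem_top _)
    rw [← hq] at e1 e3 hm'
    have h4 : m = 1 ∨ m = 3 := (by decide : ∀ m < 81, 1 ≤ m → 9 * m - 1 ∣ 1 * (81 - m) → m = 1 ∨ m = 3) m hm' hm
      (Dvd.intro_left j e3)
    rcases h4 with rfl | rfl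
    · have h5 := Subgroup.card_dvd_of_injective (toPermHom (Lie.chevG2.group F) Ω)
        ((injective_iff_map_eq_one _).2 fun g hg => Subgroup.mem_bot.1 (hc ▸ H.ker g fun a => congrFun
          (congrArg DFunLike.coe hg) a))
      rw [h.cG, Nat.card_perm, e1, ← hq] at h5
      revert h5
      decide
    · exact h.ne_27 H hc hq.symm (by exact_mod_cast h3) e1
  · obtain ⟨ρ, hρ⟩ := H.exists_rep
    obtain ⟨e, he, he'⟩ := St.exists_card_eq_pow F 3
    have h4 := (Cfsg.Agent.S2338.result _ ρ hρ (by have := H.big; omega)).2.2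
    rw [← Nat.card_eq_fintype_card] at h4
    have h5 := Nat.mul_le_mul (h4 (Nat.mod_eq_zero_of_dvd (he' ▸ dvd_pow_self 3 he.ne')) hq)
      (show Nat.card F ^ 2 + 1 ≤ s by
        have := Nat.mul_le_mul_right (Nat.card F ^ 2) hj
        have e4 : s = 1 + j * Nat.card F ^ 2 := e2
        omega)
    rw [hs] at h5
    have h6 : (Nat.card F ^ 4 + Nat.card F ^ 2 + 1) * (Nat.card F ^ 2 + 1) =
      Nat.card F ^ 6 + (2 * Nat.card F ^ 4 + 2 * Nat.card F ^ 2 + 1) := by ring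
    omega

omit [Fact p.Prime] [CharP F p] in
theorem btr_G23 (hq : Fintype.card F = 3) [MulAction (Lie.chevG2.group F) Ω] (H : TwoTr (Lie.chevG2.group F) Ω)
    (hp : 3 ∣ Nat.card Ω) : BTr 3 (Lie.chevG2.group F) Ω := by
  have : Fact (Nat.Prime 3) := ⟨Nat.prime_three⟩
  have h1 := H.mul_pred_dvd.trans (Subgroup.index_dvd_card _)
  rw [RGD.card_G2 F hq] at h1
  have h2 : Nat.card Ω < 2100 := by
    by_contra h2
    have := Nat.mul_le_mul (not_lt.1 h2) (Nat.sub_le_sub_right (not_lt.1 h2) 1)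
    have := Nat.le_of_dvd (by norm_num) h1
    omega
  have key : ∀ n < 2100, 3 ≤ n → 3 ∣ n → n * (n - 1) ∣ 3 ^ 6 * (3 ^ 2 - 1) * (3 ^ 6 - 1) → ∃ j < 7, n = 3 ^ j := by
    decide +kernel
  obtain ⟨j, -, hj⟩ := key _ h2 H.big hp h1
  exact btr_of_pow H.trans hj

end CfsgLib.CKS
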