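import Mathlib
import Cfsg.Agent.Lib.CKS.How2
import Cfsg.Agent.Lib.CKS.GenL
import Cfsg.Agent.Lib.Stein.RootLem
import Cfsg.Agent.Lib.Stein.SpMult
import Cfsg.Agent.Lib.LieMult.LiftBD
import Cfsg.Agent.Lib.KInv.Tor
import Cfsg.Agent.Lib.MinDeg.G2d
import Cfsg.Agent.Auto.CfsgLib_MinDeg_tbl_eq_61

/-! CKS, package GENB: the untwisted families with two root lengths. -/

namespace CfsgLib.CKS
open Cfsg MulAction

section Aux
open RGD Twist LieAll Stein ChevAut _root_.CfsgLib.Semi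

variable {ι κ : Type} [Fintype κ] [DecidableEq κ] {Φ : RootSys ι κ} [Finite ι] {F : Type*} [Field F]
  {G : Type*} [Group G] {S : StSys Φ F G} {M : Subgroup G}

theorem genb_grp {A B X Z Z' y : G} (c : Commute A X) (e2 : A * B⁻¹ * A * X * (A * B⁻¹ * A)⁻¹ = Z)
    (e1 : X⁻¹ * B⁻¹ * X * B = y * Z') : Z * Z'⁻¹ = (cm A Z⁻¹)⁻¹ * X * y := by
  have : Z = A * B⁻¹ * X * B * A⁻¹ := by
    rw [← e2, mul_assoc _ A X, c.eq]
    group
  rw [eq_mul_inv_of_mul_eq e1.symm, cm, this]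
  group

/-- the coefficient of the top of a string -/
theorem genb_top (hS : S.Nondeg) {i : κ} {s : ι} (hs : Φ.Pos s) (hi : s ≠ Φ.simple i)
    (h : ∀ k, ¬ Φ.IsSum (Φ.neg (Φ.simple i)) s k) (hw : Φ.wt i s < 0) : ∃ l : F, l ≠ 0 ∧ ∀ t,
      ∃ y ∈ S.UU {k | Φ.IsSum (Φ.simple i) s k ∧ k ≠ Φ.s i s},
        cm (S.x s t) (S.x (Φ.simple i) (-1)) = y * S.x (Φ.s i s) (l * t) := by
  obtain ⟨l, hl, e⟩ := (S.acts_n_simple i one_ne_zero).exists_conj_x s
  refine ⟨l, hl, fun t => ?_⟩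
  have hα := Φ.pos_simple i
  have hγ := Φ.pos_s hs hi
  have hc : Φ.Closed {k | Φ.IsSum (Φ.simple i) s k} := by
    rintro _ ⟨a, b, h1, h2, h3⟩ _ ⟨a', b', h1', h2', h3'⟩ k ⟨c, d, h4, h5, h6⟩
    exact ⟨c * a + d * a', c * b + d * b', by positivity, by positivity, fun j => by
      rw [h6, h3, h3']; push_cast; ring⟩
  obtain ⟨y, hy, b, e1⟩ := S.exists_mul_x hc (fun k hk => hk.pos hα hs) (Φ.s i s)
    (S.comm_mem_UU (Φ.ne_neg_of_pos hα hs) (fun _ hk => hk) (-1) t)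
  refine ⟨y, hy, e1.trans ?_⟩
  have e2 := e t
  have c1 : Commute (S.x (Φ.neg (Φ.simple i)) (-1)) (S.x s t) := cm_of_not_isSum (by rwa [Φ.neg_neg]) h _ _
  rw [n_eq_neg hS _ one_ne_zero, inv_one] at e2
  have e3 : S.x (Φ.s i s) (l * t - b) = (cm (S.x (Φ.neg (Φ.simple i)) (-1)) (S.x (Φ.s i s) (-(l * t))))⁻¹ *
      S.x s t * y := by
    rw [sub_eq_add_neg, S.x_add, x_neg S _ b, x_neg S _ (l * t)]
    exact genb_grp c1 (by rwa [← x_neg, neg_neg]) e1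
  have hΨ : Φ.Closed {r | Φ.Pos r ∧ Φ.ht s < Φ.ht (Φ.s i r)} := fun r hr r' hr' k hk => ⟨hk.pos hr.1 hr'.1, by
    have := Φ.ht_pos hs
    have := (hk.apply (Φ.s_mem_W i)).ht_le (genl_pos (by have := hr.2; omega)) (genl_pos (by have := hr'.2; omega))
    have := hr.2
    have := hr'.2
    omega⟩
  have e4 := hS.eq_zero_of_mem_UU hΨ (fun _ h => h.1) hγ (fun h => by simpa [Φ.s_s] using h.2) (t := l * t - b) (by
    rw [e3]
    refine mul_mem (mul_mem (inv_mem ?_) (x_mem_UU S (And.intro hs (by rw [Φ.ht_s]; omega)) _)) (UU_mono S ?_ hy)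
    · refine S.comm_mem_UU (fun e => Φ.s_ne_simple hs (Φ.neg_injective e).symm) (fun k hk => ?_) _ _
      have h1 := hk.apply (Φ.s_mem_W i)
      rw [Φ.s_s, Φ.s_neg_simple] at h1
      have := h1.ht_le hs hα
      rw [Φ.ht_simple] at this
      exact ⟨Φ.s_s i k ▸ Φ.pos_s (h1.pos hs hα) (h1.ne_simple hs hα i), by omega⟩
    · rintro k ⟨⟨a, b, h1, h2, h3⟩, h4⟩
      refine ⟨RootSys.IsSum.pos ⟨a, b, h1, h2, h3⟩ hα hs, ?_⟩
      have h5 : ∀ j, Φ.rt (Φ.s i k) j = (-a - b * Φ.wt i s) * Φ.rt (Φ.simple i) j + b * Φ.rt s j := fun j => by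
        have := Φ.rt_comb (Φ.s_mem_W i) (c := 1) (fun j => (one_mul _).trans (h3 j)) j
        rw [Φ.s_simple, Φ.rt_neg, Φ.rt_s i s, Φ.rt_simple] at this
        rw [Φ.rt_simple]
        split_ifs at this ⊢ <;> linear_combination this
      have h6 : 0 ≤ -a - b * Φ.wt i s := not_lt.1 fun h6 => h _ ⟨(a + b * Φ.wt i s).toNat, b, by omega, h2, fun j => by
        rw [h5, Φ.rt_neg, Int.toNat_of_nonneg (by omega)]; ring⟩
      have h7 : Φ.ht (Φ.s i k) = (-a - b * Φ.wt i s) * Φ.ht (Φ.simple i) + b * Φ.ht s := by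
        simp only [RootSys.ht, h5, Finset.sum_add_distrib, Finset.mul_sum]
      rw [Φ.ht_simple, mul_one] at h7
      have := Φ.ht_pos hs
      by_contra h8
      have h9 : b = 1 := by nlinarith
      subst h9
      refine h4 (Φ.s_s i k ▸ congrArg (Φ.s i) (Φ.rt_inj _ _ (funext fun j => ?_)))
      rw [h5, show -(a : ℤ) - (1 : ℕ) * Φ.wt i s = 0 by omega]
      simp)
  rw [sub_eq_zero.1 e4]

variable (hd : ∀ r s, ip Φ r r ≤ 2 * ip Φ s s)
include hd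

theorem genb_x (hS : Sharp S) (hF : ∃ e : F, e ≠ 0 ∧ e + 1 ≠ 0) {K : Subgroup G}
    (hb : ∀ i t, S.x (Φ.simple i) t ∈ K) (hc : ∀ a ∈ S.U, ∀ b ∈ S.U, cm a b ∈ K) (γ : ι) :
    Φ.Pos γ → ∀ t, S.x γ t ∈ K := by
  have : IsTrans ι fun a b => Φ.ht b < Φ.ht a := ⟨fun _ _ _ h h' => h'.trans h⟩
  have : Std.Irrefl fun a b : ι => Φ.ht b < Φ.ht a := ⟨fun _ => lt_irrefl _⟩
  induction γ using (Finite.wellFounded_of_trans_of_irrefl fun a b : ι => Φ.ht b < Φ.ht a).induction with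
  | _ γ ih =>
  intro hγ t
  obtain ⟨i, -, hi⟩ := Φ.descent' hγ
  by_cases e : γ = Φ.simple i
  · exact e ▸ hb i t
  have hα := Φ.pos_simple i
  obtain ⟨s, rfl⟩ := (Φ.s i).surjective γ
  have hs : Φ.Pos s := Φ.s_s i s ▸ Φ.pos_s hγ e
  have hs' : s ≠ Φ.simple i := Φ.s_s i s ▸ Φ.s_ne_simple hγ
  have hd0 := Φ.d_pos i
  have w1 : ip Φ (Φ.simple i) s = Φ.d i * Φ.wt i s := ip_simple i s
  have w2 : Φ.wt i s = - Φ.wt i (Φ.s i s) := by
    have := ip_apply (Φ.s_mem_W i) (Φ.simple i) s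
    rw [Φ.s_simple, ip_neg_left, ip_simple, ip_simple] at this
    exact mul_left_cancel₀ hd0.ne' (by rw [← this]; ring)
  have w3 := ip_simple_self (Φ := Φ) i
  have w4 := ip_sq_lt hs'.symm (Φ.ne_neg_of_pos hs hα)
  have w5 := hd s (Φ.simple i)
  have w6 := ip_pos (Φ := Φ) s
  have w7 := Φ.ht_s i s
  have h1 : ∀ k, ¬ Φ.IsSum (Φ.neg (Φ.simple i)) s k :=
    not_isSum_of_ip (M := 2 * ip Φ (Φ.simple i) (Φ.simple i) + 1) (fun k => by have := hd k (Φ.simple i); omega)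
      (by rw [ip_neg_left]; nlinarith) (by rw [ip_neg_neg, ip_neg_left]; nlinarith)
  obtain ⟨l, hl, h2⟩ := genb_top hS.nondeg hs hs' h1 (by omega)
  obtain ⟨y, hy, e1⟩ := h2 (t / l)
  rw [mul_div_cancel₀ _ hl] at e1
  have u1 : S.x s (t / l) ∈ S.U := x_mem_UU S hs _
  have u2 : S.x (Φ.simple i) (-1) ∈ S.U := x_mem_UU S hα _
  refine (K.mul_mem_cancel_left ?_).1 (e1 ▸ hc _ u1 _ u2)
  have w8 : Φ.wt i s = -1 ∨ Φ.wt i s = -2 := by
    have : Φ.wt i s ^ 2 < 3 ^ 2 := lt_of_mul_lt_mul_left (a := Φ.d i ^ 2) (by rw [w1, w3] at w4; nlinarith)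
      (by positivity)
    have := abs_lt.1 (abs_lt_of_sq_lt_sq this (by norm_num))
    omega
  rcases w8 with w8 | w8
  · refine UU_le S (fun k hk u => ih k ?_ (hk.1.pos hα hs) u) hy
    obtain ⟨⟨a, b, h3, h4, h5⟩, h6⟩ := hk
    have h7 : Φ.ht k = a * Φ.ht (Φ.simple i) + b * Φ.ht s := by
      simp only [RootSys.ht, h5, Finset.sum_add_distrib, Finset.mul_sum]
    rw [Φ.ht_simple] at h7
    have := Φ.ht_pos hs
    by_contra h8
    obtain rfl : b = 1 := by nlinarith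
    obtain rfl : a = 1 := by omega
    exact h6 (Φ.rt_inj _ _ (funext fun j => by rw [h5, Φ.rt_s, Φ.rt_simple, w8]; split_ifs <;> simp [add_comm]))
  · have c1 := ip_mul_cart Φ s (Φ.simple i)
    rw [ip_comm s (Φ.simple i), w1, w8] at c1
    rw [w1, w3, w8] at w4
    have c2 : cart Φ s (Φ.simple i) = -1 := by
      have : cart Φ s (Φ.simple i) < 0 := by nlinarith
      have : -2 < cart Φ s (Φ.simple i) := by nlinarith
      omega
    have c3 : ip Φ s s = 4 * Φ.d i := by rw [c2] at c1; omega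
    have c4 : ∀ j, Φ.rt (rf Φ s (Φ.simple i)) j = 1 * Φ.rt (Φ.simple i) j + 1 * Φ.rt s j := fun j => by
      rw [rt_rf', c2]; ring
    have c5 : ∀ j, Φ.rt (Φ.s i s) j = 2 * Φ.rt (Φ.simple i) j + 1 * Φ.rt s j := fun j => by
      rw [Φ.rt_s, Φ.rt_simple, w8]; split_ifs <;> simp [add_comm]
    generalize rf Φ s (Φ.simple i) = k at c4
    obtain ⟨a, rfl⟩ : ∃ a, y = S.x k a := S.mem_X_iff.1 (UU_mono S (by
      rintro m ⟨⟨a, b, h3, h4, h5⟩, h6⟩
      have h7 := hd m (Φ.simple i)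
      rw [ip_comb_self h5, w1, w3, w8, c3] at h7
      have h8 : ((a : ℤ) - b) ^ 2 + b ^ 2 ≤ 2 := le_of_mul_le_mul_left (a := 2 * Φ.d i) (by linarith) (by omega)
      obtain rfl : b = 1 := by nlinarith
      have h9 : a = 1 ∨ a = 2 := by
        have : a ≤ 2 := by nlinarith
        omega
      rcases h9 with rfl | rfl
      · exact Φ.rt_inj _ _ (funext fun j => by rw [h5, c4]; simp)
      · exact absurd (Φ.rt_inj _ _ (funext fun j => by rw [h5, c5]; simp)) h6) hy)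
    have c6 : cart Φ s k = 1 := mul_left_cancel₀ w6.ne' (by
      rw [ip_mul_cart, ip_comm, ip_comb c4, w1, w8, c3]; ring)
    have c7 : cart Φ s (Φ.s i s) = 0 := mul_left_cancel₀ w6.ne' (by
      rw [ip_mul_cart, ip_comm, ip_comb c5, w1, w8, c3]; ring)
    have c8 : ∀ μ : F, μ ≠ 0 → S.x k (μ * a) * S.x (Φ.s i s) t ∈ K := fun μ hμ => by
      have hh := h_mem_H S s hμ
      have := hc _ (hS.H_conj_UU hh u1) _ (hS.H_conj_UU hh u2)
      rw [← conj_cm, e1, ← mul_assoc, ← mul_one (S.h s μ * _), ← inv_mul_cancel (S.h s μ), ← mul_assoc,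
        KInv.h_conj_cart hS _ _ hμ, mul_assoc, mul_assoc, ← mul_assoc (S.h s μ), KInv.h_conj_cart hS _ _ hμ, c6, c7]
        at this
      simpa using this
    obtain ⟨c, h3, h4⟩ := hF
    have := mul_mem (c8 _ h4) (inv_mem (c8 _ h3))
    rwa [mul_inv_rev, mul_assoc, mul_inv_cancel_left, ← x_neg, ← S.x_add, show (c + 1) * a + -(c * a) = a by ring]
      at this

theorem gen_two_len [Finite F] (hM : IsTw (idTw S) M) (hF : ∃ e : F, e ≠ 0 ∧ e + 1 ≠ 0) : Gen (idTw S) M := by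
  have h1 : ∀ u ∈ S.U, u ∈ S.U ⊓ M := fun u hu => ⟨hu, hM.mem_of_mem_U hu ⟨U_le_grp S hu, rfl⟩⟩
  refine gen_of_cm hM fun K hb hc => inf_le_left.trans (UU_le S (genb_x hd hM.sharp hF (fun i t => hb i ⟨?_, ?_⟩)
    fun a ha b hb => hc a (h1 a ha) b (h1 b hb)))
  · exact x_mem_UU S (simple_mem_posJ (J := (idTw S).J i) rfl) t
  · exact (h1 _ (x_mem_UU S (Φ.pos_simple i) t)).2

omit hd [Finite ι] in
theorem genb_norm (h : ∀ i j, Φ.d i ≤ 2 * Φ.d j) (r s : ι) : ip Φ r r ≤ 2 * ip Φ s s := by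
  obtain ⟨w, hw, i, rfl⟩ := Φ.exists_eq_apply_simple r
  obtain ⟨w', hw', j, rfl⟩ := Φ.exists_eq_apply_simple s
  rw [ip_apply hw, ip_apply hw', ip_simple_self, ip_simple_self]
  have := h i j
  omega

end Aux

theorem genb_exists {F : Type*} [Fintype F] [DecidableEq F] (s : Finset F) (h : s.card < Fintype.card F) :
    ∃ e, e ∉ s := (Finset.exists_mem_notMem_of_card_lt_card (t := Finset.univ) h).imp fun _ h => h.2

theorem genb_three {F : Type*} [Field F] [Fintype F] (h : 3 ≤ Fintype.card F) : ∃ e : F, e ≠ 0 ∧ e + 1 ≠ 0 := by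
  classical
  obtain ⟨e, he⟩ := genb_exists ({0, -1} : Finset F) (Finset.card_le_two.trans_lt h)
  exact ⟨e, by simpa [add_eq_zero_iff_eq_neg] using he⟩

theorem genb_G2 {F G : Type*} [Field F] [Fintype F] [Group G] (S : MinDeg.GS F G) (h : 4 ≤ Fintype.card F)
    {K : Subgroup G} (h1 : ∀ t u, Stein.cm (S.x 6 t) (S.x 10 u) ∈ K) (h2 : ∀ t u, Stein.cm (S.x 6 t) (S.x 7 u) ∈ K)
    (t : F) : S.x 8 t ∈ K ∧ S.x 9 t ∈ K ∧ S.x 10 t ∈ K ∧ S.x 11 t ∈ K := by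
  classical
  obtain ⟨a, ha⟩ := genb_exists ({0, 1} : Finset F) (Finset.card_le_two.trans_lt (by omega))
  obtain ⟨b, hb⟩ := genb_exists ({0, 1, a} : Finset F) (Finset.card_le_three.trans_lt h)
  simp only [Finset.mem_insert, Finset.mem_singleton, not_or] at ha hb
  have k1 : ∀ t, S.x 11 t ∈ K := fun t => by
    simpa [S.comm 6 10 (by decide) (by decide), MinDeg.tbl] using h1 t 1
  have k2 : ∀ u v, u ≠ 0 → S.x 8 v * (S.x 9 (u * v) * S.x 10 (-(u ^ 2 * v))) ∈ K := fun u v hu => by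
    have := h2 (v / u) u
    simp only [S.comm 6 7 (by decide) (by decide), MinDeg.tbl, List.map_cons, List.map_nil, List.prod_cons,
      List.prod_nil, mul_one, ← mul_assoc] at this
    convert (K.mul_mem_cancel_right (k1 _)).1 this using 1
    rw [← mul_assoc]
    congr 3 <;> field_simp <;> simp
  have k3 : ∀ t u, Commute (S.x 9 t) (S.x 10 u) := fun t u => Stein.cm_eq_one_iff.1 (by
    simp [S.comm 9 10 (by decide) (by decide), MinDeg.tbl])
  have k4 : ∀ u w, u ≠ 0 → u ≠ 1 → S.x 9 w * S.x 10 (-((1 + u) * w)) ∈ K := fun u w hu hu' => by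
    have := mul_mem (inv_mem (k2 1 (w / (u - 1)) one_ne_zero)) (k2 u (w / (u - 1)) hu)
    rw [mul_inv_rev, mul_assoc, inv_mul_cancel_left, mul_inv_rev, ← S.x_neg, ← S.x_neg, mul_assoc,
      ← mul_assoc (S.x 9 _), ← S.add, ← mul_assoc, ← (k3 _ _).eq, mul_assoc, ← S.add] at this
    have := sub_ne_zero.2 hu'
    convert ‹_ * _ ∈ K› using 3 <;> field_simp <;> ring
  have k5 : ∀ t, S.x 10 t ∈ K := fun t => by
    have := mul_mem (inv_mem (k4 a (t / (a - b)) ha.1 ha.2)) (k4 b (t / (a - b)) hb.1 hb.2.1)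
    rw [mul_inv_rev, mul_assoc, inv_mul_cancel_left, ← S.x_neg, ← S.add] at this
    have := sub_ne_zero.2 (Ne.symm hb.2.2)
    convert ‹S.x 10 _ ∈ K› using 2
    field_simp
    ring
  have k6 : ∀ t, S.x 9 t ∈ K := fun t => (K.mul_mem_cancel_right (k5 _)).1 (k4 a t ha.1 ha.2)
  exact ⟨(K.mul_mem_cancel_right (mul_mem (k6 _) (k5 _))).1 (k2 1 t one_ne_zero), k6 t, k5 t, k1 t⟩

open LieAll Twist Weyl RGD

variable {p : ℕ} [Fact p.Prime] {F : Type} [Field F] [Fintype F] [CharP F p] {Ω : Type*}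

theorem btr_psp {m : ℕ} (hm : 2 ≤ m) (hq : 3 ≤ Fintype.card F) [MulAction (PSp m F) Ω] (H : TwoTr (PSp m F) Ω)
    (hp : p ∣ Nat.card Ω) : BTr p (PSp m F) Ω := by
  have h := (good_psp (K := F) (m := m) (by omega)).tw
  refine btr_of_gen_equiv h (gen_two_len (fun r s => ?_) h (genb_three hq)) Subgroup.topEquiv.symm H hp
  rw [Stein.ip_C, Stein.ip_C, ClSys.evBC_dot_self, ClSys.evBC_dot_self]
  rcases r with r | r <;> rcases s with s | s <;> simp

theorem btr_odd {m : ℕ} (hm : 3 ≤ m) (hq : Odd (Fintype.card F)) [MulAction (POmega F (quadFormOdd m F)) Ω]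
    (H : TwoTr (POmega F (quadFormOdd m F)) Ω) (hp : p ∣ Nat.card Ω) : BTr p (POmega F (quadFormOdd m F)) Ω := by
  have h := (good_odd (m := m) (by omega) (OrthE.two_ne_zero_of_odd hq)).tw
  refine btr_of_gen_equiv h (gen_two_len (fun r s => ?_) h (genb_three ?_)) Subgroup.topEquiv.symm H hp
  · rw [LieMult.ip_B, LieMult.ip_B, ClSys.evBC_dot_self, ClSys.evBC_dot_self]
    rcases r with r | r <;> rcases s with s | s <;> simp
  · have := Fintype.one_lt_card (α := F)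
    obtain ⟨k, hk⟩ := hq
    omega

theorem btr_F4 (hq : 3 ≤ Fintype.card F) [MulAction (Lie.chevF4.group F) Ω] (H : TwoTr (Lie.chevF4.group F) Ω)
    (hp : p ∣ Nat.card Ω) : BTr p (Lie.chevF4.group F) Ω :=
  have h := (good_chev (K := F) rtOKF4 connChkF4).tw
  btr_of_gen h (gen_two_len (genb_norm (by decide +kernel)) h (genb_three hq)) H hp

theorem btr_G2 (hq : 4 ≤ Fintype.card F) [MulAction (Lie.chevG2.group F) Ω] (H : TwoTr (Lie.chevG2.group F) Ω)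
    (hp : p ∣ Nat.card Ω) : BTr p (Lie.chevG2.group F) Ω := by
  have h := (good_chev (K := F) rtOKG2 connChkG2).tw
  refine btr_of_gen h (gen_of_cm h fun K hb hc => inf_le_left.trans (UU_le _ fun r hr t => ?_)) H hp
  have h1 : ∀ r : Fin 12, 6 ≤ r → ∀ t, (Chev.stSys rtOKG2 F).x r t ∈ (Chev.stSys rtOKG2 F).U ⊓ Lie.chevG2.group F :=
    fun r hr t => ⟨x_mem_UU _ (Ψ := {r | Semi.ΦG2.Pos r})
      ((show ∀ r : Fin 12, 6 ≤ r → ∀ j, 0 ≤ Semi.ΦG2.rt r j by decide +kernel) r hr) t, Chev.xU_mem_group _ _⟩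
  have h2 := genb_G2 (MinDeg.gsG2 F) hq (K := K.subgroupOf _)
    (fun t u => hc _ (h1 6 (by decide) t) _ (h1 10 (by decide) u))
    (fun t u => hc _ (h1 6 (by decide) t) _ (h1 7 (by decide) u)) t
  have h3 : ∀ i, (Chev.stSys rtOKG2 F).x ((rootSys rtOKG2).simple i) t ∈ K := fun i =>
    hb i ⟨x_mem_UU _ (simple_mem_posJ (J := (ChevAut.idTw (Chev.stSys rtOKG2 F)).J i) rfl) t, Chev.xU_mem_group _ _⟩
  obtain ⟨i, rfl⟩ | rfl | rfl | rfl | rfl := (show ∀ r : Fin 12, (∀ j, 0 ≤ Semi.ΦG2.rt r j) →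
    (∃ i, r = Semi.ΦG2.simple i) ∨ r = 8 ∨ r = 9 ∨ r = 10 ∨ r = 11 by decide +kernel) r hr
  exacts [h3 i, h2.1, h2.2.1, h2.2.2.1, h2.2.2.2]

end CfsgLib.CKS
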