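import Mathlib
import Cfsg.Agent.Lib.F42.Model
import Cfsg.Agent.Lib.F42.Tits

/-! CKS, packages GENF and TF4: the coordinates of `²F₄(q)` inside the Chevalley group. -/

set_option autoImplicit false
set_option Elab.async false

namespace CfsgLib.CKS.TF

open Cfsg.Lie CfsgLib.Chev CfsgLib.Stein CfsgLib.Twist CfsgLib.RGD CfsgLib.ChevInv CfsgLib.F42 Subgroup
open CfsgLib.Weyl hiding wd

variable {K : Type*} [Field K] {σ : K →+* K}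

local notation "n₁" => wd chevF4 K w1
local notation "n₈" => wd chevF4 K w8

theorem conj_gm_mem {d : GL chevF4.Idx K} {f : ℕ → ℕ}
    (hd : ∀ s < 48, ∀ t, d * xU chevF4 K s t * d⁻¹ = xU chevF4 K (f s) t) {Ψ : Set (Fin chevF4.nroots)} {j : Fin 12}
    (h : ∀ p ∈ gw j, ∃ r ∈ Ψ, (r : ℕ) = f p.1) (t : K) : d * gm σ j t * d⁻¹ ∈ (stSys rtOKF4 K).UU Ψ := by
  rw [gm, wordU, ← MulAut.conj_apply, map_list_prod]
  refine list_prod_mem fun x hx => ?_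
  simp only [List.map_map, List.mem_map] at hx
  obtain ⟨p, hp, rfl⟩ := hx
  obtain ⟨r, hr, e⟩ := h p hp
  simp only [Function.comp, MulAut.conj_apply]
  rw [hd _ (gw_lt j p hp), ← e]
  exact (stSys rtOKF4 K).x_mem_UU hr _

theorem gm_mem {Ψ : Set (Fin chevF4.nroots)} {j : Fin 12} (h : ∀ p ∈ gw j, ∃ r ∈ Ψ, (r : ℕ) = p.1) (t : K) :
    gm σ j t ∈ (stSys rtOKF4 K).UU Ψ := by
  simpa using conj_gm_mem (σ := σ) (d := 1) (f := id) (by simp) h t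

theorem gm_mem_U (j : Fin 12) (t : K) : gm σ j t ∈ (stSys rtOKF4 K).U :=
  gm_mem (by simp only [Set.mem_ofPred_eq, pos_iff_le]; revert j; decide +kernel) t

variable [Fintype K]

theorem exists_op {m : ℕ} (hK : Fintype.card K = 2 ^ (2 * m + 1)) : ∃ (_ : CharP K 2) (θ : K →+* K)
    (_ : ∀ t, θ t = t ^ 2 ^ m) (_ : ∀ t, θ (θ t) ^ 2 = t) (σ : K →+* K) (sz : Sz K)
    (O : OP σ sz (twistedF4 K (2 ^ m))), O.Braid ∧ O.G0 = ⊤ ∧ (∀ j t, (O.g j t : GL chevF4.Idx K) = gm σ j t) ∧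
      (O.n8 : GL chevF4.Idx K) = n₈ ∧ (O.n1 : GL chevF4.Idx K) = n₁ ∧
      ∀ l, (O.h8 l : GL chevF4.Idx K) ∈ (stSys rtOKF4 K).H := by
  obtain ⟨_, θ, he, hθ⟩ := exists_theta hK
  obtain ⟨σ, hσ⟩ : ∃ σ : K →+* K, ∀ t, σ t = θ t ^ 2 := ⟨(frobenius K 2).comp θ, fun _ => rfl⟩
  choose! sz h1 using fun s u hs => exists_suz he hθ hσ (s := s) (u := u) hs
  have h3 := opM_G0 he hθ hσ sz h1
  refine ⟨‹_›, θ, he, hθ, σ, sz, (opM he hθ hσ sz h1).sub _ h3.le, Subtype.ext ?_, OP.sub_G0 _ _ _ h3.ge,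
    fun _ _ => rfl, rfl, rfl, fun l => hm_mem _ _⟩
  change (n₁ * n₈) ^ 8 = 1
  simp only [pow_succ, pow_zero, one_mul, ← wd_append]
  exact wd_eq (l' := []) (by decide +kernel)

theorem model {m : ℕ} (hK : Fintype.card K = 2 ^ (2 * m + 1)) : ∃ (σ : K →+* K) (sz : Sz K)
    (O : OP σ sz (twistedF4 K (2 ^ m))), O.Braid ∧ O.G0 = ⊤ ∧ (O.n8 * O.g 11 1) ^ 5 = 1 ∧
      (∀ y ∈ O.Q, (O.n8 * O.n1) ^ 4 * y * ((O.n8 * O.n1) ^ 4)⁻¹ ∈ O.C → y = 1) ∧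
      Nat.card (twistedF4 K (2 ^ m)) = Fintype.card K ^ 12 * (Fintype.card K - 1) *
        (Fintype.card K ^ 3 + 1) * (Fintype.card K ^ 4 - 1) * (Fintype.card K ^ 6 + 1) := by
  obtain ⟨_, θ, he, hθ, σ, sz, O, hb, hG, eg, e8, e1, eh⟩ := exists_op hK
  refine ⟨σ, sz, O, hb, hG, Subtype.ext ?_, fun y hy hC => ?_, cardF4 he hθ⟩
  · rw [coe_pow, coe_mul, e8, eg, show gm σ 11 1 = wd chevF4 K [28, 30] by simp [gm, gw, wordU, wd]]
    simp only [pow_succ, pow_zero, one_mul, ← wd_append]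
    exact wd_eq (l' := []) (by decide +kernel)
  have l1 : ∀ s < 48, r1 s < 48 ∧ r8 (r1 s) < 48 := by decide +kernel
  have c1 : ∀ s < 48, ∀ t, n₈ * n₁ * xU chevF4 K s t * (n₈ * n₁)⁻¹ = xU chevF4 K (r8 (r1 s)) t := fun s hs t => by
    rw [← n8_x (l1 s hs).1, ← n1_x hs]; group
  have c4 : ∀ k : ℕ, ∀ s < 48, (r8 ∘ r1)^[k] s < 48 ∧
      ∀ t, (n₈ * n₁) ^ k * xU chevF4 K s t * ((n₈ * n₁) ^ k)⁻¹ = xU chevF4 K ((r8 ∘ r1)^[k] s) t := fun k => by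
    induction k with
    | zero => exact fun s hs => ⟨hs, by simp⟩
    | succ k ih => exact fun s hs => ⟨(ih _ (l1 s hs).2).1, fun t => by
        rw [Function.iterate_succ_apply, Function.comp, ← (ih _ (l1 s hs).2).2, ← c1 s hs, pow_succ]; group⟩
  have hP : O.C ≤ ((stSys rtOKF4 K).P (symF4.J 1)).subgroupOf _ := by
    have hB := (stSys rtOKF4 K).B_le_P (symF4.J 1)
    have hn : ∀ i : Fin 4, ndF4 i ∈ symF4.J 1 → nU chevF4 K (chevF4.simple i) 1 ∈ (stSys rtOKF4 K).P (symF4.J 1) :=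
      fun i hi => mem_sup_right (subset_closure ⟨ndF4 i, hi, rfl⟩)
    have h1 := hn 1 (by rw [Sym.mem_J]; decide +kernel)
    have h2 := hn 2 (by rw [Sym.mem_J]; decide +kernel)
    refine sup_le (sup_le (O.pat_le.2 fun j _ t => ?_) ?_) (zpowers_le.2 ?_)
    · exact mem_subgroupOf.2 (hB ((stSys rtOKF4 K).U_le_B (eg j t ▸ gm_mem_U j t)))
    · rintro _ ⟨l, rfl⟩
      exact mem_subgroupOf.2 (hB ((stSys rtOKF4 K).H_le_B (eh l)))
    · rw [mem_subgroupOf, e8, wd_w8]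
      exact mul_mem h1 (mul_mem h2 (mul_mem h1 h2))
  have hV := O.conj_pat (x := (O.n8 * O.n1) ^ 4) (P := ((stSys rtOKF4 K).UU
      {r | (rootSys rtOKF4).Neg r ∧ ¬ (rootSys rtOKF4).InSub (symF4.J 1) r}).subgroupOf _) (fun j hj t => by
    rw [mem_subgroupOf, coe_mul, coe_mul, coe_inv, coe_pow, coe_mul, e8, e1, eg]
    refine conj_gm_mem (fun s hs => (c4 4 s hs).2) (fun p hp => ?_) t
    obtain ⟨r, h1, h2, h3⟩ : ∃ r : Fin chevF4.nroots, ¬ chevF4.nroots ≤ 2 * (r : ℕ) ∧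
        chevF4.neg r ∉ [25, 27, 28, 30] ∧ (r : ℕ) = (r8 ∘ r1)^[4] p.1 := by
      revert p j; decide +kernel
    have h4 := (rootSys rtOKF4).neg_iff_not_pos.2 (mt (pos_iff_le r).1 h1)
    exact ⟨r, ⟨h4, fun k => h2 ((posJF4_1 _).1 ⟨(rootSys rtOKF4).pos_neg_iff.2 h4,
      (rootSys rtOKF4).inSub_neg_iff.2 k⟩)⟩, h3⟩) hy
  exact conj_eq_one_iff.1 (Subtype.ext ((sharp_stSys rtOKF4 K).nondeg.eq_one_of_mem_P hV (hP hC)))

end CfsgLib.CKS.TF
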