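import Mathlib
import Cfsg.Agent.Lib.CKS.How2
import Cfsg.Agent.Lib.CKS.TF4a

/-! CKS, package GENF: the large Ree groups. -/

namespace CfsgLib.CKS
open Cfsg MulAction

open F42 in
theorem TF.gen_U {K G : Type*} [Field K] [Finite K] [Group G] [Finite G] {σ : K →+* K} {sz : F42.Sz K}
    (O : OC σ sz G) (hq : Big K) : O.U ≤ O.pat [0, 10, 11] := by
  have : Fact (Nat.Prime 2) := ⟨Nat.prime_two⟩
  refine le_of_chars (O.isPGroup_pat _) (O.pat_le_U _) fun l hl => ?_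
  let y : Fin 12 → K → O.U := fun j t => ⟨O.g j t, O.g_mem_U j t⟩
  have ce : ∀ L, ((ev y L : O.U) : G) = ev O.g L := fun L => by simp [ev, y, Function.comp_def]
  have le : ∀ L, l (ev y L) = (L.map fun p => l (y p.1 p.2)).prod := fun L => by
    simp [ev, map_list_prod, Function.comp_def]
  have rel : ∀ j k, j < k → ∀ t u, ((cw σ j k t u).map fun p => l (y p.1 p.2)).prod = 1 := fun j k h t u => by
    have : y k u * y j t = y j t * (ev y (cw σ j k t u) * y k u) :=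
      Subtype.ext (by simpa only [Subgroup.coe_mul, ce] using O.rel j k h t u)
    have := congrArg l this
    rwa [map_mul, map_mul, map_mul, le, mul_comm, mul_right_inj, eq_comm, mul_eq_right] at this
  have h0 : ∀ t, l (y 0 t) = 1 := fun t => hl _ (O.g_mem (by decide) t)
  have h10 : ∀ t, l (y 10 t) = 1 := fun t => hl _ (O.g_mem (by decide) t)
  have h11 : ∀ t, l (y 11 t) = 1 := fun t => hl _ (O.g_mem (by decide) t)
  have h2 : ∀ t, l (y 2 t) = 1 := fun t => by simpa [cw, cwT, mon] using rel 0 4 (by decide) t 1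
  have h3 : ∀ t, l (y 3 t) = 1 := fun t => by simpa [cw, cwT, mon] using rel 1 4 (by decide) t 1
  have h5 : ∀ t, l (y 5 t) = 1 := fun t => by simpa [cw, cwT, mon] using rel 0 8 (by decide) t 1
  have h6 : ∀ t, l (y 6 t) = 1 := fun t => by simpa [cw, cwT, mon] using rel 4 7 (by decide) t 1
  have h8 : ∀ t, l (y 8 t) = 1 := fun t => by simpa [cw, cwT, mon] using rel 4 9 (by decide) t 1
  have h9 : ∀ t, l (y 9 t) = 1 := fun t => by simpa [cw, cwT, mon] using rel 7 10 (by decide) t 1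
  have a7 : ∀ t u, l (y 7 (t + u)) = l (y 7 t) * l (y 7 u) := fun t u => by
    rw [← map_mul, show y 7 t * y 7 u = y 7 (t + u) * y 8 (t * σ u) from Subtype.ext (O.a7 t u), map_mul, h8, mul_one]
  have e1 : ∀ t u, l (y 4 (σ t * u)) * l (y 7 (t * u)) = 1 := fun t u => by
    simpa [cw, cwT, mon, h2, h3, h5, h6, h9] using rel 0 11 (by decide) t u
  have e2 : ∀ t u, l (y 4 (σ t * u)) * l (y 7 (t * σ u)) = 1 := fun t u => by
    simpa [cw, cwT, mon, h3, h5] using rel 1 10 (by decide) t u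
  have h7 : ∀ t, l (y 7 t) = 1 := fun t => by
    obtain ⟨u, u0, u1⟩ := hq
    have hu : σ u - u ≠ 0 := fun e => (O.fix_sig (sub_eq_zero.1 e)).elim u0 u1
    have := mul_left_cancel ((e2 (t / (σ u - u)) u).trans (e1 _ u).symm)
    rwa [show t / (σ u - u) * σ u = t + t / (σ u - u) * u by field_simp; ring, a7, mul_eq_right] at this
  have h4 : ∀ t, l (y 4 t) = 1 := fun t => by simpa [h7] using e1 1 t
  have h1 : ∀ t, l (y 1 t) = 1 := fun t => by
    simpa [cw, cwT, mon, h3, h5, h6, h7, h8, h9] using rel 0 10 (by decide) t 1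
  refine MonoidHom.ext fun x => (Subgroup.mem_map_iff_mem (K := l.ker) O.U.subtype_injective).1
    ((O.pat_le (P := l.ker.map O.U.subtype)).2 (fun j _ t => Subgroup.mem_map.2 ⟨y j t, ?_, rfl⟩) x.2)
  fin_cases j
  exacts [h0 t, h1 t, h2 t, h3 t, h4 t, h5 t, h6 t, h7 t, h8 t, h9 t, h10 t, h11 t]

variable {F : Type} [Field F] [Fintype F] {Ω : Type*}

open F42 Twist RGD LieAll Chev in
theorem btr_2F4 {m : ℕ} (hm : 1 ≤ m) (hF : Fintype.card F = 2 ^ (2 * m + 1)) [MulAction (Lie.twistedF4 F (2 ^ m)) Ω]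
    (H : TwoTr (Lie.twistedF4 F (2 ^ m)) Ω) (hp : 2 ∣ Nat.card Ω) : BTr 2 (Lie.twistedF4 F (2 ^ m)) Ω := by
  obtain ⟨_, θ, he, hθ, σ, sz, O, hb, hG, eg, -⟩ := TF.exists_op hF
  have hM := isTwF4 he hθ
  refine btr_of_gen hM (fun x hx => ?_) H hp
  have e := O.syl_G0 hb (hM.sylow 2).isPGroup' (hG ▸ le_top)
    (O.pat_le.2 fun j _ t => (hM.mem_sylow 2).2 (eg j t ▸ TF.gm_mem_U j t))
  refine Subgroup.mem_subgroupOf.1 ((TF.gen_U O.toOC (Sz.exists_ne_zero_one hm hF)).trans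
    (O.pat_le.2 fun j hj t => ?_) (e.le ((hM.mem_sylow 2 (g := ⟨x, hx.2⟩)).2 hx.1)))
  obtain ⟨b, hb⟩ : ∃ b, ∀ p ∈ gw j, ∃ r ∈ posJ (Weyl.rootSys Weyl.rtOKF4) (symF4.J b),
      ((r : Fin Lie.chevF4.nroots) : ℕ) = p.1 := by
    simp only [Fin.exists_fin_two, posJF4_0, posJF4_1]
    revert j
    decide +kernel
  refine Subgroup.mem_subgroupOf.2 (Subgroup.mem_iSup_of_mem b (Subgroup.mem_inf.2 ⟨?_, (O.g j t).2⟩))
  rw [eg]; exact TF.gm_mem hb t

end CfsgLib.CKS
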