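import Mathlib
import Cfsg.Agent.Lib.CKS.Abs2
import Cfsg.Agent.Lib.CKS.Abs3
import Cfsg.Agent.Lib.Classical.SLCard
import Cfsg.Agent.Lib.Classical.SLBasic
import Cfsg.Agent.S2299
import Cfsg.Agent.S2300
import Cfsg.Agent.S0806
import Cfsg.Agent.S0252
import Cfsg.Agent.S0253
import Cfsg.Agent.S0255

/-! CKS, package PSL2. -/

namespace CfsgLib.CKS
open Cfsg MulAction

namespace Psl2P

variable {G : Type*} [Group G] {Ω : Type*} [MulAction G Ω]

theorem center_bot [IsSimpleGroup G] (H : TwoTr G Ω) : Subgroup.center G = ⊥ := by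
  refine (Subgroup.Normal.eq_bot_or_eq_top inferInstance).resolve_right fun h => ?_
  have h1 := H.mul_pred_dvd
  rw [h, Subgroup.index_top, Nat.dvd_one] at h1
  have := Nat.eq_one_of_mul_eq_one_right h1
  have := H.big
  omega

theorem dvd_fact [IsSimpleGroup G] (H : TwoTr G Ω) : Nat.card G ∣ (Nat.card Ω).factorial := by
  have := H.finite
  rw [← Nat.card_perm]
  refine Subgroup.card_dvd_of_injective (toPermHom G Ω) ((injective_iff_map_eq_one _).2 fun g hg => ?_)
  exact Subgroup.mem_bot.1 ((center_bot H).le (H.ker g fun a => congrArg (fun f : Equiv.Perm Ω => f a) hg))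

theorem not9 [IsSimpleGroup G] (H : TwoTr G Ω) (h : Nat.card G = 360) : Nat.card Ω ≠ 9 := by
  intro hn
  have : Fact (Nat.Prime 5) := ⟨by norm_num⟩
  have : Finite G := Nat.finite_of_card_ne_zero (by omega)
  have := H.finite
  obtain ⟨Q⟩ : Nonempty (Sylow 5 G) := inferInstance
  have hQ : Nat.card Q = 5 := by
    rw [Q.card_eq_multiplicity, h, show 360 = 5 ^ 1 * 72 by norm_num,
      Nat.factorization_mul (by norm_num) (by norm_num), Nat.Prime.factorization_pow (by norm_num)]
    simp [Nat.factorization_eq_zero_of_not_dvd (show ¬ 5 ∣ 72 by norm_num)]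
  obtain ⟨a, ha⟩ := Q.2.nonempty_fixed_point_of_prime_not_dvd_card Ω (by rw [hn]; norm_num)
  have le : Q.1 ≤ stabilizer G a := fun g hg => ha ⟨g, hg⟩
  have hi : (stabilizer G a).index = 9 := (H.index_stab a).trans hn
  have hK : Nat.card (stabilizer G a) = 40 := by
    have := (stabilizer G a).index_mul_card; rw [hi, h] at this; omega
  have h1 : Nat.card (Sylow 5 (stabilizer G a)) = 1 := by
    have h2 := card_sylow_modEq_one 5 (stabilizer G a)
    have h3 := (Q.subtype le).card_dvd_index.trans (Subgroup.index_dvd_card _)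
    rw [hK] at h3
    have := Nat.le_of_dvd (by norm_num) h3
    generalize Nat.card (Sylow 5 (stabilizer G a)) = k at *
    unfold Nat.ModEq at h2
    interval_cases k <;> omega
  have := (Nat.card_eq_one_iff_unique.1 h1).1
  have h4 : stabilizer G a ≤ Subgroup.normalizer (Q.1 : Set G) :=
    (Subgroup.normal_subgroupOf_iff_le_normalizer le).1 (Q.subtype le).normal_of_subsingleton
  have h5 := Subgroup.index_dvd_of_le h4
  have h6 := card_sylow_modEq_one 5 G
  rw [Q.card_eq_index_normalizer] at h6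
  have h7 : (Subgroup.normalizer (Q.1 : Set G)).index = 1 := by
    rw [hi] at h5
    have := Nat.le_of_dvd (by norm_num) h5
    change (Subgroup.normalizer (Q.1 : Set G)).index % 5 = 1 % 5 at h6
    generalize (Subgroup.normalizer (Q.1 : Set G)).index = k at *
    interval_cases k <;> omega
  rcases (Subgroup.normalizer_eq_top_iff.1 (Subgroup.index_eq_one.1 h7)).eq_bot_or_eq_top with e | e
  · rw [e, Subgroup.card_bot] at hQ; omega
  · rw [e, Subgroup.card_top] at hQ; omega

end Psl2P

variable {F : Type} [Field F] [Fintype F] {Ω : Type*}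

theorem psl2 (hq : 4 ≤ Fintype.card F) [MulAction (PSL 2 F) Ω] (H : TwoTr (PSL 2 F) Ω) :
    Concl (PSL 2 F) (Nat.card Ω) := by
  have := Classical.psl_fin_isSimpleGroup (F := F) 2 le_rfl fun _ => hq
  have h1 := H.mul_pred_dvd.trans (Subgroup.index_dvd_card _)
  have h2 := Psl2P.dvd_fact H
  have h3 : _ * Nat.card (PSL 2 F) = _ := Classical.psl2_card_mul (F := F)
  have h9 := Psl2P.not9 H
  have hb := H.big
  have := H.finite
  have hχ := Char.isIrr_comp_of_surjective (QuotientGroup.mk' _) (QuotientGroup.mk'_surjective _) H.isIrr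
  have hn : Nat.card Ω = Fintype.card F + 1 ∨ Nat.card Ω = Fintype.card F + 2 ∨ Nat.card Ω = Fintype.card F ∨
      Nat.card Ω = (Fintype.card F + 1) / 2 + 1 ∨ Nat.card Ω = (Fintype.card F - 1) / 2 + 1 := by
    have k : ∀ m : ℕ, (Nat.card Ω : ℂ) - 1 = m → Nat.card Ω = m + 1 := fun m h => by
      exact_mod_cast sub_eq_iff_eq_add.1 h
    rcases Nat.even_or_odd (Fintype.card F) with h | h
    · have : CharP F 2 := by
        rw [← FiniteField.even_card_iff_char_two.2 (Nat.even_iff.1 h)]; infer_instance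
      have h4 := (Agent.S2300.result (F := F)).1 _ hχ
      simp only [map_one, fx_one] at h4
      rcases h4 with h4 | h4 | h4 | h4
      · have := k 1 (by simpa using h4); omega
      · exact .inr (.inr (.inl (by exact_mod_cast sub_left_inj.1 h4)))
      · exact .inl (k _ h4)
      · exact .inr (.inl (k (_ + 1) (by exact_mod_cast h4)))
    · have h4 := (Agent.S2299.result h).1 _ hχ
      simp only [map_one, fx_one] at h4
      rcases h4 with h4 | h4 | h4 | h4 | h4 | h4
      · have := k 1 (by simpa using h4); omega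
      · exact .inl (k _ h4)
      · exact .inr (.inl (k (_ + 1) (by exact_mod_cast h4)))
      · exact .inr (.inr (.inl (by exact_mod_cast sub_left_inj.1 h4)))
      · exact .inr (.inr (.inr (.inl (k _ h4))))
      · exact .inr (.inr (.inr (.inr (k _ h4))))
  by_cases hm : Nat.card Ω = Fintype.card F + 1
  · exact .inr (.inl ⟨F, _, _, hq, ⟨.refl _⟩, hm⟩)
  have : Fact (Nat.Prime 5) := ⟨by norm_num⟩
  by_cases hq' : Fintype.card F ∈ ({2, 3, 5, 7, 9, 11} : Finset ℕ)
  swap
  · have h4 := H.le_card (Agent.S0806.result rfl hq').1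
    have h5 : Nat.card Ω = Fintype.card F + 2 := by omega
    have h6 : Fintype.card F + 2 ∣ Fintype.card F * (Fintype.card F ^ 2 - 1) := by
      rw [← h3, ← h5]; exact ((dvd_mul_right _ _).trans h1).mul_left _
    have h7 : Fintype.card F = 4 := by
      obtain ⟨q, hq⟩ : ∃ q, Fintype.card F = q + 2 := ⟨_, (Nat.sub_add_cancel (by omega)).symm⟩
      rw [hq, show (q + 2) * ((q + 2) ^ 2 - 1) = (q + 2 + 2) * (q ^ 2 + 2 * q + 3) - 6 by
        rw [show (q + 2) ^ 2 = q ^ 2 + 4 * q + 3 + 1 by ring, Nat.add_sub_cancel]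
        exact (Nat.sub_eq_of_eq_add (by ring)).symm] at h6
      have := Nat.le_of_dvd (by norm_num)
        ((Nat.dvd_sub_iff_right (by nlinarith) (dvd_mul_right _ _)).1 h6)
      omega
    obtain ⟨e⟩ := Agent.S0252.result h7
    obtain ⟨e'⟩ := Agent.S0253.result (ZMod.card 5)
    exact .inr (.inl ⟨ZMod 5, _, _, by rw [ZMod.card]; norm_num, ⟨e.trans e'.symm⟩, by rw [h5, h7, ZMod.card]⟩)
  simp only [Finset.mem_insert, Finset.mem_singleton] at hq'
  rcases hq' with h | h | h | h | h | h <;> rw [h] at h3 hn hm hq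
  · omega
  · omega
  · have h4 : Nat.card (PSL 2 F) = 60 := by
      generalize Nat.card (PSL 2 F) = k at h3
      norm_num at h3; omega
    rw [h4] at h1 h2
    have h5 : Nat.card Ω = 5 := by
      rcases hn with h | h | h | h | h <;> rw [h] at h1 h2 hm ⊢ <;> simp_all [Nat.factorial]
    let _ := Fintype.ofFinite (GaloisField 2 2)
    have h6 : Fintype.card (GaloisField 2 2) = 4 := by
      rw [← Nat.card_eq_fintype_card, GaloisField.card 2 2 (by norm_num)]; rfl
    obtain ⟨e⟩ := Agent.S0253.result h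
    obtain ⟨e'⟩ := Agent.S0252.result h6
    exact .inr (.inl ⟨GaloisField 2 2, _, _, h6.ge, ⟨e.trans e'.symm⟩, by rw [h5, h6]⟩)
  · have h4 : Nat.card (PSL 2 F) = 168 := by
      generalize Nat.card (PSL 2 F) = k at h3
      norm_num at h3; omega
    rw [h4] at h1 h2
    have h5 : Nat.card Ω = 7 := by
      rcases hn with h | h | h | h | h <;> rw [h] at h1 h2 hm ⊢ <;> simp_all [Nat.factorial]
    obtain ⟨e⟩ := Agent.S0255.result h (ZMod.card 2)
    exact .inl ⟨ZMod 2, _, _, 3, le_rfl, ⟨e⟩, by rw [h5, ZMod.card]; rfl⟩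
  · have h4 : Nat.card (PSL 2 F) = 360 := by
      generalize Nat.card (PSL 2 F) = k at h3
      norm_num at h3; omega
    replace h9 := h9 h4
    rw [h4] at h1 h2
    have h5 : Nat.card Ω = 6 := by
      rcases hn with h | h | h | h | h <;> rw [h] at h1 h2 hm h9 ⊢ <;> simp_all [Nat.factorial]
    exact .inr (.inr (.inr (.inr (.inr (.inl ⟨F, _, _, h, ⟨.refl _⟩, h5⟩)))))
  · have h4 : Nat.card (PSL 2 F) = 660 := by
      generalize Nat.card (PSL 2 F) = k at h3
      norm_num at h3; omega
    rw [h4] at h1 h2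
    have h5 : Nat.card Ω = 11 := by
      rcases hn with h | h | h | h | h <;> rw [h] at h1 h2 hm ⊢ <;> simp_all [Nat.factorial]
    exact .inr (.inr (.inr (.inr (.inr (.inr (.inl ⟨F, _, _, h, ⟨.refl _⟩, h5⟩))))))

end CfsgLib.CKS
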