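import Mathlib
import Cfsg.Agent.Lib.CKS.Psl2
import Cfsg.Agent.S2140

/-! CKS, the linear groups: common lemmas on `SL(V)`. -/

set_option linter.unusedSectionVars false

namespace CfsgLib.CKS.LinB
open Cfsg MulAction CfsgLib.MinIdx CfsgLib.MinIdx.SL CfsgLib.ClMax Module

theorem lift {F : Type} [Field F] [Fintype F] {Ω : Type*} {d : ℕ} (hd : 3 ≤ d) [MulAction (PSL d F) Ω]
    (H : TwoTr (PSL d F) Ω) : ∃ _ : MulAction (SLV F (Fin d → F)) Ω, TwoTr (SLV F (Fin d → F)) Ω ∧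
      ∀ (p : ℕ) [Fact p.Prime], BTr p (PSL d F) Ω → BTr p (SLV F (Fin d → F)) Ω := by
  have := Classical.psl_fin_isSimpleGroup (F := F) d (by omega) fun _ => by omega
  have := finite_SLV (F := F) (V := Fin d → F)
  let f : SLV F (Fin d → F) →* PSL d F := (QuotientGroup.mk' _).comp (Agent.S2140.e F d).symm.toMonoidHom
  have hf : Function.Surjective f := (QuotientGroup.mk'_surjective _).comp (Agent.S2140.e F d).symm.surjective
  letI := MulAction.compHom Ω f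
  refine ⟨this, H.lift f hf (fun _ _ => rfl) fun g hg => ?_, fun p _ hB => hB.lift f hf fun _ _ => rfl⟩
  rw [Psl2P.center_bot H] at hg
  have h1 := (QuotientGroup.eq_one_iff _).1 hg
  refine Subgroup.mem_center_iff.2 fun a => (Agent.S2140.e F d).symm.injective ?_
  rw [map_mul, map_mul]
  exact Subgroup.mem_center_iff.1 h1 _

variable {F : Type*} [Field F] {V : Type*} [AddCommGroup V] [Module F V] [FiniteDimensional F V] [Finite F]

/-- the transvections with centre `x` -/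
noncomputable def R (F : Type*) [Field F] [Module F V] [FiniteDimensional F V] (x : V) : Subgroup (SLV F V) :=
  (fam F x).hom.range

theorem mem_R {x : V} {g : SLV F V} : g ∈ R F x ↔ ∃ φ : Dual F V, φ x = 0 ∧ g = tv x φ :=
  ⟨fun ⟨a, h⟩ => ⟨_, (Multiplicative.toAdd a).2, h.symm⟩, fun ⟨φ, h, e⟩ => ⟨Multiplicative.ofAdd ⟨φ, h⟩, e.symm⟩⟩

theorem tv_mem {x : V} {φ : Dual F V} (h : φ x = 0) : tv x φ ∈ R F x := mem_R.2 ⟨φ, h, rfl⟩

theorem tv_zero (x : V) : tv x (0 : Dual F V) = 1 := (fam F x).t_zero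

theorem tv_smul {x : V} {φ : Dual F V} (h : φ x = 0) (c : F) : tv (c • x) φ = tv x (c • φ) := ext' fun u => by
  rw [tv_apply (by simp [h]), tv_apply (by simp [h]), smul_smul, LinearMap.smul_apply, smul_eq_mul, mul_comm]

theorem conj_R {x : V} {g : SLV F V} (hg : g ∈ lineStab (SLV F V).subtype x) : ∀ z ∈ R F x, g * z * g⁻¹ ∈ R F x := by
  obtain ⟨c, c0, hc⟩ := hg
  have hc' : g.1 x = c • x := hc
  intro z hz
  obtain ⟨φ, h, rfl⟩ := mem_R.1 hz
  have h1 : tr g φ x = 0 := by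
    have := tr_apply g φ x
    rw [hc', map_smul, h, smul_eq_zero] at this
    exact this.resolve_left c0
  rw [conj_tv g h, hc', tv_smul h1]
  exact tv_mem (by simp [h1])

theorem tr_mul (g h : SLV F V) (φ : Dual F V) : tr (g * h) φ = tr g (tr h φ) := by
  rw [← dualRep_apply, map_mul]; rfl

theorem ex_one {φ : Dual F V} (hφ : φ ≠ 0) : ∃ v, φ v = 1 := by
  obtain ⟨v, hv⟩ := DFunLike.ne_iff.1 hφ
  exact ⟨(φ v)⁻¹ • v, by rw [map_smul, smul_eq_mul, inv_mul_cancel₀ hv]⟩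

theorem exists_fix_dual (h3 : 3 ≤ finrank F V) {x : V} {φ ψ : Dual F V} (h : φ ≠ 0) (h' : ψ ≠ 0) (hx : φ x = 0)
    (hx' : ψ x = 0) : ∃ g : SLV F V, g.1 x = x ∧ tr g φ = ψ := by
  have key : ∀ φ ψ : Dual F V, φ ≠ 0 → φ x = 0 → ψ x = 0 → (∃ w, φ w = 0 ∧ ψ w ≠ 0) →
      ∃ g : SLV F V, g.1 x = x ∧ tr g φ = ψ := by
    rintro φ ψ h hx hx' ⟨w, h1, h2⟩
    obtain ⟨v, hv⟩ := ex_one h
    obtain ⟨v, a1, a2⟩ : ∃ v, φ v = 1 ∧ ψ v = 1 :=
      ⟨v + ((1 - ψ v) / ψ w) • w, by simp [hv, h1], by simp [h2]⟩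
    have h4 : (φ - ψ) v = 0 := by simp [a1, a2]
    refine ⟨tv v (φ - ψ), by rw [tv_apply h4]; simp [hx, hx'], LinearMap.ext fun u => ?_⟩
    obtain ⟨u, rfl⟩ := (tv v (φ - ψ)).1.surjective u
    rw [tr_apply, tv_apply h4]
    simp [a2]
  by_cases h1 : ∃ w, φ w = 0 ∧ ψ w ≠ 0
  · exact key φ ψ h hx hx' h1
  push Not at h1
  obtain ⟨c, rfl⟩ := dual_eq_smul_of_ker h1
  obtain ⟨v, hv⟩ := ex_one h
  obtain ⟨z, hz⟩ := exists_notMem_pair h3 x v
  obtain ⟨χ, c1, c2⟩ := notMem_span_iff.1 hz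
  have c3 := c2 x (by simp)
  have c4 := c2 v (by simp)
  obtain ⟨g, a1, a2⟩ := key φ χ h hx c3 ⟨z - φ z • v, by simp [hv], by simp [c1, c4]⟩
  obtain ⟨g', b1, b2⟩ := key χ (c • φ) (by rintro rfl; simp at c1) c3 hx'
    ⟨v, c4, by simpa [hv] using left_ne_zero_of_smul h'⟩
  exact ⟨g' * g, by rw [mul_apply', a1, b1], by rw [tr_mul, a2, b2]⟩

theorem tr_ne_zero (g : SLV F V) {φ : Dual F V} (h : φ ≠ 0) : tr g φ ≠ 0 :=
  (dualRep F V g).map_ne_zero_iff.2 h

theorem exists_pair_map (h3 : 3 ≤ finrank F V) {x x' : V} {φ ψ : Dual F V} (h0 : x ≠ 0) (h0' : x' ≠ 0)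
    (h : φ ≠ 0) (h' : ψ ≠ 0) (hx : φ x = 0) (hx' : ψ x' = 0) : ∃ g : SLV F V, g.1 x = x' ∧ tr g φ = ψ := by
  obtain ⟨g, rfl⟩ := exists_map h3 h0 h0'
  obtain ⟨g', a1, a2⟩ := exists_fix_dual h3 (tr_ne_zero g h) h' (by rw [tr_apply, hx]) hx'
  exact ⟨g' * g, by rw [mul_apply', a1], by rw [tr_mul, a2]⟩

/-- the stabiliser of a vector -/
def vStab {G M : Type*} [Group G] [AddCommGroup M] [Module F M] (ρ : G →* (M ≃ₗ[F] M)) (v : M) : Subgroup G :=
  (stabilizer (M ≃ₗ[F] M) v).comap ρ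

variable {p : ℕ} [hp : Fact p.Prime] [CharP F p]

theorem dvd_card : p ∣ Nat.card F := by
  have := Fintype.ofFinite F
  obtain ⟨k, -, hk⟩ := FiniteField.card F p
  rw [Nat.card_eq_fintype_card, hk]
  exact dvd_pow_self p k.ne_zero

theorem card_pow : ∃ k, Nat.card F = p ^ k := by
  have := Fintype.ofFinite F
  obtain ⟨k, -, hk⟩ := FiniteField.card F p
  exact ⟨k, Nat.card_eq_fintype_card.trans hk⟩

theorem dvd_card_sub {M : Type*} [AddCommGroup M] [Module F M] [FiniteDimensional F M] {W : Submodule F M}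
    (h : W ≠ ⊥) : p ∣ Nat.card W := by
  rw [Module.natCard_eq_pow_finrank (K := F)]
  exact dvd_card.trans (dvd_pow_self _ fun e => h (Submodule.finrank_eq_zero.1 e))

theorem not_dvd_index {G M : Type*} [Group G] [AddCommGroup M] [Module F M] [FiniteDimensional F M]
    (ρ : G →* (M ≃ₗ[F] M)) {v : M} (W : Submodule F M) (h : ∀ u, (∃ g, ρ g v = u) ↔ u ∈ W ∧ u ≠ 0) :
    ¬ p ∣ (vStab ρ v).index := by
  let := MulAction.compHom M ρ
  have : Finite M := Module.finite_of_finite F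
  have h1 : orbit G v = (W : Set M) \ {0} := Set.ext h
  have h2 := (h v).1 ⟨1, by simp⟩
  have h3 := dvd_card_sub (p := p) (W := W) fun e => h2.2 (e.le h2.1)
  rw [show vStab ρ v = stabilizer G v from rfl, index_stabilizer, h1, Set.ncard_diff_singleton_of_mem W.zero_mem]
  exact fun e => hp.out.not_dvd_one ((Nat.dvd_sub_iff_right Nat.card_pos h3).1 e)

theorem not_dvd_index_vec (h3 : 3 ≤ finrank F V) {x : V} (hx : x ≠ 0) : ¬ p ∣ (vStab (SLV F V).subtype x).index :=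
  not_dvd_index _ ⊤ fun _ => ⟨by rintro ⟨g, rfl⟩; exact ⟨trivial, g.1.map_ne_zero_iff.2 hx⟩,
    fun h => exists_map h3 hx h.2⟩

omit hp in
theorem card_R {x : V} (hx : x ≠ 0) : Nat.card (R F x) = Nat.card F ^ (finrank F V - 1) := by
  rw [R, ← Nat.card_congr (MonoidHom.ofInjective ((injective_iff_map_eq_one _).2 fun a ha => ?_)).toEquiv]
  · have h1 := Dual.finrank_ker_add_one_of_ne_zero ((Module.eval_apply_eq_zero_iff F x).not.2 hx)
    rw [Subspace.dual_finrank_eq] at h1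
    rw [← h1, Nat.add_sub_cancel]
    exact Module.natCard_eq_pow_finrank (K := F) (V := LinearMap.ker (Dual.eval F V x))
  · refine Subtype.ext (LinearMap.ext fun u => ?_)
    have h1 := tv_apply (mem_fam.1 (Multiplicative.toAdd a).2) u
    rw [show tv x _ = 1 from ha] at h1
    exact (smul_eq_zero.1 (left_eq_add.1 h1)).resolve_right hx

theorem isPGroup_R {x : V} (hx : x ≠ 0) : IsPGroup p (R F x) := by
  obtain ⟨k, hk⟩ := card_pow (F := F) (p := p)
  exact IsPGroup.of_card ((card_R hx).trans (by rw [hk, ← pow_mul]))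

end CfsgLib.CKS.LinB
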