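import Mathlib
import Cfsg.Agent.Lib.CKS.Abs2
import Cfsg.Agent.Lib.CKS.Abs3
import Cfsg.Agent.Lib.CKS.LinB

/-! CKS, package LIN0: linear groups, degree prime to the characteristic. -/

namespace CfsgLib.CKS
open Cfsg MulAction

namespace Lin0P
open CfsgLib.MinIdx CfsgLib.MinIdx.SL CfsgLib.ClMax Module LinB

variable {F : Type*} [Field F] {V : Type*} [AddCommGroup V] [Module F V] [FiniteDimensional F V] [Finite F]
  {Ω : Type*} [MulAction (SLV F V) Ω]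

theorem of_line (H : TwoTr (SLV F V) Ω) (h3 : 3 ≤ finrank F V) {M : Type*} [AddCommGroup M] [Module F M]
    [FiniteDimensional F M] (ρ : SLV F V →* (M ≃ₗ[F] M)) {v : M} (hv : v ≠ 0)
    (htr : ∀ u, u ≠ 0 → ∃ g, ρ g v = u) (hd : finrank F M = finrank F V) {ω : Ω}
    (h : stabilizer (SLV F V) ω ≤ lineStab ρ v) :
    Nat.card Ω * (Nat.card F - 1) = Nat.card F ^ finrank F V - 1 := by
  have := finite_SLV (F := F) (V := V)
  have h1 := le_index_of_line ρ hv htr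
  rw [hd] at h1
  rw [← H.index_stab ω, ← h1, (H.isCoatom_stab ω).ne_top_iff_eq h |>.1 fun e => ?_]
  rw [e, Subgroup.index_top, one_mul] at h1
  have h2 : 1 < Nat.card F := Finite.one_lt_card
  have := Nat.pow_lt_pow_right h2 (show 1 < finrank F V by omega)
  rw [pow_one] at this
  omega

theorem main {p : ℕ} [Fact p.Prime] [CharP F p] (h3 : 3 ≤ finrank F V) (H : TwoTr (SLV F V) Ω)
    (hp : ¬ p ∣ Nat.card Ω) : Nat.card Ω * (Nat.card F - 1) = Nat.card F ^ finrank F V - 1 := by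
  have := H.finite
  obtain ⟨x, hx⟩ := exists_notMem_pair h3 (0 : V) 0
  have hx0 : x ≠ 0 := by simpa using hx
  obtain ⟨ω, hω⟩ := (isPGroup_R (F := F) (p := p) hx0).nonempty_fixed_point_of_prime_not_dvd_card Ω hp
  obtain ⟨W, hW, W0, W1⟩ : ∃ W : Submodule F V, (∀ g ∈ stabilizer (SLV F V) ω, ∀ u ∈ W, g.1 u ∈ W) ∧
      W ≠ ⊥ ∧ W ≠ ⊤ := by
    by_contra! h
    refine H.stab_ne_top ω (eq_top_iff.2 fun g _ => ?_)
    obtain ⟨k, hk, e⟩ := SLV_le_of_irred (X := (stabilizer (SLV F V) ω).map (SLV F V).subtype) hx0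
      (fun φ hφ => ⟨_, ⟨tv x φ, hω ⟨_, tv_mem hφ⟩, rfl⟩, tv_apply hφ⟩)
      (fun U hU => or_iff_not_imp_left.2 (h U fun g hg => hU _ ⟨g, hg, rfl⟩)) g.2
    rwa [← Subtype.ext e]
  have hK : ∀ g : SLV F V, (∀ u ∈ W, g.1 u ∈ W) → g • ω = ω := fun g hg => by
    obtain ⟨a, ha, ha'⟩ := not_SLV_le_stabV W0 W1
    exact (((H.isCoatom_stab ω).ne_top_iff_eq (b := (stabV W).subgroupOf (SLV F V))
      fun g hg => mem_stabV_of_le (hW g hg)).1 fun e => ha' (e.ge (Subgroup.mem_top ⟨a, ha⟩))).le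
      (mem_stabV_of_le hg)
  obtain ⟨w2, hw2, w0⟩ := Submodule.exists_mem_ne_zero_of_ne_bot W0
  by_cases h1 : ∀ u ∈ W, u ∈ Submodule.span F {w2}
  · refine of_line H h3 (SLV F V).subtype w0 (fun u hu => exists_map h3 w0 hu) rfl (ω := ω) fun g hg => ?_
    obtain ⟨c, hc⟩ := Submodule.mem_span_singleton.1 (h1 _ (hW g hg w2 hw2))
    refine ⟨c, ?_, hc.symm⟩
    rintro rfl
    exact w0 (g.1.map_eq_zero_iff.1 (by rw [← hc, zero_smul]))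
  push Not at h1
  obtain ⟨w1, hw1, h1⟩ := h1
  obtain ⟨u2, -, hu2⟩ := SetLike.exists_of_lt (lt_top_iff_ne_top.2 W1)
  obtain ⟨χ2, a1, a2⟩ := exists_dual_one hu2
  by_cases h2 : ∀ v, χ2 v = 0 → v ∈ W
  · have hφ : χ2 ≠ 0 := by rintro rfl; exact zero_ne_one a1
    refine of_line H h3 (dualRep F V) hφ (fun u hu => exists_dual_map h3 hφ hu) Subspace.dual_finrank_eq
      (ω := ω) fun g hg => ?_
    obtain ⟨c, hc⟩ := dual_eq_smul_of_ker (φ := χ2) (ψ := tr g χ2) fun v hv =>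
      a2 _ (hW _ (inv_mem hg) v (h2 v hv))
    exact ⟨c, fun e => tr_ne_zero g hφ (by rw [hc, e, zero_smul]), hc⟩
  push Not at h2
  obtain ⟨u1, a3, hu1⟩ := h2
  obtain ⟨χ, b1, b2⟩ := exists_dual_one hu1
  obtain ⟨χ1, c1, c2, c3⟩ : ∃ χ1 : Dual F V, χ1 u1 = 1 ∧ χ1 u2 = 0 ∧ ∀ w ∈ W, χ1 w = 0 :=
    ⟨χ - χ u2 • χ2, by simp [b1, a3], by simp [a1], fun w hw => by simp [a2 w hw, b2 w hw]⟩
  obtain ⟨ψ1, d1, d2⟩ := exists_dual_one_zero h1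
  obtain ⟨ψ2, d3⟩ := exists_dual_one_of_ne (F := F) w0
  obtain ⟨φ1, e1, e2, e3, e4⟩ : ∃ φ : Dual F V, φ u1 = 0 ∧ φ u2 = 0 ∧ φ w1 = 1 ∧ φ w2 = 0 :=
    ⟨ψ1 - ψ1 u1 • χ1 - ψ1 u2 • χ2, by simp [c1, a3], by simp [c2, a1], by simp [d1, c3 _ hw1, a2 _ hw1],
      by simp [d2, c3 _ hw2, a2 _ hw2]⟩
  obtain ⟨φ2, e5, e6⟩ : ∃ φ : Dual F V, φ u2 = 0 ∧ φ w2 = 1 :=
    ⟨ψ2 - ψ2 u2 • χ2, by simp [a1], by simp [d3, a2 _ hw2]⟩
  have g1 : χ1 ((tv u1 φ1).1 w1) = 1 := by simp [tv_apply e1, e3, c1, c3 _ hw1]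
  have g2 : χ1 ((tv u1 φ1 * tv u2 φ2).1 w1) = 1 := by
    simp [mul_apply', tv_apply e1, tv_apply e5, e2, e3, c1, c2, c3 _ hw1]
  have g3 : (tv u1 φ1 * tv u2 φ2).1 w2 = w2 + u2 := by
    simp [mul_apply', tv_apply e1, tv_apply e5, e2, e4, e6]
  have ne : ∀ g : SLV F V, χ1 (g.1 w1) = 1 → ω ≠ g • ω := fun g hg e =>
    zero_ne_one ((c3 _ (hW g e.symm w1 hw1)).symm.trans hg)
  obtain ⟨k, k1, k2⟩ := H.tr ω _ ω _ (ne _ g1) (ne _ g2)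
  have key : ∀ w ∈ W, ∃ w' ∈ W, ∃ a : F, (tv u1 φ1 * tv u2 φ2).1 w = w' + a • k.1 u1 := fun w hw => by
    have h4 : ((k * tv u1 φ1)⁻¹ * (tv u1 φ1 * tv u2 φ2)) • ω = ω := by
      rw [mul_smul, ← k2, ← mul_smul k, inv_smul_smul]
    have h5 := hW _ h4 w hw
    refine ⟨_, hW k k1 _ h5, φ1 (((k * tv u1 φ1)⁻¹ * (tv u1 φ1 * tv u2 φ2)).1 w), ?_⟩
    rw [← map_smul, ← map_add, ← tv_apply e1, ← mul_apply' k, mul_apply' (k * tv u1 φ1)⁻¹, apply_inv']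
  obtain ⟨v1, hv1, a, h4⟩ := key w1 hw1
  obtain ⟨v2, hv2, b, h5⟩ := key w2 hw2
  rw [h4] at g2
  rw [g3] at h5
  have h6 := congrArg χ1 h5
  have h7 := congrArg χ2 h5
  simp only [map_add, map_smul, c3 _ hv1, c3 _ hv2, c3 _ hw2, c2, a2 _ hv2, a2 _ hw2, a1, zero_add,
    smul_eq_mul] at g2 h6 h7
  rcases mul_eq_zero.1 h6.symm with h | h
  · simp [h] at h7
  · simp [h] at g2

end Lin0P

variable {p : ℕ} [Fact p.Prime] {F : Type} [Field F] [Fintype F] [CharP F p] {Ω : Type*}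

theorem lin0 {d : ℕ} (hd : 3 ≤ d) [MulAction (PSL d F) Ω] (H : TwoTr (PSL d F) Ω) (hp : ¬ p ∣ Nat.card Ω) :
    Nat.card Ω * (Fintype.card F - 1) = Fintype.card F ^ d - 1 := by
  obtain ⟨_, H, -⟩ := LinB.lift hd H
  simpa using Lin0P.main (by simpa using hd) H hp

end CfsgLib.CKS
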