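import Mathlib
import Cfsg.Agent.Lib.CKS.Abs2
import Cfsg.Agent.Lib.CKS.Abs3
import Cfsg.Agent.Lib.CKS.LinB

/-! CKS, package LIN2: PSL₃(q) of degree q³. -/

namespace CfsgLib.CKS
open Cfsg MulAction

namespace Lin2P
open CfsgLib.MinIdx CfsgLib.MinIdx.SL CfsgLib.ClMax Module LinB

variable {F : Type*} [Field F] {V : Type*} [AddCommGroup V] [Module F V] [FiniteDimensional F V] [Finite F]
  {p : ℕ} [hp : Fact p.Prime] [CharP F p]

/-- a polarity has absolute points -/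
theorem polar (h3 : 3 ≤ finrank F V) (f : V → Dual F V) (h1 : ∀ x, x ≠ 0 → f x x ≠ 0)
    (hs : ∀ x y, f x y = 0 → f y x = 0) : False := by
  classical
  obtain ⟨p, hc⟩ := CharP.exists F
  have := Fact.mk (CharP.char_is_prime F p)
  have := finite_V (F := F) (V := V)
  have := Fintype.ofFinite V
  let B : Matrix V V F := fun x y => if f x y = 0 then 1 else 0
  have h2 : B ^ 2 = 0 := by
    ext x y
    have hW : LinearMap.ker (f x) ⊓ LinearMap.ker (f y) ≠ ⊥ := fun e => by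
      have a1 := LinearMap.finrank_range_add_finrank_ker ((f x).prod (f y))
      have a2 := Submodule.finrank_le (LinearMap.range ((f x).prod (f y)))
      rw [LinearMap.ker_prod, e, finrank_bot] at a1
      simp at a2
      omega
    rw [pow_two, Matrix.mul_apply, Matrix.zero_apply, ← (CharP.cast_eq_zero_iff F p _).2 (dvd_card_sub hW),
      Nat.card_eq_fintype_card, Fintype.card_subtype, ← Finset.sum_boole]
    refine Finset.sum_congr rfl fun z _ => ?_
    have : f z y = 0 ↔ f y z = 0 := ⟨hs _ _, hs _ _⟩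
    simp only [B, this, Submodule.mem_inf, LinearMap.mem_ker]
    by_cases a : f x z = 0 <;> by_cases b : f y z = 0 <;> simp [a, b]
  have h4 := (Matrix.isNilpotent_trace_of_isNilpotent ⟨2, h2⟩).eq_zero
  rw [Matrix.trace, Finset.sum_eq_single (f := B.diag) 0 (fun x _ hx => if_neg (h1 x hx)) (by simp)] at h4
  exact one_ne_zero ((if_pos (map_zero (f 0))).symm.trans h4)

theorem no_flag (h3 : 3 ≤ finrank F V) (K : Subgroup (SLV F V)) (hK : ¬ p ∣ Nat.card K)
    (ht : ∀ (x x' : V) (φ ψ : Dual F V), x ≠ 0 → x' ≠ 0 → φ ≠ 0 → ψ ≠ 0 → φ x = 0 → ψ x' = 0 →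
      ∃ k ∈ K, k.1 x = x' ∧ tr k φ = ψ) : Nat.card F = 2 := by
  classical
  by_contra hq
  have := finite_SLV (F := F) (V := V)
  obtain ⟨l, hl0, hl1⟩ : ∃ l : F, l ≠ 0 ∧ l ≠ 1 := by
    by_contra! hh
    exact hq ((Nat.card_eq_two_iff' (0 : F)).2 ⟨1, one_ne_zero, fun y hy => hh y hy⟩)
  have exφ : ∀ x : V, ∃ φ : Dual F V, φ ≠ 0 ∧ φ x = 0 := fun x => by
    obtain ⟨y, hy⟩ := exists_notMem_pair h3 x x
    obtain ⟨φ, a, b⟩ := notMem_span_iff.1 hy
    exact ⟨φ, by rintro rfl; simp at a, b x (by simp)⟩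
  have exv : ∀ φ : Dual F V, ∃ x : V, x ≠ 0 ∧ φ x = 0 := fun φ => by
    have a1 := LinearMap.finrank_range_add_finrank_ker φ
    have a2 := Submodule.finrank_le (LinearMap.range φ)
    obtain ⟨x, a, b⟩ := Submodule.exists_mem_ne_zero_of_ne_bot (p := LinearMap.ker φ) fun e => by
      rw [e, finrank_bot] at a1
      simp at a2
      omega
    exact ⟨x, b, a⟩
  let I : V → Dual F V → Prop := fun x φ => φ x = 1 ∧ ∀ k ∈ K, k.1 x = x → tr k φ = φ
  have ex : ∀ x, x ≠ 0 → ∃ φ, I x φ := fun x hx => by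
    obtain ⟨θ, hθ⟩ := exists_dual_one_of_ne (F := F) hx
    let L := K ⊓ vStab (SLV F V).subtype x
    have := Fintype.ofFinite L
    have hL : (Fintype.card L : F) ≠ 0 := fun e => hK (((CharP.cast_eq_zero_iff F p _).1 e).trans
      (Nat.card_eq_fintype_card (α := L) ▸ Subgroup.card_dvd_of_le inf_le_left))
    refine ⟨(Fintype.card L : F)⁻¹ • ∑ k : L, tr k θ, ?_, fun k hk hx => ?_⟩
    · have : ∀ k : L, tr k θ x = 1 := fun k => by rw [← hθ, ← tr_apply k θ x, show k.1.1 x = x from k.2.2]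
      simp [this, hL]
    · rw [← dualRep_apply, map_smul, map_sum]
      exact congrArg _ (Fintype.sum_equiv (Equiv.mulLeft (⟨k, hk, hx⟩ : L)) _ _ fun a => (tr_mul _ _ _).symm)
  have uniq : ∀ x φ ψ, I x φ → I x ψ → φ = ψ := fun x φ ψ h h' => by
    by_contra e
    have x0 : x ≠ 0 := by rintro rfl; simpa using h.1
    have e' := sub_ne_zero.2 e
    have a1 : (φ - ψ) x = 0 := by simp [h.1, h'.1]
    obtain ⟨k, hk, a, b⟩ := ht x x _ (l • (φ - ψ)) x0 x0 e' (smul_ne_zero hl0 e') a1 (by simp [h.1, h'.1])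
    rw [← dualRep_apply, map_sub, dualRep_apply, dualRep_apply, h.2 k hk a, h'.2 k hk a] at b
    exact hl1 (smul_left_injective F e' (b.symm.trans (one_smul _ _).symm))
  choose! g hg using ex
  let f : V → Dual F V := fun x => if x = 0 then 0 else g x
  have hf : ∀ x, x ≠ 0 → I x (f x) := fun x hx => by simp only [f, if_neg hx]; exact hg x hx
  have f0 : ∀ x, x ≠ 0 → f x ≠ 0 := fun x hx e => by simpa [e] using (hf x hx).1
  have eqv : ∀ k ∈ K, ∀ x, x ≠ 0 → f (k.1 x) = tr k (f x) := fun k hk x hx =>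
    uniq _ _ _ (hf _ (k.1.map_ne_zero_iff.2 hx)) ⟨by rw [tr_apply, (hf x hx).1], fun a ha e => by
      have := (hf x hx).2 (k⁻¹ * a * k) (mul_mem (mul_mem (inv_mem hk) ha) hk)
        (by rw [mul_apply', mul_apply', e, inv_apply'])
      rw [← tr_mul, ← congrArg (tr k) this, ← tr_mul, ← mul_assoc, mul_inv_cancel_left]⟩
  have sc : ∀ (c : F) x, c ≠ 0 → x ≠ 0 → f (c • x) = c⁻¹ • f x := fun c x hc hx =>
    uniq _ _ _ (hf _ (smul_ne_zero hc hx)) ⟨by simp [(hf x hx).1, hc], fun a ha e => by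
      rw [map_smul] at e
      rw [← dualRep_apply, map_smul, dualRep_apply, (hf x hx).2 a ha (smul_right_injective V hc e)]⟩
  have ls : ∀ x, x ≠ 0 → lineStab ((dualRep F V).comp K.subtype) (f x) ≤
      lineStab ((SLV F V).subtype.comp K.subtype) x := fun x hx => by
    have a1 := le_index_of_line ((dualRep F V).comp K.subtype) (f0 x hx) fun ψ h => by
      obtain ⟨y, b1, b2⟩ := exv (f x)
      obtain ⟨y', c1, c2⟩ := exv ψ
      obtain ⟨k, hk, -, e⟩ := ht y y' _ _ b1 c1 (f0 x hx) h b2 c2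
      exact ⟨⟨k, hk⟩, e⟩
    have a2 := le_index_of_line ((SLV F V).subtype.comp K.subtype) hx fun y h => by
      obtain ⟨φ, b1, b2⟩ := exφ x
      obtain ⟨ψ, c1, c2⟩ := exφ y
      obtain ⟨k, hk, e, -⟩ := ht x y _ _ hx h b1 c1 b2 c2
      exact ⟨⟨k, hk⟩, e⟩
    have q1 : 1 < Nat.card F := Finite.one_lt_card
    rw [Subspace.dual_finrank_eq, ← a2] at a1
    refine (Subgroup.eq_of_le_of_card_ge (H := lineStab ((SLV F V).subtype.comp K.subtype) x) ?_ ?_).ge
    · rintro k ⟨c, c0, hc⟩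
      exact ⟨c⁻¹, inv_ne_zero c0, (eqv k k.2 x hx).symm.trans ((congrArg f hc).trans (sc c x c0 hx))⟩
    · have b1 := (lineStab ((dualRep F V).comp K.subtype) (f x)).card_mul_index
      rw [Nat.eq_of_mul_eq_mul_right (by omega) a1,
        ← (lineStab ((SLV F V).subtype.comp K.subtype) x).card_mul_index] at b1
      exact (Nat.eq_of_mul_eq_mul_right (Nat.pos_of_ne_zero Subgroup.index_ne_zero_of_finite) b1).le
  refine polar h3 f (fun x hx => by simp [(hf x hx).1]) fun x y h => ?_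
  by_cases hx : x = 0
  · rw [hx, map_zero]
  by_cases hy : y = 0
  · simp [hy, f]
  obtain ⟨k, hk, a, b⟩ := ht y y _ (l⁻¹ • f x) hy hy (f0 x hx) (smul_ne_zero (inv_ne_zero hl0) (f0 x hx)) h
    (by simp [h])
  obtain ⟨c, -, hc⟩ := ls x hx (show (⟨k, hk⟩ : K) ∈ _ from ⟨_, inv_ne_zero hl0, b⟩)
  have hc' : k.1 x = c • x := hc
  have a1 := tr_apply k (f x) x
  have a2 := tr_apply k (f y) x
  rw [b, hc', map_smul, LinearMap.smul_apply, (hf x hx).1] at a1
  rw [(hf y hy).2 k hk a, hc', map_smul, smul_eq_mul] at a2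
  by_contra e
  rw [mul_left_eq_self₀.1 a2 |>.resolve_right e] at a1
  exact hl1 (by simpa using a1)

end Lin2P

variable {F : Type} [Field F] [Fintype F] {Ω : Type*}

open CfsgLib.MinIdx CfsgLib.MinIdx.SL CfsgLib.ClMax LinB in
theorem lin2 [MulAction (PSL 3 F) Ω] (H : TwoTr (PSL 3 F) Ω) (hn : Nat.card Ω = Fintype.card F ^ 3) :
    Fintype.card F = 2 := by
  obtain ⟨_, H, -⟩ := LinB.lift le_rfl H
  obtain ⟨p, hc, n, hp, hq⟩ := FiniteField.card' F
  have := Fact.mk hp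
  have := finite_SLV (F := F) (V := Fin 3 → F)
  have h3 : 3 ≤ Module.finrank F (Fin 3 → F) := by simp
  obtain ⟨ω⟩ := (Nat.card_pos_iff.1 (show 0 < Nat.card Ω by have := H.big; omega)).1
  have hn' : Nat.card Ω = p ^ ((n : ℕ) * 3) := by rw [hn, hq, pow_mul]
  rw [← Nat.card_eq_fintype_card]
  refine Lin2P.no_flag (p := p) h3 (stabilizer _ ω) ?_ fun x x' φ ψ a1 a2 a3 a4 a5 a6 => ?_
  · have h1 := (stabilizer (SLV F (Fin 3 → F)) ω).index_mul_card
    rw [H.index_stab, hn, ← Nat.card_congr (Agent.S2140.e F 3).toEquiv, Classical.sl3_card] at h1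
    rw [Nat.eq_of_mul_eq_mul_left (by positivity) h1]
    exact fun e => (hp.dvd_mul.1 e).elim (Classical.sl_not_dvd_pow_sub_one p 1) (Classical.sl_not_dvd_pow_sub_one p 2)
  · obtain ⟨g, g1, g2⟩ := exists_pair_map h3 a1 a2 a3 a4 a5 a6
    have h1 := trOn_of_pow H.trans hn' (not_dvd_index_vec (p := p) h3 a1)
    have h2 := trOn_of_pow (G := vStab (SLV F _).subtype x) (Ω := Ω)
      (fun a b => let ⟨g, h, e⟩ := h1 a b; ⟨⟨g, h⟩, e⟩) hn'
      (not_dvd_index (p := p) ((dualRep F _).comp (Subgroup.subtype _)) (v := φ)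
        (LinearMap.ker (Module.Dual.eval F _ x)) fun u => ⟨?_, fun h => ?_⟩)
    · obtain ⟨s, s1, s2⟩ := h2 ω (g⁻¹ • ω)
      refine ⟨g * s, ?_, by rw [mul_apply', show s.1.1 x = x from s.2, g1],
        by rw [tr_mul, show tr s.1 φ = φ from s1, g2]⟩
      rw [mem_stabilizer_iff, mul_smul, show s.1 • ω = _ from s2, smul_inv_smul]
    · rintro ⟨s, rfl⟩
      refine ⟨?_, tr_ne_zero _ a3⟩
      change tr s.1 φ x = 0
      rw [← a5, ← tr_apply s.1 φ x, show s.1.1 x = x from s.2]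
    · obtain ⟨s, s1, s2⟩ := exists_fix_dual h3 a3 h.2 a5 h.1
      exact ⟨⟨s, s1⟩, s2⟩

end CfsgLib.CKS
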