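import Mathlib
import Cfsg.Agent.Lib.CKS.Lt
import Cfsg.Agent.Lib.MinDeg.Tab
import Cfsg.Agent.Lib.Twist.E6

/-! CKS, package LTE: the types E₆, E₇, E₈, ²E₆. -/

namespace CfsgLib.CKS
open Cfsg MulAction

section Gen

open RGD Twist Stein MinDeg

theorem exists_pow_of_lt {ι κ B : Type} [Fintype κ] [DecidableEq κ] {Φ : RootSys ι κ} [Finite ι] {F : Type*} [Field F]
    [Finite F] {G : Type*} [Group G] {S : StSys Φ F G} {T : Tw S B} {M : Subgroup G} (p : ℕ) [Fact p.Prime] [CharP F p]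
    {φ : F →+* F} {k q : ℕ} (h : LT T M φ k q) : ∃ e, q = p ^ e := by
  have := Fintype.ofFinite F
  obtain ⟨n, hp, hn⟩ := FiniteField.card F p
  have h1 : q ∣ p ^ (n : ℕ) := by
    rw [← hn, ← Nat.card_eq_fintype_card, h.card_F]
    exact dvd_pow_self q (by have := h.ord; omega)
  obtain ⟨e, -, he⟩ := (Nat.dvd_prime_pow hp).1 h1
  exact ⟨e, he⟩

theorem lt_end {ι κ B : Type} [Fintype κ] [DecidableEq κ] {Φ : RootSys ι κ} [Finite ι] {F : Type*} [Field F] [Finite F]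
    {G : Type*} [Group G] [Finite G] {S : StSys Φ F G} {T : Tw S B} {M : Subgroup G} {p : ℕ} [Fact p.Prime] [CharP F p]
    {φ : F →+* F} {k q : ℕ} (h : LT T M φ k q) {θ : ι} {i₀ : κ} (hθ : Top T.toSym θ i₀)
    {Ω : Type*} [MulAction M Ω] (H : TwoTr M Ω) (hB : BTr p M Ω) {L : List ι} (hL : L.Nodup)
    (hm : ∀ γ, γ ∈ L ↔ T.ρ γ = γ) {E : List ℕ}
    (hE : (L.map fun γ => (Φ.ht θ - Φ.ht γ - if 0 < Φ.ht γ then 0 else 1).toNat) = E) {a t : ℕ}
    (ha : (Φ.ht θ).toNat = a) (ht : 0 < t) (h1 : (E.map (q ^ ·)).sum * (q - 1) = t * (q ^ a * q - 1))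
    (h2 : t * (q - 1) < q ^ a - 1) {γ δ δ' : ι} (hγ : T.ρ γ = γ) (hp : Φ.Pos γ) (hδ : Φ.Pos δ) (hr : RAdd Φ δ δ' γ)
    (k1 : ip Φ δ θ = 0) (k2 : ip Φ δ' θ = 0) : False := by
  classical
  let := Fintype.ofFinite {γ // T.ρ γ = γ}
  have hq := h.two_le
  obtain ⟨e, he⟩ := exists_pow_of_lt p h
  obtain ⟨s, hs, hu⟩ := lt_num h hθ H hB
  rw [← Finset.sum_subtype L.toFinset (by simpa using hm) fun γ => q ^ (Obt Φ γ).ncard, List.sum_toFinset _ hL,
    List.map_congr_left (g := fun γ => q ^ (Φ.ht θ - Φ.ht γ - if 0 < Φ.ht γ then 0 else 1).toNat) fun γ hγ =>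
      congrArg (q ^ ·) (by
        have := hθ.ncard_obt h.laced ((hm γ).1 hγ)
        simp only [pos_iff_ht] at this
        rw [← this, Int.toNat_natCast])] at hs
  rw [← hE, List.map_map, Function.comp_def] at h1
  have h3 : t < q ^ a := by
    have : t * 1 ≤ t * (q - 1) := Nat.mul_le_mul_left _ (by omega)
    omega
  have h4 := lt_dvd h hθ H hB
  rw [ha] at h4 hu
  have ha0 : 0 < a := by
    have := Φ.ht_pos hθ.pos
    omega
  rcases arith h4 (by have := H.big; omega) ht h3 (by omega) (hs.trans h1) with ⟨e1, rfl⟩ | ⟨m, j, hj, hm1, -, -, -, e1⟩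
  · obtain ⟨u, h5, h6, h7⟩ := hu (e * (a + 1)) (by rw [e1, pow_mul, ← he, pow_succ])
    have h8 := Nat.le_of_dvd h5 (lt_fx h hθ H hB hγ hp hδ hr k1 k2 h6)
    have h9 : q ^ (2 * a - 1) * q ^ 2 = q ^ a * q * q ^ a := by
      rw [← pow_succ, ← pow_add, ← pow_add]; congr 1; omega
    have h10 := Nat.mul_le_mul_left (q ^ (2 * a - 1)) h8
    rw [e1] at h7
    have h11 : q ^ a * q * q ^ a ≤ q ^ a * q * s := by omega
    exact absurd (Nat.le_of_mul_le_mul_left h11 (by positivity)) h3.not_ge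
  · have h5 : 1 * (q ^ a * 1 - 1) ≤ j * (q ^ a * m - 1) :=
      Nat.mul_le_mul hj (Nat.sub_le_sub_right (Nat.mul_le_mul_left _ hm1) 1)
    have h6 : t * (q - m) ≤ t * (q - 1) := Nat.mul_le_mul_left _ (by omega)
    omega

/-- the arithmetic test -/
def ltChk (E : List ℕ) (a : ℕ) (P : List ℤ) : Bool :=
  xm1 (mons E) == padd (List.replicate (a + 1) 0 ++ P) (P.map (-1 * ·)) && (padd P [-1]).tails.all (0 ≤ ev 2 ·) &&
    (padd (List.replicate a 0 ++ [1]) (padd [-2] ((xm1 P).map (-1 * ·)))).tails.all (0 ≤ ev 2 ·)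

theorem of_ltChk {E : List ℕ} {a q : ℕ} {P : List ℤ} (h : ltChk E a P = true) (hq : 2 ≤ q) :
    ∃ t, 0 < t ∧ (E.map (q ^ ·)).sum * (q - 1) = t * (q ^ a * q - 1) ∧ t * (q - 1) < q ^ a - 1 := by
  simp only [ltChk, Bool.and_eq_true, beq_iff_eq, List.all_eq_true, decide_eq_true_eq] at h
  obtain ⟨⟨k1, k2⟩, k3⟩ := h
  have h1 := congrArg (ev q) k1
  have h2 := (k2 _ ((List.mem_tails _ _).2 List.suffix_rfl)).trans (ev_two_le (q := q) (by omega) k2)
  have h3 := (k3 _ ((List.mem_tails _ _).2 List.suffix_rfl)).trans (ev_two_le (q := q) (by omega) k3)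
  simp only [ev_padd, ev_append, ev_replicate, ev, ev_map, List.length_replicate, ev_xm1, ev_mons] at h1 h2 h3
  obtain ⟨t, ht⟩ := Int.eq_ofNat_of_zero_le (a := ev q P) (by omega)
  rw [ht] at h1 h2 h3
  have h4 : 1 ≤ q ^ a := Nat.one_le_pow _ _ (by omega)
  refine ⟨t, by omega, ?_, ?_⟩
  · zify [show 1 ≤ q by omega, show 1 ≤ q ^ a * q from Nat.mul_pos h4 (by omega)]
    push_cast at h1
    rw [pow_succ] at h1
    linarith
  · zify [show 1 ≤ q by omega, h4]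
    linarith

open Cfsg.Lie Weyl Chev ChevAut in
theorem fit_end {D : ChevalleyDatum} {m : ℕ} {t : Tb} {h : RtOK D} [Good D] {F : Type*} [Field F] [Finite F]
    {T : Tw (stSys h F) (Fin m)} {M : Subgroup (GL D.Idx F)} {φ : F →+* F} {k q : ℕ} (hF : t.Fit h T.toSym)
    (hT : LT T M φ k q) {θ : Fin D.nroots} {i₀ : Fin D.rank} (hθ : Top T.toSym θ i₀) {p : ℕ} [Fact p.Prime]
    [CharP F p] {Ω : Type*} [MulAction M Ω] (H : TwoTr M Ω) (hB : BTr p M Ω) (P : List ℤ) (γ δ δ' : Fin D.nroots)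
    (K : ltChk (((List.finRange D.nroots).filter fun γ : Fin D.nroots => t.ρ γ = γ).map
        fun γ : Fin D.nroots => (t.ht θ - t.ht γ - if 0 < t.ht γ then 0 else 1).toNat) (t.ht θ).toNat P = true ∧
      t.ρ γ = γ ∧ 0 < t.ht γ ∧ 0 < t.ht δ ∧ (∀ j : Fin D.rank, rt D γ j = rt D δ j + rt D δ' j) ∧
      ipT D.rank D.nroots t.A δ θ = 0 ∧ ipT D.rank D.nroots t.A δ' θ = 0) : False := by
  obtain ⟨k0, k1, k2, k3, k4, k5, k6⟩ := K
  obtain ⟨s, h1, h2, h3⟩ := of_ltChk k0 hT.two_le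
  exact lt_end hT hθ H hB ((List.nodup_finRange D.nroots).filter fun γ : Fin D.nroots => t.ρ γ = γ)
    (by simp [Fin.ext_iff, hF.ρ]) (by simp only [hF.ht]) (by rw [hF.ht]) h1 h2 h3 (γ := γ) (δ := δ) (δ' := δ')
    (Fin.ext ((hF.ρ _).trans k1)) (by rwa [pos_iff_ht, hF.ht]) (by rwa [pos_iff_ht, hF.ht]) k4
    (by rwa [hF.ip]) (by rwa [hF.ip])

end Gen

/-- heights in type E₆ -/
def tH6 : ℕ := 0x6f6e6d6c6b6c6b6a6a696869686766656b6a696968676867666568676665676665666565636362636261636261606362616061605f5f5e5d636261605f605f5e5e5d5c5d5c5b5a59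

/-- heights in type E₇ -/
def tH7 : ℕ := 0x7574737271706f71706f6e6f6e6d6d6c6b6e6d6c6c6b6a6b6a69686a69686766656d6c6b6b6a696a696867696867666569686766656867666567666566656563636263626163626160636261605f636261605f61605f5e5f5e5d5d5c5b636261605f5e605f5e5d5e5d5c5c5b5a5d5c5b5b5a595a59585759585756555453

/-- heights in type E₈ -/
def tH8 : ℕ := 0x81807f7e7d7c7b7b7a79787776757a79787776757477767574737574737273727171706f74737271727170706f6e71706f6f6e6d6e6d6c6b706f6e6e6d6c6d6c6b6a6c6b6a69686b6a69686766656f6e6d6d6c6b6c6b6a696b6a6968676a69686766656a696867666569686766656867666567666566656563636263626163626160636261605f636261605f5e636261605f5e61605f5e5d5f5e5d5c5d5c5b5b5a59636261605f5e5d605f5e5d5c5e5d5c5b5c5b5a5a59585d5c5b5a5b5a595958575a59585857565756555459585757565556555453555453525154535251504f4e535251504f4e4d4d4c4b4a494847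

variable {p : ℕ} [Fact p.Prime] {F : Type} [Field F] [Fintype F] [CharP F p] {Ω : Type*}

open MinDeg Weyl RGD Twist ChevAut Chev Lie in
theorem e6 [MulAction (Lie.chevE6.group F) Ω] (H : TwoTr (Lie.chevE6.group F) Ω) (hB : BTr p (Lie.chevE6.group F) Ω) :
    False := by
  have hF := fit_id (h := rtOKE6) (F := F) (H := tH6) tablesOKE6 (by decide +kernel)
  exact fit_end hF (hF.lt (φ := RingHom.id F) (k := 1) (isTw_group rtOKE6) (hF.laced (by decide +kernel)) (fun _ => rfl)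
    (Or.inl rfl) (fun t => (FiniteField.pow_card t).symm) (by simp) (by decide +kernel))
    (hF.top (θ := ⟨71, by decide⟩) (i₀ := ⟨1, by decide⟩) (by decide +kernel)) H hB [1, 0, 0, 1, 1, 0, 1, 1, 0, 0, 1]
    ⟨38, by decide⟩ ⟨36, by decide⟩ ⟨37, by decide⟩ (by decide +kernel)

open MinDeg Weyl RGD Twist ChevAut Chev Lie in
theorem e7 [MulAction (Lie.chevE7.group F) Ω] (H : TwoTr (Lie.chevE7.group F) Ω) (hB : BTr p (Lie.chevE7.group F) Ω) :
    False := by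
  have hF := fit_id (h := rtOKE7) (F := F) (H := tH7) tablesOKE7 (by decide +kernel)
  exact fit_end hF (hF.lt (φ := RingHom.id F) (k := 1) (isTw_group rtOKE7) (hF.laced (by decide +kernel)) (fun _ => rfl)
    (Or.inl rfl) (fun t => (FiniteField.pow_card t).symm) (by simp) (by decide +kernel))
    (hF.top (θ := ⟨125, by decide⟩) (i₀ := ⟨0, by decide⟩) (by decide +kernel)) H hB
    [1, 0, 0, 0, 1, 0, 1, 0, 1, 0, 1, 0, 1, 0, 0, 0, 1]
    ⟨65, by decide⟩ ⟨63, by decide⟩ ⟨64, by decide⟩ (by decide +kernel)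

open MinDeg Weyl RGD Twist ChevAut Chev Lie in
theorem e8 [MulAction (Lie.chevE8.group F) Ω] (H : TwoTr (Lie.chevE8.group F) Ω) (hB : BTr p (Lie.chevE8.group F) Ω) :
    False := by
  have hF := fit_id (h := rtOKE8) (F := F) (H := tH8) tablesOKE8 (by decide +kernel)
  exact fit_end hF (hF.lt (φ := RingHom.id F) (k := 1) (isTw_group rtOKE8) (hF.laced (by decide +kernel)) (fun _ => rfl)
    (Or.inl rfl) (fun t => (FiniteField.pow_card t).symm) (by simp) (by decide +kernel))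
    (hF.top (θ := ⟨239, by decide⟩) (i₀ := ⟨7, by decide⟩) (by decide +kernel)) H hB
    [1, 0, 0, 0, 0, 0, 1, 0, 0, 0, 1, 0, 1, 0, 0, 0, 1, 0, 1, 0, 0, 0, 1, 0, 0, 0, 0, 0, 1]
    ⟨124, by decide⟩ ⟨121, by decide⟩ ⟨123, by decide⟩ (by decide +kernel)

open MinDeg Weyl RGD Twist ChevAut Chev Lie in
theorem te6 {q : ℕ} (hq : IsPrimePow q) (hF : Fintype.card F = q ^ 2) [MulAction (Lie.twistedE6 F q) Ω]
    (H : TwoTr (Lie.twistedE6 F q) Ω) (hB : BTr p (Lie.twistedE6 F q) Ω) : False := by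
  obtain ⟨φ, hφ⟩ := exists_frob hq hF
  have hT : Tb.Fit ⟨tAE6, tSE6, tTE6, tH6, actT tRhoE6 0, actT tPiE6 0, actT tOrbE6 0, actT tSwE6⟩ rtOKE6
    (twE6 φ).toSym := ⟨⟨_, tablesOKE6⟩, by decide +kernel, fun _ => rfl, fun _ => rfl, fun _ => rfl, swE6⟩
  exact fit_end hT (hT.lt (k := 2) (isTwE6 hφ (frob2 hφ hF)) (hT.laced (by decide +kernel)) (fun _ => rfl)
    (by simp) hφ (by simp [hF]) (by decide +kernel))
    (hT.top (θ := ⟨71, by decide⟩) (i₀ := ⟨1, by decide⟩) (by decide +kernel)) H hB [1, 0, 0, -1, 1, 0, 1, -1, 0, 0, 1]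
    ⟨44, by decide⟩ ⟨42, by decide⟩ ⟨40, by decide⟩ (by decide +kernel)

end CfsgLib.CKS
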