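import Mathlib
import Cfsg.Agent.Lib.CKS.Psl2
import Cfsg.Agent.Lib.CKS.Sz
import Cfsg.Agent.Lib.LieAll.Rank
import Cfsg.Agent.Lib.LieAll.Small
import Cfsg.Agent.Lib.LieAll.Syl
import Cfsg.Agent.Lib.Comp.FStar
import Cfsg.Agent.S3410
import Cfsg.Agent.S0280
import Cfsg.Agent.S1069

/-! CKS, package PAR: degree prime to the characteristic. -/

namespace CfsgLib.CKS
open Cfsg MulAction

namespace ParP
open Subgroup RGD Twist LieAll

theorem transfer {G X : Type*} [Group G] [Group X] {Ω : Type*} [MulAction G Ω] (H : TwoTr G Ω) (e : G ≃* X) :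
    ∃ _ : MulAction X Ω, TwoTr X Ω :=
  letI := MulAction.compHom Ω e.symm.toMonoidHom
  ⟨this, H.of_equiv e.symm fun _ _ => rfl⟩

theorem index_B {ι κ B : Type} [Fintype κ] [DecidableEq κ] {Φ : RootSys ι κ} [Finite ι] {F : Type*} [Field F]
    {G : Type*} [Group G] [Finite G] {S : StSys Φ F G} {T : Tw S B} {M : Subgroup G} (hM : IsTw T M)
    [Subsingleton B] (b : B) : hM.bn.B.index = Nat.card ↥(S.U ⊓ M) + 1 := by
  have hJ : T.J b = Set.univ := Set.eq_univ_of_forall fun i => Subsingleton.elim _ _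
  have h1 := card_P hM b
  have h2 : Ub T M b = S.U ⊓ M := by
    rw [Ub, hJ, show posJ Φ Set.univ = {r | Φ.Pos r} from Set.ext fun r => and_iff_left (Φ.inSub_univ r)]
    rfl
  rw [h2, hJ, StSys.P_univ, inf_eq_right.2 (hM.le_fix.trans T.Fix_le_grp)] at h1
  have h3 : S.B ⊓ M = S.U ⊓ M ⊔ S.H ⊓ M := by
    refine le_antisymm (fun g hg => ?_) (sup_le (inf_le_inf_right _ S.U_le_B) (inf_le_inf_right _ S.H_le_B))
    obtain ⟨u, hu, h, hh, rfl⟩ := hM.mem_B hg.1 hg.2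
    exact mul_mem (mem_sup_left (hM.U_inf.ge hu)) (mem_sup_right hh)
  have h4 : Nat.card hM.bn.B = Nat.card ↥(S.U ⊓ M) * Nat.card ↥(S.H ⊓ M) := by
    rw [hM.bn_B, Nat.card_congr (subgroupOfEquivOfLe inf_le_right).toEquiv, h3,
      Coprime.card_sup_of_le_normalizer]
    · exact (inf_le_inf (S.H_le_B.trans S.B_le_normalizer_U) le_normalizer).trans
        inf_normalizer_le_normalizer_inf
    · exact eq_bot_iff.2 fun x hx => hM.nondeg.U_inf_N.le ⟨hx.1.1, S.H_le_N hx.2.1⟩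
  have h5 := hM.bn.B.card_mul_index
  rw [h1, h4] at h5
  exact Nat.eq_of_mul_eq_mul_left (Nat.mul_pos Nat.card_pos Nat.card_pos) h5

theorem card_syl {G : Type*} [Group G] [Finite G] {p : ℕ} [hp : Fact p.Prime] (V : Sylow p G) {a c m k : ℕ}
    (h : c * Nat.card G = p ^ a * m) (hc : ¬ p ∣ c) (hm : ¬ p ∣ m) (hk : p ^ a = k) : Nat.card V = k := by
  have c0 : c ≠ 0 := by rintro rfl; exact hc (dvd_zero _)
  have m0 : m ≠ 0 := by rintro rfl; exact hm (dvd_zero _)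
  have h1 := congrArg (fun n => n.factorization p) h
  simp only [Nat.factorization_mul c0 Nat.card_pos.ne', Nat.factorization_mul (pow_ne_zero a hp.out.ne_zero) m0,
    Finsupp.add_apply, Nat.factorization_eq_zero_of_not_dvd hc, Nat.factorization_eq_zero_of_not_dvd hm,
    hp.out.factorization_pow, Finsupp.single_eq_same, zero_add, add_zero] at h1
  rw [V.card_eq_multiplicity, h1, hk]

theorem nd {p q : ℕ} (hp : p.Prime) (h : p ∣ q) (q0 : q ≠ 0) {i : ℕ} (hi : i ≠ 0) :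
    ¬ p ∣ q ^ i + 1 ∧ ¬ p ∣ q ^ i - 1 := by
  have h1 : p ∣ q ^ i := h.trans (dvd_pow_self q hi)
  exact ⟨fun e => hp.not_dvd_one ((Nat.dvd_add_right h1).1 e), fun e => hp.not_dvd_one
    ((Nat.dvd_sub_iff_right (Nat.one_le_iff_ne_zero.2 (pow_ne_zero i q0)) h1).1 e)⟩

end ParP

open Subgroup LieAll LAE ParP in
theorem par {G : Type*} [Group G] [Finite G] {Ω : Type*} [MulAction G Ω] [FaithfulSMul G Ω] {p : ℕ} [Fact p.Prime]
    (hG : IsLieTypeChar p G) (H : TwoTr G Ω) (hp : ¬ p ∣ Nat.card Ω) :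
    (∃ (F : Type) (_ : Field F) (_ : Fintype F) (d : ℕ), 3 ≤ d ∧ Nonempty (G ≃* PSL d F)) ∨
      Concl G (Nat.card Ω) := by
  have pp : p.Prime := Fact.out
  have := LieAll.isSimpleGroup hG
  have := H.finite
  obtain ⟨V⟩ : Nonempty (Sylow p G) := inferInstance
  obtain ⟨ω, hω⟩ := V.2.nonempty_fixed_point_of_prime_not_dvd_card Ω hp
  have VK : V.1 ≤ stabilizer G ω := fun g hg => hω ⟨g, hg⟩
  obtain ⟨D, ⟨e₀⟩, hR, -⟩ := exists_res hG
  obtain ⟨e, he'⟩ := exists_equiv_sylow e₀ V (D.good.tw.sylow p)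
  have he : ∀ x, x ∈ V.1 ↔ (e x : D.G) ∈ D.S.U := fun x => (he' x).trans (D.good.tw.mem_sylow p)
  have E := emb_top D.good e he
  obtain ⟨i⟩ := D.good.ne
  have : Nonempty D.B := ⟨D.T.orb i⟩
  have hN := E.par.ne_top
  have V1 : V.1 ≠ ⊥ := fun h => hN (by rw [h]; exact normalizer_eq_top _)
  obtain ⟨⟨z, zV, zC⟩, z1⟩ := ne_bot_iff_exists_ne_one.1
    (Core.inf_centralizer_ne_bot_of_isPGroup V.2 V.2 le_normalizer V1)
  have hz : ∀ L, V.1 ≤ L → L ≠ ⊤ → z ∈ pCoreOf p L ⊓ centralizer (pCoreOf p L : Set G) := fun L h h' =>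
    have h1 := centralizer_le (pCoreOf_le_sylow h) zC
    mem_inf.2 ⟨E.isCharP h h' (mem_inf.2 ⟨h zV, h1⟩), h1⟩
  by_cases hc : ∃ L, V.1 ≤ L ∧ L ≠ ⊤ ∧ ¬ L ≤ stabilizer G ω
  · obtain ⟨L, h1, h2, h3⟩ := hc
    obtain ⟨d, hd, hd'⟩ := SetLike.not_le_iff_exists.1 h3
    let _ := Fintype.ofFinite Ω
    let O := pCoreOf p (stabilizer G ω)
    have nO : stabilizer G ω ≤ normalizer (O ⊓ centralizer (O : Set G) : Subgroup G) :=
      (le_inf (le_normalizer_pCoreOf _) ((le_normalizer_pCoreOf _).trans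
        (Core.normalizer_le_normalizer_centralizer _))).trans inf_normalizer_le_normalizer_inf
    obtain ⟨F, i1, i2, n, hn, ⟨f⟩⟩ := Agent.S3410.result H.isMultiply ω (O ⊓ centralizer (O : Set G))
      (inf_le_left.trans (pCoreOf_le _)) (fun g hg x hx => (mem_normalizer_iff.1 (nO hg) x).1 hx)
      ⟨⟨fun a b => Subtype.ext (b.2.2 a a.2.1)⟩⟩
      ⟨z, hz _ VK (H.stab_ne_top ω), fun h => z1 (Subtype.ext h), d • ω, hd', by
        have h4 := VK (pCoreOf_le_sylow h1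
          ((mem_normalizer_iff.1 (le_normalizer_pCoreOf L (inv_mem hd)) z).1 (hz L h1 h2).1))
        rw [mem_stabilizer_iff, inv_inv, mul_smul, mul_smul, inv_smul_eq_iff] at h4
        exact h4⟩
    have h5 : generalizedFittingSubgroup G = ⊤ :=
      (Normal.eq_bot_or_eq_top Comp.fstar_normal).resolve_left Comp.fstar_ne_bot
    exact .inl ⟨F, i1, i2, n, hn, ⟨(topEquiv.symm.trans (MulEquiv.subgroupCongr h5.symm)).trans f⟩⟩
  push Not at hc
  right
  obtain ⟨J, hJ⟩ := E.par.exists_eq _ (hc _ le_normalizer hN)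
  have hJ' : J ≠ Set.univ := fun h => H.stab_ne_top ω (by rw [hJ, h, E.par.univ])
  have : Subsingleton D.B := by
    by_contra h
    rw [not_subsingleton_iff_nontrivial] at h
    refine hJ' (Set.eq_univ_of_forall fun b => ?_)
    have h1 : E.par.P {b} ≠ ⊤ := fun h => by
      obtain ⟨c, hc⟩ := exists_ne b
      exact hc (E.par.le_iff.1 (le_top.trans h.ge : E.par.P {c} ≤ E.par.P {b}) (Set.mem_singleton c))
    exact E.par.le_iff.1 ((hc _ (le_normalizer.trans (E.par.norm_le {b})) h1).trans hJ.le) (Set.mem_singleton b)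
  have hn : Nat.card Ω = Nat.card V + 1 := by
    have h1 : J = ∅ := Set.eq_empty_of_forall_notMem fun b hb =>
      hJ' (Set.eq_univ_of_forall fun c => Subsingleton.elim b c ▸ hb)
    rw [← H.index_stab ω, hJ, h1, E.par.empty, E.normalizer_eq, index_comap_of_surjective _ e.surjective,
      index_B _ (D.T.orb i), ← Nat.card_congr (subgroupOfEquivOfLe (inf_le_right : D.S.U ⊓ D.M ≤ D.M)).toEquiv]
    congr 1
    exact (Nat.card_congr (e.toEquiv.subtypeEquiv fun x => (he x).trans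
      ⟨fun h => ⟨h, (e x).2⟩, fun h => h.1⟩)).symm
  obtain (⟨F, _, _, _, h, ⟨f⟩⟩ | ⟨F, _, _, _, q, h, h2, ⟨f⟩⟩ | ⟨-, F, _, _, m, h1, h, ⟨f⟩⟩ |
      ⟨rfl, ⟨F, _, _, m, h1, h, ⟨f⟩⟩ | ⟨F, _, _, h, ⟨f⟩⟩⟩) | ⟨-, h, -⟩ :=
    hR ⟨fun b c => ⟨1, 1, ChevAut.Perms.one _ _, Subsingleton.elim _ _⟩,
      fun h => absurd h (not_nontrivial_iff_subsingleton.2 this)⟩
  · obtain ⟨_, H⟩ := transfer H f
    exact (psl2 h H).of_equiv f
  · obtain ⟨k, -, hk⟩ := FiniteField.card F p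
    obtain ⟨a, -, ha⟩ := (Nat.dvd_prime_pow pp).1 (show q ∣ p ^ (k : ℕ) by
      rw [← hk, h]; exact dvd_pow_self q two_ne_zero)
    have q1 : 1 < q ^ 2 := h ▸ Fintype.one_lt_card
    have q2 : 2 ≤ q := by
      by_contra h4
      have : q ≤ 1 := by omega
      interval_cases q <;> omega
    have pq : p ∣ q := ha ▸ dvd_pow_self p (by rintro rfl; rw [pow_zero] at ha; omega)
    have h3 := Agent.S0280.result h 3 (by norm_num)
    have n1 := nd pp pq (by omega) (i := 1) (by norm_num)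
    have n2 := nd pp pq (by omega) (i := 2) (by norm_num)
    have n3 := nd pp pq (by omega) (i := 3) (by norm_num)
    refine .inr (.inr (.inl ⟨F, _, _, q, by omega, h, ⟨f⟩, ?_⟩))
    rw [hn, card_syl V (c := Nat.gcd 3 (q + 1) * (q + 1)) (a := a * 3)
      (m := (q ^ 1 + 1) * (q ^ 2 - 1) * (q ^ 3 + 1)) (k := q ^ 3) ?_ ?_ ?_ (by rw [pow_mul, ha])]
    · rw [Nat.card_congr f.toEquiv, mul_assoc, h3, pow_mul, ← ha]
      simp [Finset.prod_range_succ, Nat.even_add_one]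
    · rw [pow_one] at n1
      exact fun e => n1.1 (((Nat.Prime.dvd_mul pp).1 e).elim (·.trans (Nat.gcd_dvd_right _ _)) id)
    · exact fun e => ((Nat.Prime.dvd_mul pp).1 e).elim
        (fun e => ((Nat.Prime.dvd_mul pp).1 e).elim n1.1 n2.2) n3.1
  · obtain ⟨_, H⟩ := transfer H f
    exact .inr (.inr (.inr (.inl ⟨F, _, _, m, h1, h, ⟨f⟩, sz h1 h H⟩)))
  · refine .inr (.inr (.inr (.inr (.inl ⟨F, _, _, m, h1, h, ⟨f⟩, ?_⟩))))
    have pq : 3 ∣ 3 ^ (2 * m + 1) := dvd_pow_self 3 (by omega)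
    have n1 := nd pp pq (by positivity) (i := 1) (by norm_num)
    have n3 := nd pp pq (by positivity) (i := 3) (by norm_num)
    rw [pow_one] at n1
    rw [hn, card_syl V (c := 1) (a := (2 * m + 1) * 3)
      (m := (3 ^ (2 * m + 1) - 1) * ((3 ^ (2 * m + 1)) ^ 3 + 1)) (k := Fintype.card F ^ 3) ?_ (by norm_num)
      (fun e => ((Nat.Prime.dvd_mul pp).1 e).elim n1.2 n3.1) (by rw [pow_mul, h])]
    rw [Nat.card_congr f.toEquiv, one_mul, Agent.S1069.result h, pow_mul 3 _ 3, mul_assoc]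
  · obtain ⟨_, H⟩ := transfer H f
    exact (psl2 (by omega) H).of_equiv f
  · exact absurd h (not_nontrivial_iff_subsingleton.2 this)

end CfsgLib.CKS
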