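import Mathlib
import Cfsg.Agent.Lib.CKS.Abs2
import Cfsg.Agent.Lib.CKS.Abs3
import Cfsg.Agent.Lib.Ree.Split
import Cfsg.Agent.Lib.Ree.Twisted
import Cfsg.Agent.Lib.W2.Tools
import Cfsg.Agent.Lib.Coprime.Generation
import Cfsg.Agent.S2343

/-! CKS, package REE. -/

set_option linter.style.haveILetI false

namespace CfsgLib.CKS
open Cfsg MulAction

theorem ree_arith {q r n s : ℤ} (hq : 27 ≤ q) (h3q : 3 ∣ q) (h3 : 3 ∣ r) (hr : 1 < r) (hrq : r ∣ q)
    (hs : 0 ≤ s) (hn : q * r ∣ n) (h : (n - 1) * s = (q ^ 3 + 1) * (r - 1)) (hl : q ^ 2 - q + 1 ≤ n - 1) :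
    n = q ^ 2 ∧ r = q := by
  obtain ⟨t, ht⟩ := hn
  obtain ⟨w, hw⟩ := id hrq
  have h1 : q * r ≤ s + r - 1 := Int.le_of_dvd (by omega)
    ⟨t * s - q * w * (r - 1), by rw [ht] at h; linear_combination -h - q ^ 2 * (r - 1) * hw⟩
  have h2 : q ≤ r * t := by
    by_contra k
    have : q * (r * t) ≤ q * (q - 1) := mul_le_mul_of_nonneg_left (by omega) (by omega)
    nlinarith
  have h4 : r * t < q + 2 := by
    by_contra k
    have k1 : q * (q + 2) ≤ q * (r * t) := mul_le_mul_of_nonneg_left (by omega) (by omega)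
    have k2 : (q * (q + 2) - 1) * ((q - 1) * r + 1) ≤ (n - 1) * s :=
      mul_le_mul (by nlinarith) (by nlinarith) (by nlinarith) (by nlinarith)
    have k3 : 0 ≤ (q ^ 2 - 3 * q) * r := mul_nonneg (by nlinarith) (by omega)
    have k4 : 0 < q ^ 3 := by positivity
    nlinarith
  have h5 : r * t = q := by
    have := h3.mul_right t
    omega
  have h6 : n = q ^ 2 := by rw [ht, mul_assoc, h5, sq]
  refine ⟨h6, le_antisymm (Int.le_of_dvd (by omega) hrq) ?_⟩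
  have h7 : (q - 1) * s = (q ^ 2 - q + 1) * (r - 1) :=
    mul_left_cancel₀ (show q + 1 ≠ 0 by omega) (by rw [h6] at h; linear_combination h)
  have h8 : q - 1 ∣ r - 1 := ⟨s - q * (r - 1), by linear_combination -h7⟩
  have := Int.le_of_dvd (by omega) h8
  omega

open Tech PComp Subgroup in
/-- a Frobenius complement is not a non-cyclic abelian group -/
theorem ree_end {G : Type*} [Group G] [Finite G] {p : ℕ} [Fact p.Prime] {L E D : Subgroup G}
    (hE : IsSylowIn p E L) (hab : ∀ x ∈ E, ∀ y ∈ E, x * y = y * x) (hc : ¬ IsCyclic E)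
    (hD : ∀ e ∈ E, e ≠ 1 → ∀ x, x⁻¹ * e * x ∈ E → x ∈ D) (hp : IsPGroup p ↥(L ⊓ D))
    {l : ℕ} (hl : l.Prime) (hlp : l ≠ p) (hd : l ∣ Nat.card L) : False := by
  haveI : IsMulCommutative E := ⟨⟨fun a b => Subtype.ext (hab _ a.2 _ b.2)⟩⟩
  haveI := Fact.mk hl
  obtain ⟨e, he, e1⟩ : ∃ e ∈ E, e ≠ 1 := by
    by_contra k
    push Not at k
    exact hc ((eq_bot_iff_forall E).2 k ▸ inferInstance)
  have hED : E ≤ D := fun x hx => hD e he e1 x (mul_mem (mul_mem (inv_mem hx) he) hx)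
  have h1 : L ⊓ D = E := hE.eq_of_le hp (le_inf hE.le hED) inf_le_left
  have h2 := W2.npc_of_burnside hE fun n hn k x hx =>
    hab n (h1.le ⟨hn, hD e he e1 n (conj_mem_of_mem_normalizer' k he)⟩) x hx
  obtain ⟨x, hx⟩ := exists_prime_orderOf_dvd_card' (G := L) l hd
  rw [← orderOf_coe] at hx
  have h3 := W2.mem_opOf_of_npc h2 x.2 (hx ▸ (Nat.coprime_primes hl Fact.out).2 hlp)
  obtain ⟨k, hk⟩ := IsPGroup.iff_card.1 hE.pgroup
  have h4 : (Nat.card E).Coprime (Nat.card (opOf p L)) := hk ▸ (coprime_card_opOf L).symm.pow_left k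
  obtain ⟨a, ha, a1, h5⟩ := Coprime.exists_centralizer_ne_bot hc (hE.le.trans (le_normalizer_opOf L)) h4
    fun k => hl.one_lt.ne' (by rw [← hx, orderOf_eq_one_iff]; exact mem_bot.1 (k ▸ h3))
  refine h5 (eq_bot_iff.2 fun y hy => ?_)
  have h6 : y ∈ E := h1.le ⟨opOf_le L hy.1, hD a ha a1 y (by
    rwa [mul_assoc, ← mem_centralizer_singleton_iff.1 hy.2, inv_mul_cancel_left])⟩
  exact (disjoint_of_coprime_natCard h4).le_bot ⟨h6, hy.1⟩

section model
open Ree Tech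
variable {K : Type*} [Field K] [CharP K 3] {φ : K →+* K} {G : Type*} [Group G] (M : Model G K φ)
  (hφ : IsTits φ)

/-- the centre of `U` -/
def reeZ : Subgroup G := MonoidHom.range (MonoidHom.mk' (fun c : Multiplicative K => M.u 0 0 c.toAdd)
  fun a b => by simp [M.u_mul hφ])

/-- a complement to the centre in `U'` -/
def reeA : Subgroup G := MonoidHom.range (MonoidHom.mk' (fun c : Multiplicative K => M.u 0 c.toAdd 0)
  fun a b => by simp [M.u_mul hφ])

theorem mem_reeZ {g : G} : g ∈ reeZ M hφ ↔ ∃ c, M.u 0 0 c = g := Iff.rfl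
theorem mem_reeA {g : G} : g ∈ reeA M hφ ↔ ∃ c, M.u 0 c 0 = g := Iff.rfl

theorem card_reeZ : Nat.card (reeZ M hφ) = Nat.card K :=
  Nat.card_range_of_injective (f := fun c : K => M.u 0 0 c) fun _ _ h => (M.u_inj h).2.2

theorem card_reeA : Nat.card (reeA M hφ) = Nat.card K :=
  Nat.card_range_of_injective (f := fun c : K => M.u 0 c 0) fun _ _ h => (M.u_inj h).2.1

theorem reeZ_norm : ∀ g ∈ M.B hφ, ∀ z ∈ reeZ M hφ, g * z * g⁻¹ ∈ reeZ M hφ := by
  rintro g hg _ ⟨c, rfl⟩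
  obtain ⟨x, y, z, l, rfl⟩ := (M.mem_B hφ).1 hg
  refine ⟨(l * c.toAdd : K), ?_⟩
  have h := M.h_conj hφ l 0 0 c.toAdd
  have k : M.u x y z * M.u 0 0 (l * c.toAdd) = M.u 0 0 (l * c.toAdd) * M.u x y z := by
    simp [M.u_mul hφ, add_comm]
  simp only [mul_zero] at h
  calc M.u 0 0 (l * c.toAdd) = M.u x y z * (M.h l * M.u 0 0 c.toAdd * (M.h l)⁻¹) * (M.u x y z)⁻¹ := by
        rw [h, k, mul_inv_cancel_right]
    _ = M.u x y z * M.h l * M.u 0 0 c.toAdd * (M.u x y z * M.h l)⁻¹ := by group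

include M hφ in
theorem ree_model [Finite K] [IsSimpleGroup G] {k : ℕ} (hk : Nat.card K = 3 ^ k) (h27 : 27 ≤ Nat.card K)
    {Ω : Type*} [MulAction G Ω] (H : TwoTr G Ω) (hB : BTr 3 G Ω)
    (hl : Nat.card K ^ 2 - Nat.card K + 1 ≤ Nat.card Ω - 1) : False := by
  haveI := M.finite
  haveI := H.finite
  haveI : Fact (Nat.Prime 3) := ⟨Nat.prime_three⟩
  have hT : TrOn (M.B hφ) Ω := by
    have := hB (M.sylowU hφ)
    rwa [M.coe_sylowU, M.normalizer_U] at this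
  have ZU : reeZ M hφ ≤ M.U hφ := by rintro _ ⟨c, rfl⟩; exact M.u_mem_U hφ _ _ _
  have AU : reeA M hφ ≤ M.U hφ := by rintro _ ⟨c, rfl⟩; exact M.u_mem_U hφ _ _ _
  obtain ⟨r, hr⟩ := hT.exists_orb (reeZ_norm M hφ)
  have r1 : 1 < r := hr.one_lt H fun h => by
    have h1 := Subgroup.mem_center_iff.1 (h ⟨(1 : K), rfl⟩) M.n
    have h2 : M.n * M.u 0 0 1 * M.n = M.u 0 0 1 := by
      rw [show M.n * M.u 0 0 1 = M.u 0 0 1 * M.n from h1, mul_assoc, M.n_mul_n, mul_one]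
    exact one_ne_zero (M.u_eq_one (M.eq_one_of_n_u_n_mem hφ (M.u_mem_U hφ 0 0 1)
      (h2.symm ▸ M.u_mem_B hφ 0 0 1))).2.2
  have hn := H.big
  haveI : Nontrivial Ω := Finite.one_lt_card_iff_nontrivial.1 (by omega)
  have r2 := hr.dvd_card
  rw [card_reeZ] at r2
  obtain ⟨s, hs⟩ := H.numZ (reeZ_norm M hφ) hr
  rw [M.index_B] at hs
  have h1 := heis_conj ((M.isPGroup_U hφ).to_le AU) ((M.isPGroup_U hφ).to_le ZU)
    (by rintro _ ⟨b, rfl⟩ _ ⟨c, rfl⟩; simp [Commute, SemiconjBy, M.u_mul hφ])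
    (by
      rintro _ ⟨b, rfl⟩ h _ ⟨c, rfl⟩
      have hb : b.toAdd ≠ 0 := fun e => h (by simp [e, M.u_zero])
      refine ⟨M.u (c.toAdd / b.toAdd) 0 0, mul_inv_eq_of_eq_mul ?_⟩
      simp [M.u_mul hφ, mul_div_cancel₀ _ hb]) hr r1
  rw [card_reeA] at h1
  have q3 : 3 ∣ Nat.card K := hk ▸ dvd_pow_self 3 fun e => by simp [hk, e] at h27
  have r3 : 3 ∣ r := by
    obtain ⟨j, -, rfl⟩ := (Nat.dvd_prime_pow Nat.prime_three).1 (hk ▸ r2)
    exact dvd_pow_self 3 fun e => by simp [e] at r1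
  have e1 : Nat.card K ≤ Nat.card K ^ 2 := Nat.le_self_pow two_ne_zero _
  obtain ⟨n2, rfl⟩ : Nat.card Ω = Nat.card K ^ 2 ∧ r = Nat.card K := by
    have e2 : 1 ≤ Nat.card Ω := by omega
    zify [e1, e2, r1.le] at h27 q3 r3 r1 r2 h1 hs hl ⊢
    exact ree_arith h27 q3 r3 r1 r2 (Int.natCast_nonneg s) h1 hs hl
  have semi : Semi (reeZ M hφ) Ω := Orb.semi (by rwa [card_reeZ])
  obtain ⟨a, b, hab⟩ := exists_pair_ne Ω
  have cL : Nat.card ↥(stabilizer G a ⊓ stabilizer G b) = Nat.card K * (Nat.card K * (Nat.card K - 1) + 1) := by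
    have := H.card_stab_two hab
    rw [M.card_G hφ, n2] at this
    obtain ⟨j, hj⟩ : ∃ j, Nat.card K = j + 1 := ⟨Nat.card K - 1, by omega⟩
    rw [hj] at this h27 ⊢
    rw [show (j + 1) ^ 2 - 1 = j * (j + 2) from Nat.sub_eq_of_eq_add (by ring)] at this
    refine Nat.eq_of_mul_eq_mul_right (Nat.mul_pos (by positivity) (Nat.mul_pos (by omega) (by omega)))
      (this.trans ?_)
    simp only [Nat.add_sub_cancel]
    ring
  obtain ⟨E₀, hE₀⟩ := exists_isSylowIn 3 (stabilizer G a ⊓ stabilizer G b)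
  obtain ⟨g, -, hg⟩ := (IsSylowIn.of_sylow_top (M.sylowU hφ)).exists_cj_le hE₀.pgroup le_top
  rw [M.coe_sylowU] at hg
  have hE := hE₀.cj g
  rw [← card_cj g] at cL
  have fix : ∀ x ∈ cj g (stabilizer G a ⊓ stabilizer G b), x • g • a = g • a := fun x hx => by
    have := mem_stabilizer_iff.1 (mem_cj.1 hx).1
    rwa [mul_smul, mul_smul, inv_smul_eq_iff] at this
  generalize cj g (stabilizer G a ⊓ stabilizer G b) = L at hE cL fix
  generalize cj g E₀ = E at hE hg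
  have form : ∀ e ∈ E, ∃ y z, e = M.u 0 y z := fun e he => by
    obtain ⟨x, y, z, rfl⟩ := (M.mem_U hφ).1 (hg he)
    by_cases hx : x = 0
    · exact ⟨y, z, hx ▸ rfl⟩
    refine absurd (fix _ (pow_mem (hE.le he) 3)) (semi _ ?_ ?_ _)
    · exact ⟨(-(φ x * x ^ 2) : K), (M.u_pow_three hφ x y z).symm⟩
    · rw [M.u_pow_three hφ]
      exact fun h => by simpa [hx] using (M.u_eq_one h).2.2
  have c3 : ¬ 3 ∣ Nat.card K * (Nat.card K - 1) + 1 := fun h => by
    have := q3.mul_right (Nat.card K - 1)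
    omega
  obtain ⟨l, l1, l2⟩ := Nat.exists_prime_and_dvd (n := Nat.card K * (Nat.card K - 1) + 1) (by
    have := Nat.mul_pos (show 0 < Nat.card K by omega) (show 0 < Nat.card K - 1 by omega)
    omega)
  refine ree_end (D := M.B hφ) hE (fun x hx y hy => ?_) (fun h => ?_) (fun e he e1 x hx => ?_) ?_ l1
    (fun e => c3 (e ▸ l2)) (cL ▸ l2.mul_left _)
  · obtain ⟨_, _, rfl⟩ := form x hx
    obtain ⟨_, _, rfl⟩ := form y hy
    simp [M.u_mul hφ, add_comm]
  · have h2 : Nat.card E ∣ 3 := by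
      rw [← IsCyclic.exponent_eq_card]
      refine Monoid.exponent_dvd_of_forall_pow_eq_one fun e => Subtype.ext ?_
      obtain ⟨y, z, h⟩ := form e e.2
      simp [h, M.u_pow_three hφ, M.u_zero]
    have h3 : Nat.card K ∣ Nat.card E := by
      refine Nat.Coprime.dvd_of_dvd_mul_right (k := Nat.card K) (n := E.relIndex L) ?_ ?_
      · exact hk ▸ ((Nat.Prime.coprime_iff_not_dvd Nat.prime_three).2 hE.not_dvd).pow_left k
      · rw [card_mul_relIndex' hE.le, cL]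
        exact dvd_mul_right _ _
    have := Nat.le_of_dvd (by norm_num) (h3.trans h2)
    omega
  · by_contra hx'
    exact e1 (M.eq_one_of_conj_mem_B hφ (hg he) hx' (M.U_le_B hφ (hg hx)))
  · have h2 := Subgroup.card_dvd_of_le (inf_le_right : L ⊓ M.B hφ ≤ _)
    have h3 := Subgroup.card_dvd_of_le (inf_le_left : L ⊓ M.B hφ ≤ _)
    rw [M.card_B] at h2
    rw [cL] at h3
    have h4 := Nat.dvd_gcd h2 (h3.trans (Nat.mul_dvd_mul_right (dvd_pow_self _ three_ne_zero) _))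
    rw [Nat.gcd_mul_left, Nat.Coprime.gcd_eq_one (by simp), mul_one, hk, ← pow_mul] at h4
    obtain ⟨j, -, hj⟩ := (Nat.dvd_prime_pow Nat.prime_three).1 h4
    exact IsPGroup.of_card hj

end model

variable {F : Type} [Field F] [Fintype F] {Ω : Type*}

theorem ree {m : ℕ} (hm : 1 ≤ m) (hF : Fintype.card F = 3 ^ (2 * m + 1)) [MulAction (Lie.twistedG2 F (3 ^ m)) Ω]
    (H : TwoTr (Lie.twistedG2 F (3 ^ m)) Ω) (hB : BTr 3 (Lie.twistedG2 F (3 ^ m)) Ω) : False := by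
  haveI := Ree.charP_three hF
  haveI := H.finite
  have hF' := Ree.natCard_eq hF
  have h27 : 27 ≤ Nat.card F := hF' ▸ Nat.pow_le_pow_right (n := 3) (i := 3) (by norm_num) (by omega)
  haveI := (Ree.reeModel hF).finite
  haveI := (Ree.reeModel hF).isSimpleGroup (Ree.isTits_tits hF) (Ree.isSquare_or_neg hF) (by omega)
  obtain ⟨ρ, hρ⟩ := H.exists_rep
  have := H.big
  exact ree_model (Ree.reeModel hF) (Ree.isTits_tits hF) hF' h27 H hB
    (hF' ▸ Cfsg.Agent.S2343.result m hm hF _ ρ hρ (by omega))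

end CfsgLib.CKS
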