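import Mathlib
import Cfsg.Agent.Lib.CKS.RootC
import Cfsg.Agent.Lib.Unitary.Simple
import Cfsg.Agent.S2148
import Cfsg.Agent.S2149
import Cfsg.Agent.S2150

/-! CKS, package SU. -/

namespace CfsgLib.CKS
open Cfsg MulAction
open CfsgLib.MinIdx CfsgLib.MinIdx.Ctx CfsgLib.Forms CfsgLib.RootMax CfsgLib.ClMax CfsgLib.Unitary Module Submodule

section abstract

variable {F : Type*} [Field F] {σ : F →+* F} {V : Type*} [AddCommGroup V] [Module F V] {P : PQ σ V}
  [FiniteDimensional F V]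

theorem su_witt (hH : P.IsHerm) (hP : P.Nondeg) (h3 : 3 ≤ finrank F V) {u u' : V} (hu : u ≠ 0) (hu' : u' ≠ 0)
    (hN : P.B u' u' = P.B u u) : ∃ g ∈ P.isom ⊓ SLV F V, g u = u' := by
  obtain ⟨g, hg, -, h2⟩ := P.witt_step hP ⊥ hu hu' (by simp) ((hH.N_sub_iff _ _).2 hN)
  obtain ⟨z, hz, hz'⟩ := exists_mem_notMem (W := P.perp (span F {u'})) (W' := span F {u'}) (by
    have := P.finrank_perp hP (span F {u'})
    have := finrank_one_le (F := F) u'
    omega)
  obtain ⟨b, hb, hb0⟩ := exists_ni_perp hH hP hz hz'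
  obtain ⟨k, k1, k2, k3⟩ := herm_exists_qrefl hH hP hb0 (conj_det_mul_det hP hg.symm)
  refine ⟨k * g, ⟨k1.comp hg, mem_SLV.2 ?_⟩, ?_⟩
  · change LinearMap.det (k.toLinearMap ∘ₗ g.toLinearMap) = 1
    rw [LinearMap.det_comp, k2, LinearEquiv.det_symm_mul_det]
  · change k (g u) = u'
    rw [h2, k3, P.B_eq_zero_comm.1 (hb u' (mem_span_singleton_self _))]
    simp

omit [FiniteDimensional F V] in
theorem su_Λ (hH : P.IsHerm) : ∀ c ∈ P.Λ, ∃ t, c = P.ε * t - σ t := fun c hc => by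
  obtain ⟨θ, h⟩ := hH.exists_trace_one
  exact ⟨c * θ, by rw [hH.ε_eq, map_mul, hΛσ hH hc]; linear_combination (-c) * h⟩

end abstract

variable {p : ℕ} [Fact p.Prime] {F : Type} [Field F] [Fintype F] [CharP F p] {Ω : Type*}

omit [Fact p.Prime] [CharP F p] in
theorem su_index {n q : ℕ} (hF : Fintype.card F = q ^ 2) (h3 : 3 ≤ n) {v : Fin n → F} (hv : v ≠ 0)
    (hv0 : (uPQ hF n).B v v = 0) :
    (lineStab ((uPQ hF n).isom ⊓ SLV F (Fin n → F)).subtype v).index * (q ^ 2 - 1) + 1 =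
      Nat.card {u : Fin n → F // Cfsg.hermForm n F q u u = 0} := by
  have h2 : ∀ u, (∃ g, ((uPQ hF n).isom ⊓ SLV F (Fin n → F)).subtype g v = u) ↔ u ≠ 0 ∧ (uPQ hF n).B u u = 0 :=
    fun u => ⟨by rintro ⟨g, rfl⟩; exact ⟨fun h => hv (g.1.map_eq_zero_iff.1 h), (g.2.1.B_eq v v).trans hv0⟩, fun h =>
      let ⟨g, k1, k2⟩ := su_witt (uPQ_isHerm hF n) (uPQ_nondeg hF n) (by simpa) hv h.1 (h.2.trans hv0.symm)
      ⟨⟨g, k1⟩, k2⟩⟩
  have h1 := index_lineStab_mul ((uPQ hF n).isom ⊓ SLV F (Fin n → F)).subtype hv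
  simp only [h2] at h1
  have h3 : {c : F | c • v ≠ 0 ∧ (uPQ hF n).B (c • v) (c • v) = 0} = {0}ᶜ := by
    ext c; simp [hv0, hv]
  rw [h3, Set.ncard_compl, Set.ncard_singleton, Nat.card_eq_fintype_card, hF] at h1
  rw [h1, ← Set.ncard_insert_of_notMem (a := 0) (by simp), ← Nat.card_coe_set_eq]
  refine Nat.card_congr (Equiv.subtypeEquivRight fun u => ?_)
  by_cases h : u = 0 <;> simp [h, uPQ_B, herm_zero_left]

omit [Fact p.Prime] [CharP F p] in
theorem su_equiv {n q : ℕ} (hF : Fintype.card F = q ^ 2) :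
    Nonempty (Cfsg.SU n F q ≃* ((uPQ hF n).isom ⊓ SLV F (Fin n → F) :)) := by
  let e : Cfsg.SU n F q →* ((uPQ hF n).isom ⊓ SLV F (Fin n → F) :) :=
    (matEquiv (suMat n F q)).codRestrict _ fun A => ⟨su_isIso hF n A, mem_SLV.2 (su_det n A)⟩
  exact ⟨MulEquiv.ofBijective e ⟨fun A B h => matEquiv_injective _ (suMat_injective n)
    (congrArg Subtype.val h), fun g =>
      let ⟨A, hA⟩ := exists_su_of_equiv hF n g.1 g.2.1 (mem_SLV.1 g.2.2)
      ⟨A, Subtype.ext (LinearEquiv.ext hA)⟩⟩⟩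

omit [Fact p.Prime] [CharP F p] in
theorem su_dvd {n q : ℕ} (hF : Fintype.card F = q ^ 2) (h3 : 3 ≤ n) :
    q ^ 2 ∣ Nat.card {u : Fin n → F // Cfsg.hermForm n F q u u = 0} := by
  obtain ⟨m, rfl⟩ : ∃ m, n = m + 3 := ⟨n - 3, by omega⟩
  have h1 := card_norm_zero_int hF (m + 3)
  have h2 : (q : ℤ) ≠ 0 := by have := two_le_q hF; positivity
  have h4 : ((-1 : ℤ) ^ (m + 3)) * (-1) ^ (m + 3) = 1 := by rw [← mul_pow]; simp
  generalize (-1 : ℤ) ^ (m + 3) = e at h1 h4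
  refine Int.natCast_dvd_natCast.1 ⟨q ^ m * (q ^ (m + 3) + q * e - e), mul_left_cancel₀ h2 ?_⟩
  rw [h1]
  push_cast
  linear_combination (-(q : ℤ)) * h4

theorem su {d q : ℕ} (hF : Fintype.card F = q ^ 2) (hd : 3 ≤ d) (h : ¬ (d = 3 ∧ q = 2)) [MulAction (PSU d F q) Ω]
    (H : TwoTr (PSU d F q) Ω) (hB : BTr p (PSU d F q) Ω) : False := by
  have := isSimpleGroup_PSU hF hd h
  have hq := two_le_q hF
  have hK := rootGroup_su hF d (by omega)
  have hP := uPQ_nondeg hF d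
  have hH := uPQ_isHerm hF d
  obtain ⟨e⟩ := su_equiv (n := d) hF
  obtain ⟨_, H', hB'⟩ := H.exists_lift (K := (ctxOf hP hK).K) e
  have := finite_K (C := ctxOf hP hK)
  replace hB' := hB' p hB
  have := H.finite
  have n3 := H.big
  have pt : ∀ {x}, (uPQ hF d).Sing x → (ctxOf hP hK).Pt x := fun h => ⟨h, by rw [PQ.perp_bot]; trivial⟩
  obtain ⟨x, -, hx0, hx⟩ := herm_exists_sing hH (Z := ⊤) (by simp; omega)
  obtain ⟨r, s, r1, hr, rq, hs⟩ := root_num H' hB' rfl (herm_Λ_ne hH) (pt hx) hx0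
  rw [card_uPQ_Λ] at rq
  have rq' := Nat.le_of_dvd (by omega) rq
  have hv := su_index hF hd hx0 hx.self_eq
  have q1 : 1 ≤ q ^ 2 := Nat.one_le_pow _ _ (by omega)
  have hv1 := modEq_one_of q1 hv (su_dvd hF hd)
  change (Nat.card Ω - 1) * s = (lineStab ((uPQ hF d).isom ⊓ SLV F (Fin d → F)).subtype x).index * (r - 1) at hs
  generalize (lineStab ((uPQ hF d).isom ⊓ SLV F (Fin d → F)).subtype x).index = v at hs hv hv1
  have hv2 := hv.trans (card_isotropic hF d)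
  rw [Nat.add_right_cancel_iff] at hv2
  have q0 : 0 < q ^ 2 - 1 := Nat.sub_pos_of_lt (Nat.one_lt_pow two_ne_zero hq)
  obtain rfl | d4 := hd.eq_or_lt
  · have h1 : p * r ∣ Nat.card Ω := heis0 pgroup_rG (fun g hg => comm_zG (pt hx) (rG_fix (pt hx) hg))
      (zG_le_comm rfl (su_Λ hH) hx0 (by simp)) hr r1
    have pp : p.Prime := Fact.out
    have pq : p ∣ q := pp.dvd_of_dvd_pow (n := 2) (by
      obtain ⟨n, -, hn⟩ := FiniteField.card F p
      rw [← hF, hn]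
      exact dvd_pow_self _ n.ne_zero)
    have h2 := le_of_num r1 (by omega) h1 (hv1.of_dvd (by rw [pow_two]; exact Nat.mul_dvd_mul pq rq)) hs
    rw [if_neg (by decide)] at hv2
    obtain rfl := Nat.eq_of_mul_eq_mul_right q0 hv2
    obtain ⟨r, rfl⟩ : ∃ k, r = k + 1 := ⟨r - 1, by omega⟩
    rw [Nat.add_sub_cancel] at hs
    by_cases q5 : q = 5
    · subst q5
      have h3 := H.le_card (Agent.S2149.result hF).1
      obtain rfl := (Nat.prime_dvd_prime_iff_eq pp Nat.prime_five).1 pq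
      have := Nat.mul_le_mul (show 49 ≤ Nat.card Ω - 1 by omega) (show 4 * r + 5 ≤ s by omega)
      omega
    · have h3 := H.le_card (Agent.S2148.result q hF (by omega) q5).1
      have h4 : 2 * (r + 1) ≤ p * (r + 1) := Nat.mul_le_mul_right _ pp.two_le
      have h5 := Nat.mul_le_mul (show q ^ 3 ≤ Nat.card Ω - 1 by omega) (show r + 2 ≤ s by omega)
      have h6 : q ≤ q ^ 3 := Nat.le_self_pow three_ne_zero q
      rw [hs] at h5
      nlinarith
  obtain ⟨x', hx', e1, -⟩ := (uPQ hF d).exists_partner hP ⊥ hx hx0 (by simp)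
  obtain ⟨y, hy, hy0, hy1⟩ := herm_exists_sing hH (Z := (uPQ hF d).perp (span F {x, x'})) (by
    have h1 := (uPQ hF d).finrank_perp hP (span F {x, x'})
    have := finrank_two_le (F := F) x x'
    rw [finrank_fin_fun] at h1
    omega)
  obtain ⟨A, a1, a2, a3⟩ := exists_aG (pt hx) hx0 (pt hy1) (hy x (subset_span (by simp))) fun k => by
    obtain ⟨t, rfl⟩ := mem_span_singleton.1 k
    have := hy x' (subset_span (by simp))
    rw [PQ.B_smul_right, e1, mul_one] at this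
    exact hy0 (by rw [this, zero_smul])
  have h1 : Nat.card A * r ∣ Nat.card Ω := heis_conj (pgroup_rG.to_le a1) pgroup_zG
    (fun g hg => comm_zG (pt hx) (rG_fix (pt hx) (a1 hg))) (fun a ha h1 z hz => by
      obtain ⟨u, k1, k2, rfl⟩ := a3 a ha h1
      exact (exists_conj_z rfl (su_Λ hH) k1 k2 hz).imp fun _ => And.right) hr r1
  rw [a2, Nat.card_eq_fintype_card, hF] at h1
  have h2 := le_of_num r1 (by omega) (dvd_of_mul_right_dvd h1) hv1 hs
  obtain ⟨q, rfl⟩ : ∃ k, q = k + 1 := ⟨q - 1, by omega⟩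
  have h3 : (Nat.card Ω - 1) * (q ^ 2 + q + 1) ≤ v * q :=
    (Nat.mul_le_mul_left _ (by nlinarith)).trans (hs.le.trans (Nat.mul_le_mul_left _ (by omega)))
  obtain rfl | d5 := (Nat.succ_le_of_lt d4).eq_or_lt
  · have h4 := H.le_card (Agent.S2150.result _ hF hq).1
    rw [if_pos (by decide), show (q + 1) ^ Nat.succ 3 - 1 = ((q + 1) ^ 2 - 1) * ((q + 1) ^ 2 + 1) from
      Nat.sub_eq_of_eq_add (by zify [q1]; ring), mul_assoc, mul_comm ((q + 1) ^ 2 - 1)] at hv2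
    obtain rfl := Nat.eq_of_mul_eq_mul_right q0 hv2
    have h5 := Nat.mul_le_mul_right (q ^ 2 + q + 1)
      (show (q + 1) * ((q + 1) ^ 3 + 1) + (q + 1) ^ 3 ≤ Nat.card Ω - 1 by
        rw [add_mul (q + 1), one_mul] at h4; omega)
    have h6 := h5.trans h3
    simp only [Nat.succ_sub_one] at h6
    nlinarith [Nat.zero_le (q ^ 5), Nat.zero_le (q ^ 4), Nat.zero_le (q ^ 3), Nat.zero_le (q ^ 2)]
  have h4 : 3 * (Nat.card Ω - 1) ≤ v := Nat.le_of_mul_le_mul_right (le_trans (by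
    rw [mul_comm 3, mul_assoc]
    exact Nat.mul_le_mul_left _ (by nlinarith [sq_nonneg ((q : ℤ) - 1)])) h3) (show 0 < q by omega)
  have h5 := H'.le_card (su_lower hF d5 (d := Nat.card Ω + 1)
    (by rw [← hv]; exact Nat.add_le_add_right (Nat.mul_le_mul_right _ (by omega)) 1) (by
      refine Nat.le_of_mul_le_mul_left ?_ three_pos
      have k1 : 3 * ((Nat.card Ω + 1) * (q + 1 + 1)) ≤ 2 * (v * ((q + 1) ^ 2 - 1)) := by
        rw [← mul_assoc, ← mul_assoc, sq_sub_one_eq _ (by omega)]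
        exact Nat.mul_le_mul (by omega) (Nat.le_mul_of_pos_right _ (by omega))
      have k2 : 2 ≤ (q + 1) ^ (d - 1) := hq.trans (Nat.le_self_pow (by omega) _)
      refine k1.trans ?_
      rw [hv2]
      split_ifs
      · rw [mul_comm (_ - 1), ← mul_assoc, ← mul_assoc]
        exact Nat.mul_le_mul_right _ (by omega)
      · rw [mul_comm (_ + 1), ← mul_assoc, ← mul_assoc]
        exact Nat.mul_le_mul_right _ (by omega)))
  omega

end CfsgLib.CKS
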