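import Mathlib
import Cfsg.Agent.Lib.CKS.Abs2
import Cfsg.Agent.Lib.CKS.TF4a
import Cfsg.Agent.Lib.F42.Geo1

/-! CKS, package TF4. -/

namespace CfsgLib.CKS
open Cfsg MulAction

namespace TF
open F42 Subgroup

variable {K G : Type*} [Field K] [Finite K] [Group G] [Finite G] {σ : K →+* K} {sz : F42.Sz K} (O : OP σ sz G)
  (hb : O.Braid) (hG : O.G0 = ⊤)
include hb hG

theorem mem_B {x : G} (hx : x ∈ normalizer (O.U : Set G)) : ∃ u ∈ O.U, ∃ y ∈ O.H, x = u * y := by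
  obtain ⟨w, u, hu, y, hy, u', hu', rfl⟩ := O.cell_of_mem hb (x := x) (hG ▸ mem_top x)
  have hw : O.wd w ∈ normalizer (O.U : Set G) := by
    simpa [mul_assoc] using mul_mem (mul_mem (inv_mem (mul_mem (le_normalizer hu) (O.h_norm _ hy))) hx)
      (inv_mem (le_normalizer hu'))
  rw [O.wd_eq_of_norm hb hw]
  exact ⟨u * (y * u' * y⁻¹), mul_mem hu (OC.pin_nm (O.h_norm _ hy) hu'), y, hy, by simp [OP.wd, mul_assoc]⟩

theorem card_B : Nat.card (normalizer (O.U : Set G)) = Nat.card K ^ 12 * (Nat.card K - 1) ^ 2 := by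
  have := Nat.card_eq_of_bijective (fun p : O.U × Kˣ × Kˣ => (⟨p.1 * O.h p.2,
      mul_mem (le_normalizer p.1.2) (O.h_norm _ ⟨_, rfl⟩)⟩ : normalizer (O.U : Set G))) ⟨fun p p' e => ?_, fun x => ?_⟩
  · rw [← this, Nat.card_prod, Nat.card_prod, Nat.card_units, O.card_pat (by decide) (by decide), sq]; rfl
  · have e' : (p.1 : G) * O.h p.2 = p'.1 * O.h p'.2 := congrArg Subtype.val e
    have : p.2 * p'.2⁻¹ = 1 := O.ti_h_eq_one (by
      rw [map_mul, map_inv, eq_inv_mul_of_mul_eq e', mul_assoc, mul_inv_cancel_right]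
      exact mul_mem (inv_mem p.1.2) p'.1.2)
    rw [mul_inv_eq_one] at this
    exact Prod.ext (Subtype.ext (mul_right_cancel (this ▸ e'))) this
  · obtain ⟨u, hu, _, ⟨y, rfl⟩, e⟩ := mem_B O hb hG x.2
    exact ⟨(⟨u, hu⟩, y), Subtype.ext e.symm⟩

theorem B_le {S : List (Fin 12)} (h : Cl [0, 1, 2, 3, 4, 5, 6, 7, 8, 9, 10, 11] S S) :
    normalizer (O.U : Set G) ≤ normalizer (O.pat S : Set G) := fun x hx => by
  obtain ⟨u, hu, y, hy, rfl⟩ := mem_B O hb hG hx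
  exact mul_mem (O.pat_norm h hu) (O.h_norm _ hy)

theorem card_P : Nat.card K ^ 2 * (Nat.card K ^ 12 * (Nat.card K - 1) ^ 2) ≤ Nat.card (normalizer (O.Z : Set G)) := by
  have hB := B_le O hb hG (S := [5]) (by decide)
  have h8 : O.n8 ∈ normalizer (O.Z : Set G) := mem_normalizer_iff.2 fun x => O.n8_conj (S := [5]) (by decide)
  have := Nat.card_le_card_of_injective (fun p : O.pat [10, 11] × normalizer (O.U : Set G) => (⟨p.1 * O.n8 * p.2,
      mul_mem (mul_mem (hB (le_normalizer (O.pat_le_U _ p.1.2))) h8) (hB p.2.2)⟩ : normalizer (O.Z : Set G)))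
    fun p p' e => ?_
  · rwa [Nat.card_prod, card_B O hb hG, O.card_pat (by decide) (by decide)] at this
  have e' : (p.1 : G) * O.n8 * p.2 = p'.1 * O.n8 * p'.2 := congrArg Subtype.val e
  have : (p'.1 : G)⁻¹ * p.1 = 1 := by
    by_contra h1
    obtain ⟨u, hu, y, hy, u', hu', h⟩ := O.ti_rank_one true (mul_mem (inv_mem p'.1.2) p.1.2) h1
    have h2 : O.n8 * ((p'.1 : G)⁻¹ * p.1) * O.n8 = p'.2 * (p.2 : G)⁻¹ := by
      calc _ = O.n8 * (p'.1 : G)⁻¹ * (p.1 * O.n8 * p.2) * (p.2 : G)⁻¹ := by group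
        _ = O.n8 * O.n8 * p'.2 * (p.2 : G)⁻¹ := by rw [e']; group
        _ = _ := by rw [O.n8_sq, one_mul]
    have h3 : u * y * O.n8 * u' ∈ normalizer (O.U : Set G) :=
      (h2.symm.trans h : _ = u * y * O.n8 * u') ▸ mul_mem p'.2.2 (inv_mem p.2.2)
    rw [mul_mem_cancel_right (le_normalizer hu'), mul_mem_cancel_left (mul_mem (le_normalizer hu) (O.h_norm _ hy))] at h3
    exact O.ti_n8_11 (OC.pin_nm h3 (O.g_mem_U _ _))
  rw [inv_mul_eq_one] at this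
  exact Prod.ext (Subtype.ext this.symm) (Subtype.ext (mul_left_cancel (this ▸ e')))

theorem no_two {Ω : Type*} [MulAction G Ω] (h5 : (O.n8 * O.g 11 1) ^ 5 = 1)
    (hQ : ∀ y ∈ O.Q, (O.n8 * O.n1) ^ 4 * y * ((O.n8 * O.n1) ^ 4)⁻¹ ∈ O.C → y = 1)
    {q : ℕ} (hK : Nat.card K = q) (hc : Nat.card G = q ^ 12 * (q - 1) * (q ^ 3 + 1) * (q ^ 4 - 1) * (q ^ 6 + 1))
    (h8 : 8 ≤ q) (hq : ¬ 5 ∣ q * (q - 1)) (H : TwoTr G Ω) (hB : BTr 2 G Ω) : False := by
  have : Fact (Nat.Prime 2) := ⟨Nat.prime_two⟩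
  have := H.finite
  have := H.nonempty
  have hT : TrOn (normalizer (O.U : Set G)) Ω :=
    hB ⟨O.U, O.isPGroup_pat _, fun h k => O.syl_G0 hb h (hG ▸ le_top) k⟩
  have hn : ¬ 5 ∣ Nat.card Ω := fun h => hq <| by
    have := h.trans hT.card_dvd
    rw [card_B O hb hG, hK, Nat.prime_five.dvd_mul] at this
    exact this.elim (fun h => (Nat.prime_five.dvd_of_dvd_pow h).mul_right _)
      fun h => (Nat.prime_five.dvd_of_dvd_pow h).mul_left _
  have hZV : O.Z ≤ O.V := O.pat_mono (by decide)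
  have n1τ : O.n1 * O.τ * O.n1⁻¹ = O.g 8 1 := O.n1_g 5 (by decide) 1
  have sV : Semi O.V Ω := H.line (p := 2) hT (lt_of_le_of_ne hZV fun e => O.z6_not_mem (e ▸ O.g_mem (by decide) 1))
    (fun g hg z hz => OC.pin_nm (B_le O hb hG (by decide) hg) hz)
    (fun g hg z hz => OC.pin_nm (B_le O hb hG (by decide) hg) hz) (O.isPGroup_pat _)
    (fun t ht h1 t' ht' h1' => by
      obtain ⟨y, -, rfl⟩ := O.conj_V ht h1
      obtain ⟨y', -, rfl⟩ := O.conj_V ht' h1'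
      rw [fx_conj, fx_conj])
    fun h => O.z6_not_mem (by
      rw [← n1τ, mem_center_iff.1 (h O.τ_mem), mul_inv_cancel_right]; exact O.τ_mem)
  have cz : ∀ i, O.zz i ∈ Cls O.Z := fun i => ⟨_, O.τ_mem, O.τ_ne, _, rfl⟩
  obtain ⟨s, hs, hp⟩ := H.numZ_pairY (P := normalizer (O.Z : Set G)) (fun g hg z hz => OC.pin_nm hg hz) (sV.mono hZV)
  have hp := hp _ (cz 0) _ (cz 4) (fun e => (O.zz_not_mem 4 (by decide) le_rfl).1 (e ▸ O.zz_zero ▸ O.τ_mem)) O.Q
    (fun y hy => O.zz_zero ▸ O.C_cent_Z (O.pat_le_C _ hy) O.τ_mem) fun y hy h => hQ y hy (by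
      have e : (O.n8 * O.n1) ^ 4 = ((O.n1 * O.n8) ^ (4 : ℤ))⁻¹ := by
        rw [← inv_zpow, mul_inv_rev, O.n8_inv, O.n1_inv, zpow_ofNat]
      rw [← O.cent_τ hb, hG, top_inf_eq, mem_centralizer_singleton_iff, e]
      have := h.eq
      rw [OP.zz] at this
      generalize (O.n1 * O.n8) ^ (4 : ℤ) = c at this
      calc _ = c⁻¹ * (y * (c * O.τ * c⁻¹)) * c := by group
        _ = _ := by rw [this]; group)
  have hu : (O.zz 0)⁻¹ * O.zz 4 = (O.n1 * O.n8) ^ (2 : ℤ) * (O.n8 * O.g 11 1) ^ 2 * ((O.n1 * O.n8) ^ (2 : ℤ))⁻¹ := by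
    rw [O.zz_inv, show (0 : ℤ) = 2 + -2 by rfl, show (4 : ℤ) = 2 + 2 by rfl, ← O.c_zz, ← O.c_zz, O.zz_neg_two,
      O.zz_two, O.n8_inv, sq]
    group
  have f0 : 0 < fx Ω ((O.zz 0)⁻¹ * O.zz 4) := fx_pos (j := 1) Nat.prime_five hn fun a => by
    rw [hu, conj_pow, ← pow_mul, pow_one, mul_comm 2, pow_mul, h5]; simp
  have s11 : ∀ t, t ≠ 0 → ∀ a : Ω, O.g 11 t • a ≠ a := fun t ht => sV.cls
    ⟨O.g 8 t, O.g_mem (by decide) t, mt O.g_eq_one.1 ht, O.n1 * O.n8, by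
      rw [← show _ = O.g 11 t from O.n1_g 2 (by decide) t, ← show _ = O.g 2 t from O.n8_g 8 (by decide) t]
      group⟩
  have sS : Semi (O.pat [10, 11]) Ω := fun z hz h1 a ha => by
    obtain ⟨s, v, rfl⟩ := O.mem_U8.1 hz
    by_cases h0 : s = 0
    · rw [h0, O.g_zero, one_mul] at h1 ha
      exact s11 v (mt O.g_eq_one.2 h1) a ha
    · refine s11 (s * σ s) (mul_ne_zero h0 ((map_ne_zero σ).2 h0)) a ?_
      rw [← show O.g 10 s * O.g 11 v * (O.g 10 s * O.g 11 v) = O.g 11 (s * σ s) by simp only [O.col], mul_smul, ha, ha]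
  have f2 := Nat.le_of_dvd f0 (sS.card_dvd_fx fun z hz =>
    (O.cz_u8 0 le_rfl (by decide) z hz).inv_right.mul_right (O.cz_u8 4 (by decide) le_rfl z hz))
  have hP := Nat.mul_le_mul_left (normalizer (O.Z : Set G)).index (card_P O hb hG)
  rw [index_mul_card, hc, hK] at hP
  rw [O.card_pat (by decide) (by decide), hK] at hs hp f2
  simp only [List.length_cons, List.length_nil, Nat.reduceAdd, pow_one, zero_add] at hs hp f2
  have h3 := H.big
  generalize (normalizer (O.Z : Set G)).index = I at *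
  generalize fx Ω ((O.zz 0)⁻¹ * O.zz 4) = f at *
  generalize Nat.card Ω = n at *
  have a1 : I * (q - 1) * q ^ 2 ≤ (q ^ 3 + 1) * (q ^ 4 - 1) * (q ^ 6 + 1) :=
    Nat.le_of_mul_le_mul_left (by linarith) (Nat.mul_pos (by positivity) (by omega) : 0 < q ^ 12 * (q - 1))
  have a2 : (q ^ 3 + 1) * (q ^ 4 - 1) * (q ^ 6 + 1) < 2 * q ^ 3 * q ^ 4 * (2 * q ^ 6) := by
    have : 0 < q ^ 3 := by positivity
    have : 0 < q ^ 4 := by positivity
    have : 0 < q ^ 6 := by positivity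
    exact Nat.mul_lt_mul_of_lt_of_le (Nat.mul_lt_mul_of_le_of_lt (by omega) (by omega) (by omega)) (by omega) (by omega)
  have a3 : n * s ≤ 2 * ((n - 1) * s) := by rw [← mul_assoc]; gcongr; omega
  have a4 : q ^ 10 * q ^ 2 ≤ 2 * (I * (q - 1)) := by nlinarith [Nat.mul_le_mul_left (q ^ 10) f2]
  have a5 : 8 * q ^ 13 ≤ q * q ^ 13 := by gcongr
  nlinarith [Nat.mul_le_mul_right (q ^ 2) a4]

end TF

variable {F : Type} [Field F] [Fintype F] {Ω : Type*}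

theorem tf4 {m : ℕ} (hm : 1 ≤ m) (hF : Fintype.card F = 2 ^ (2 * m + 1)) [MulAction (Lie.twistedF4 F (2 ^ m)) Ω]
    (H : TwoTr (Lie.twistedF4 F (2 ^ m)) Ω) (hB : BTr 2 (Lie.twistedF4 F (2 ^ m)) Ω) : False := by
  obtain ⟨σ, sz, O, hb, hG, h5, hQ, hc⟩ := TF.model hF
  refine TF.no_two O hb hG h5 hQ Nat.card_eq_fintype_card hc ?_ ?_ H hB <;> rw [hF]
  · exact Nat.pow_le_pow_right (n := 2) (i := 3) two_pos (by omega)
  · have : ∀ k, 2 ^ (2 * k + 1) % 5 = 2 ∨ 2 ^ (2 * k + 1) % 5 = 3 := fun k => by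
      induction k with
      | zero => simp
      | succ k ih => rw [show 2 * (k + 1) + 1 = 2 * k + 1 + 2 by ring, pow_add]; omega
    have := this m
    rw [Nat.prime_five.dvd_mul]
    omega

end CfsgLib.CKS
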