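import Mathlib
import Cfsg.Agent.Lib.LieAll.Small
import Cfsg.Agent.Lib.CKS.BtrL
import Cfsg.Agent.Lib.CKS.GenB
import Cfsg.Agent.Lib.CKS.GenD
import Cfsg.Agent.Lib.CKS.GenF
import Cfsg.Agent.Lib.CKS.Par
import Cfsg.Agent.Lib.CKS.Lin0
import Cfsg.Agent.Lib.CKS.Lin1
import Cfsg.Agent.Lib.CKS.Lin2
import Cfsg.Agent.Lib.CKS.Ree
import Cfsg.Agent.Lib.CKS.Su
import Cfsg.Agent.Lib.CKS.Sp
import Cfsg.Agent.Lib.CKS.Sp2
import Cfsg.Agent.Lib.CKS.G2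
import Cfsg.Agent.Lib.CKS.F4
import Cfsg.Agent.Lib.CKS.F42
import Cfsg.Agent.Lib.CKS.TF4
import Cfsg.Agent.Lib.CKS.LtE
import Cfsg.Agent.Lib.CKS.D4
import Cfsg.Agent.Lib.CKS.Orth3
import Cfsg.Agent.S0255

/-! CKS, package MAIN: the doubly transitive actions of the groups of Lie type. -/

namespace CfsgLib.CKS
open Cfsg MulAction

theorem not_isSolvable {p : ℕ} {G : Type*} [Group G] (h : IsLieTypeChar p G) : ¬ Group.IsSolvable G := by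
  intro hs
  have := LieAll.isSimpleGroup h
  obtain ⟨D, ⟨e⟩, -⟩ := LieAll.exists_mdl h
  obtain ⟨x, hx⟩ := exists_ne (1 : G)
  refine hx (e.injective (Subtype.ext ?_))
  rw [map_one]
  refine D.good.eq_one_of_central (e x).2 fun y hy => ?_
  have := congrArg (fun g => ((e g : D.M) : D.G)) (IsSimpleGroup.comm_iff_isSolvable.2 hs x (e.symm ⟨y, hy⟩))
  simpa using this

theorem TwoTr.transfer {G X : Type*} [Group G] [Group X] {Ω : Type*} [MulAction G Ω] (H : TwoTr G Ω) (e : G ≃* X) :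
    ∃ _ : MulAction X Ω, TwoTr X Ω :=
  letI := MulAction.compHom Ω e.symm.toMonoidHom
  ⟨this, H.of_equiv e.symm fun _ _ => rfl⟩

theorem eq_of_card {p : ℕ} [Fact p.Prime] {F : Type} [Field F] [Fintype F] [CharP F p] {r : ℕ} (hr : r.Prime)
    (h : Fintype.card F = r) : p = r := by
  obtain ⟨n, -, hn⟩ := FiniteField.card F p
  exact (Nat.prime_dvd_prime_iff_eq Fact.out hr).1 (by rw [← h, hn]; exact dvd_pow_self _ n.ne_zero)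

theorem lin {F : Type} [Field F] [Fintype F] {Ω : Type*} {d : ℕ} (hd : 3 ≤ d) [MulAction (PSL d F) Ω]
    (H : TwoTr (PSL d F) Ω) : Concl (PSL d F) (Nat.card Ω) := by
  obtain ⟨p, hc, n, hp, -⟩ := FiniteField.card' F
  have := Fact.mk hp
  by_cases h : p ∣ Nat.card Ω
  · obtain ⟨rfl, h1, h2⟩ | ⟨rfl, h1⟩ := lin1 hd H (btr_psl hd H h)
    · exact .inr (.inr (.inr (.inr (.inr (.inr (.inr (.inl ⟨F, _, _, h1, ⟨.refl _⟩, h2⟩)))))))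
    · have h2 := lin2 H h1
      have : Fact (Nat.Prime 7) := ⟨by norm_num⟩
      obtain ⟨e⟩ := Agent.S0255.result (ZMod.card 7) h2
      exact .inr (.inl ⟨ZMod 7, _, _, by rw [ZMod.card]; norm_num, ⟨e.symm⟩, by rw [h1, h2, ZMod.card]; norm_num⟩)
  · exact .inl ⟨F, _, _, d, hd, ⟨.refl _⟩, lin0 hd H h⟩

theorem main {G : Type*} [Group G] [Finite G] {Ω : Type*} [MulAction G Ω] [FaithfulSMul G Ω] {p : ℕ} [Fact p.Prime]
    (hG : IsLieTypeChar p G) (H : TwoTr G Ω) : Concl G (Nat.card Ω) := by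
  by_cases hp : p ∣ Nat.card Ω
  swap
  · obtain ⟨F, _, _, d, hd, ⟨e⟩⟩ | h := par hG H hp
    · obtain ⟨_, H⟩ := H.transfer e
      exact (lin hd H).of_equiv e
    · exact h
  obtain ⟨F, _, _, _, n, h1, h2, ⟨e⟩⟩ | ⟨F, _, _, _, n, h1, h2, ⟨e⟩⟩ | ⟨F, _, _, _, n, q, hF, h1, h2, ⟨e⟩⟩ |
    ⟨F, _, _, _, n, h1, h2, ⟨e⟩⟩ | ⟨F, _, _, _, n, h1, ⟨e⟩⟩ | ⟨F, _, _, _, n, a, b, h1, h2, ⟨e⟩⟩ |
    ⟨F, _, _, _, ⟨h, ⟨e⟩⟩ | ⟨⟨e⟩⟩ | ⟨⟨e⟩⟩ | ⟨⟨e⟩⟩ | ⟨⟨e⟩⟩⟩ | ⟨F, _, _, _, q, hq, ⟨hF, ⟨e⟩⟩ | ⟨hF, ⟨e⟩⟩⟩ |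
    ⟨rfl, F, _, _, m, h1, hF, ⟨e⟩⟩ | ⟨rfl, F, _, _, m, h1, hF, ⟨e⟩⟩ | ⟨rfl, F, _, _, m, h1, hF, ⟨e⟩⟩ := hG <;>
    obtain ⟨_, H⟩ := H.transfer e
  · obtain rfl | h3 := h1.eq_or_lt
    · exact (psl2 (h2 rfl) H).of_equiv e
    · exact (lin h3 H).of_equiv e
  · obtain h3 | h3 := (show 2 ≤ Fintype.card F from Fintype.one_lt_card).eq_or_lt
    · obtain rfl := eq_of_card (p := p) Nat.prime_two h3.symm
      have h4 : 3 ≤ n := by omega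
      exact .inr (.inr (.inr (.inr (.inr (.inr (.inr (.inr ⟨F, _, _, n, h4, h3.symm, ⟨e⟩, sp2 h4 h3.symm H hp⟩)))))))
    · exact (sp h1 h3 H (btr_psp h1 h3 H hp)).elim
  · exact (su hF h1 h2 H (btr_psu hF h1 H hp)).elim
  · exact (o_odd h1 h2 H (btr_odd h1 h2 H hp)).elim
  · exact (o_plus h1 H (btr_plus h1 H hp)).elim
  · exact (o_minus h1 h2 H (btr_minus h1 h2 H hp)).elim
  · obtain h3 | h3 := h.eq_or_lt
    · obtain rfl := eq_of_card (p := p) Nat.prime_three h3.symm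
      exact (g2 h H (btr_G23 h3.symm H hp)).elim
    · exact (g2 h H (btr_G2 h3 H hp)).elim
  · obtain h3 | h3 := (show 2 ≤ Fintype.card F from Fintype.one_lt_card).eq_or_lt
    · obtain rfl := eq_of_card (p := p) Nat.prime_two h3.symm
      exact (f4 H (btr_F42 h3.symm H hp)).elim
    · exact (f4 H (btr_F4 h3 H hp)).elim
  · exact (e6 H (btr_E6 H hp)).elim
  · exact (e7 H (btr_E7 H hp)).elim
  · exact (e8 H (btr_E8 H hp)).elim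
  · exact (te6 hq hF H (btr_2E6 hq hF H hp)).elim
  · exact (td4 hq hF H (btr_3D4 hq hF H hp)).elim
  · exact .inr (.inr (.inr (.inl ⟨F, _, _, m, h1, hF, ⟨e⟩, sz h1 hF H⟩)))
  · exact (tf4 h1 hF H (btr_2F4 h1 hF H hp)).elim
  · exact (ree h1 hF H (btr_ree hF H hp)).elim

end CfsgLib.CKS
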